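import Cfsg.Agent.Lib.GW.Defs

/-!
# Groups with a four-group as Sylow `2`-subgroup: elementary facts
-/

set_option autoImplicit false

namespace CfsgLib.GW

open Subgroup Cfsg CfsgLib.FT.BGN CfsgLib.FT.U4
open scoped commutatorElement

variable {G : Type*} [Group G]

/-! ### `E4` -/

theorem E4.of_injective (h : E4 G) {X : Type*} [Group X] (f : X →* G) (hf : Function.Injective f) :
    E4 X :=
  ⟨fun h8 => h.not8 (h8.trans (card_dvd_of_injective f hf)),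
    fun g h4 => h.not4 (f g) (by rwa [orderOf_injective f hf])⟩

theorem E4.subgroup (h : E4 G) (H : Subgroup G) : E4 H := h.of_injective H.subtype H.subtype_injective

theorem E4.of_surjective (h : E4 G) {X : Type*} [Group X] (f : G →* X)
    (hf : Function.Surjective f) : E4 X :=
  ⟨fun h8 => h.not8 (h8.trans (card_dvd_of_surjective f hf)), fun g h4 => by
    obtain ⟨x, rfl⟩ := hf g
    exact h.not4 x (h4.trans (orderOf_map_dvd f x))⟩

theorem E4.not8_sub (h : E4 G) (H : Subgroup G) : ¬ 8 ∣ Nat.card H := (h.subgroup H).not8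

theorem mul_self_of_inv {t : G} (h : orderOf t = 2) : t * t = 1 := by
  rw [← sq, ← h, pow_orderOf_eq_one]

theorem inv_of_inv {t : G} (h : orderOf t = 2) : t⁻¹ = t :=
  inv_eq_of_mul_eq_one_right (mul_self_of_inv h)

theorem ne_one_of_inv {t : G} (h : orderOf t = 2) : t ≠ 1 := by
  rintro rfl
  simp at h

theorem inv_of_mul_self {t : G} (h : t * t = 1) (h1 : t ≠ 1) : orderOf t = 2 :=
  orderOf_eq_prime (by rwa [sq]) h1

theorem mem_zpowers_inv {t x : G} (h : orderOf t = 2) : x ∈ zpowers t ↔ x = 1 ∨ x = t := by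
  constructor
  · rintro ⟨n, rfl⟩
    rcases Int.emod_two_eq_zero_or_one n with hn | hn
    · left
      have := zpow_mod_orderOf t n
      rw [h] at this
      simp only [Nat.cast_ofNat, hn, zpow_zero] at this
      exact this.symm
    · right
      have := zpow_mod_orderOf t n
      rw [h] at this
      simp only [Nat.cast_ofNat, hn, zpow_one] at this
      exact this.symm
  · rintro (rfl | rfl)
    exacts [one_mem _, mem_zpowers _]

theorem card_zpowers_inv {t : G} (h : orderOf t = 2) : Nat.card (zpowers t) = 2 := by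
  rw [Nat.card_zpowers, h]

theorem E4.mul_self [Finite G] (h : E4 G) {x : G} (hx : IsPGroup 2 (zpowers x)) : x * x = 1 := by
  obtain ⟨k, hk⟩ := isPGroup_zpowers_iff.1 hx
  have h4 := h.not4 x
  rw [hk] at h4
  rw [← sq, ← orderOf_dvd_iff_pow_eq_one, hk]
  rcases k with _ | _ | k
  · simp
  · simp
  · exact absurd ⟨2 ^ k, by ring⟩ h4

theorem E4.mul_self_of_mem [Finite G] (h : E4 G) {P : Subgroup G} (hP : IsPGroup 2 P) {x : G}
    (hx : x ∈ P) : x * x = 1 := h.mul_self (hP.to_le (zpowers_le.2 hx))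

theorem E4.comm_of_mem [Finite G] (h : E4 G) {P : Subgroup G} (hP : IsPGroup 2 P) {x y : G}
    (hx : x ∈ P) (hy : y ∈ P) : x * y = y * x := by
  have h1 := h.mul_self_of_mem hP hx
  have h2 := h.mul_self_of_mem hP hy
  have h3 := h.mul_self_of_mem hP (mul_mem hx hy)
  calc x * y = (x * y)⁻¹ := (inv_eq_of_mul_eq_one_right h3).symm
    _ = y * x := by
      rw [mul_inv_rev, inv_eq_of_mul_eq_one_right h1, inv_eq_of_mul_eq_one_right h2]

theorem E4.abTwo [Finite G] (h : E4 G) : H1.AbTwo G :=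
  H1.abTwo_of_sylow fun S => ⟨⟨fun x y => Subtype.ext (h.comm_of_mem S.isPGroup' x.2 y.2)⟩⟩

/-- Decomposition of an element into its `2`-part and its odd part. -/
theorem E4.exists_two_part [Finite G] (h : E4 G) (x : G) :
    ∃ v ∈ zpowers x, ∃ u ∈ zpowers x, x = v * u ∧ v * u = u * v ∧ v * v = 1 ∧ Odd (orderOf u) := by
  obtain ⟨v, hv, u, hu, e, hc, hk, ho⟩ := exists_p_part Nat.prime_two x
  exact ⟨v, hv, u, hu, e, hc.eq, h.mul_self (isPGroup_zpowers_iff.2 hk),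
    Nat.coprime_two_right.1 ho⟩

theorem odd_orderOf_of_mem {H : Subgroup G} (h : Odd (Nat.card H)) {x : G} (hx : x ∈ H) :
    Odd (orderOf x) := h.of_dvd_nat (H.orderOf_dvd_natCard hx)

theorem odd_card_of_forall [Finite G] {H : Subgroup G} (h : ∀ x ∈ H, orderOf x ≠ 2) :
    Odd (Nat.card H) := by
  rw [← Nat.not_even_iff_odd, even_iff_two_dvd]
  intro h2
  obtain ⟨x, hx⟩ := exists_prime_orderOf_dvd_card' (G := H) 2 h2
  exact h x x.2 (by rwa [orderOf_coe])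

theorem exists_inv_of_not_odd [Finite G] {H : Subgroup G} (h : ¬ Odd (Nat.card H)) :
    ∃ x ∈ H, orderOf x = 2 := by
  by_contra hc
  push Not at hc
  exact h (odd_card_of_forall hc)

theorem odd_card_of_le {H K : Subgroup G} (h : Odd (Nat.card K)) (hle : H ≤ K) :
    Odd (Nat.card H) := h.of_dvd_nat (card_dvd_of_le hle)

theorem odd_card_of_isPGroup [Finite G] {p : ℕ} (hp : p.Prime) (hp2 : p ≠ 2) {P : Subgroup G}
    (h : IsPGroup p P) : Odd (Nat.card P) := by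
  have : Fact p.Prime := ⟨hp⟩
  obtain ⟨k, hk⟩ := IsPGroup.iff_card.1 h
  rw [hk]
  exact (hp.odd_of_ne_two hp2).pow

theorem solvable_of_odd [Finite G] {H : Subgroup G} (h : Odd (Nat.card H)) : Group.IsSolvable H :=
  FT.feit_thompson h

theorem eq_one_of_odd_of_mul_self {x : G} (ho : Odd (orderOf x)) (h : x * x = 1) : x = 1 := by
  have h1 : orderOf x ∣ 2 := orderOf_dvd_of_pow_eq_one (by rwa [sq])
  rcases (Nat.dvd_prime Nat.prime_two).1 h1 with h2 | h2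
  · exact orderOf_eq_one_iff.1 h2
  · rw [h2] at ho
    exact absurd ho (by decide)

theorem eq_one_of_inv_of_comm {s x : G} (ho : Odd (orderOf x)) (h1 : s * x * s⁻¹ = x⁻¹)
    (h2 : x * s = s * x) : x = 1 := by
  refine eq_one_of_odd_of_mul_self ho ?_
  rw [← h2, mul_inv_cancel_right] at h1
  nth_rewrite 1 [h1]
  exact inv_mul_cancel x

theorem mem_zpowers_sq [Finite G] {x : G} (ho : Odd (orderOf x)) : x ∈ zpowers (x * x) := by
  rw [← sq]
  exact mem_zpowers_pow_iff.2 (Nat.coprime_two_left.2 ho)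

theorem exists_sqrt [Finite G] {x : G} (ho : Odd (orderOf x)) : ∃ y ∈ zpowers x, y * y = x := by
  obtain ⟨n, hn⟩ := mem_zpowers_sq ho
  refine ⟨x ^ n, ⟨n, rfl⟩, ?_⟩
  rw [← (Commute.refl x).mul_zpow]
  exact hn

/-! ### Four-groups -/

namespace Four

variable {t s : G} (h : Four t s)
include h

theorem tt : t * t = 1 := mul_self_of_inv h.ot
theorem ss : s * s = 1 := mul_self_of_inv h.os
theorem ti : t⁻¹ = t := inv_of_inv h.ot
theorem si : s⁻¹ = s := inv_of_inv h.os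
theorem t1 : t ≠ 1 := ne_one_of_inv h.ot
theorem s1 : s ≠ 1 := ne_one_of_inv h.os

theorem symm : Four s t := ⟨h.os, h.ot, h.comm.symm, h.ne.symm⟩

theorem ts1 : t * s ≠ 1 := fun e => h.ne (by rw [← h.si]; exact eq_inv_of_mul_eq_one_left e)

theorem ots : orderOf (t * s) = 2 :=
  inv_of_mul_self (by rw [mul_assoc, ← mul_assoc s, ← h.comm, mul_assoc, h.ss, mul_one, h.tt]) h.ts1

theorem mul : Four t (t * s) :=
  ⟨h.ot, h.ots, by rw [mul_assoc, h.comm], fun e => h.s1 (by simpa using e)⟩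

theorem conj (g : G) : Four (g * t * g⁻¹) (g * s * g⁻¹) :=
  ⟨by rw [orderOf_conj, h.ot], by rw [orderOf_conj, h.os],
    by rw [conj_mul, conj_mul, h.comm], fun e => h.ne (by simpa using e)⟩

theorem map {X : Type*} [Group X] (f : G →* X) (h1 : f t ≠ 1) (h2 : f s ≠ 1) (h3 : f (t * s) ≠ 1) :
    Four (f t) (f s) :=
  ⟨inv_of_mul_self (by rw [← map_mul, h.tt, map_one]) h1,
    inv_of_mul_self (by rw [← map_mul, h.ss, map_one]) h2, by rw [← map_mul, ← map_mul, h.comm],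
    fun e => h3 (by rw [map_mul, e, ← map_mul, h.ss, map_one])⟩

theorem s_cent : s ∈ 𝐂[t] := mem_cent1'.2 h.comm

theorem norm : zpowers t ≤ 𝐍(zpowers s) :=
  le_trans (zpowers_le.2 (by rw [cent_zpowers]; exact mem_cent1.2 h.comm)) (cent_le_norm _)

theorem mem_V {x : G} : x ∈ V t s ↔ x = 1 ∨ x = t ∨ x = s ∨ x = t * s := by
  rw [V, mem_sup_iff_of_le_normalizer h.norm]
  simp only [mem_zpowers_inv h.ot, mem_zpowers_inv h.os]
  constructor
  · rintro ⟨a, rfl | rfl, b, rfl | rfl, rfl⟩ <;> simp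
  · rintro (rfl | rfl | rfl | rfl)
    · exact ⟨1, Or.inl rfl, 1, Or.inl rfl, by simp⟩
    · exact ⟨_, Or.inr rfl, 1, Or.inl rfl, by simp⟩
    · exact ⟨1, Or.inl rfl, _, Or.inr rfl, by simp⟩
    · exact ⟨_, Or.inr rfl, _, Or.inr rfl, rfl⟩

theorem card_V : Nat.card (V t s) = 4 := by
  rw [V, card_sup_of_disjoint h.norm, card_zpowers_inv h.ot, card_zpowers_inv h.os]
  refine eq_bot_of_forall fun x ⟨h1, h2⟩ => ?_
  rcases (mem_zpowers_inv h.ot).1 h1 with rfl | rfl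
  · rfl
  · exact ((mem_zpowers_inv h.os).1 h2).resolve_right h.ne

theorem isPGroup_V : IsPGroup 2 (V t s) := IsPGroup.of_card (n := 2) h.card_V

theorem V_mul : V t (t * s) = V t s := by
  ext x
  rw [h.mul.mem_V, h.mem_V, ← mul_assoc, h.tt, one_mul]
  tauto

theorem mul_self_of_mem {x : G} (hx : x ∈ V t s) : x * x = 1 := by
  rcases h.mem_V.1 hx with rfl | rfl | rfl | rfl
  exacts [mul_one _, h.tt, h.ss, mul_self_of_inv h.ots]

theorem V_le_cent : V t s ≤ 𝐂(V t s) := by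
  have h1 : V t s ≤ 𝐂[t] := sup_le (zpowers_le_cent1 t) (zpowers_le.2 h.s_cent)
  have h2 : V t s ≤ 𝐂[s] := sup_le (zpowers_le.2 h.symm.s_cent) (zpowers_le_cent1 s)
  rw [V, cent_sup, cent_zpowers, cent_zpowers]
  exact le_inf h1 h2

theorem comm_V : IsMulCommutative (V t s) :=
  ⟨⟨fun x y => Subtype.ext (mem_cent.1 (h.V_le_cent y.2) x x.2)⟩⟩

theorem not_cyclic : ¬ IsCyclic (V t s) := by
  intro hc
  obtain ⟨x, hx⟩ := exists_zpowers_eq hc
  have h1 : orderOf x ∣ 2 := orderOf_dvd_of_pow_eq_one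
    (by rw [sq]; exact h.mul_self_of_mem (hx ▸ mem_zpowers x))
  rw [← Nat.card_zpowers, hx, h.card_V] at h1
  omega

end Four

theorem t_mem_V (t s : G) : t ∈ V t s := mem_sup_left (mem_zpowers t)
theorem s_mem_V (t s : G) : s ∈ V t s := mem_sup_right (mem_zpowers s)
theorem V_le {t s : G} {H : Subgroup G} (h1 : t ∈ H) (h2 : s ∈ H) : V t s ≤ H :=
  sup_le (zpowers_le.2 h1) (zpowers_le.2 h2)
theorem V_comm (t s : G) : V t s = V s t := sup_comm _ _
theorem cent_V (t s : G) : 𝐂(V t s) = 𝐂[t] ⊓ 𝐂[s] := by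
  rw [V, cent_sup, cent_zpowers, cent_zpowers]
theorem V_conj (g t s : G) : V (g * t * g⁻¹) (g * s * g⁻¹) = g •ᶜ V t s := by
  rw [V, V, conj_sup, zpowers_conj, zpowers_conj]
theorem le_norm_of_V {t s : G} {H : Subgroup G} (h1 : t ∈ 𝐍(H)) (h2 : s ∈ 𝐍(H)) : V t s ≤ 𝐍(H) :=
  V_le h1 h2

theorem Four.V_le_cent1 {t s : G} (h : Four t s) : V t s ≤ 𝐂[t] := V_le (self_mem_cent1 t) h.s_cent

theorem Four.V_eq {t s u v : G} (h : Four t s) [Finite G] (h' : Four u v) (hu : u ∈ V t s)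
    (hv : v ∈ V t s) : V u v = V t s :=
  eq_of_le_of_card_le (V_le hu hv) (by rw [h.card_V, h'.card_V])

theorem Four.coprime_V {t s : G} (h : Four t s) {n : ℕ} (hn : Odd n) :
    (Nat.card (V t s)).Coprime n := by
  rw [h.card_V]
  exact Nat.Coprime.pow_left 2 (Nat.coprime_two_left.2 hn)

theorem coprime_zpowers_inv {t : G} (h : orderOf t = 2) {n : ℕ} (hn : Odd n) :
    (Nat.card (zpowers t)).Coprime n := by
  rw [card_zpowers_inv h]
  exact Nat.coprime_two_left.2 hn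

variable [Finite G]

theorem Four.sylow (hG : E4 G) {t s : G} (h : Four t s) {H : Subgroup G} (hH : V t s ≤ H) :
    IsSylowIn 2 (V t s) H := by
  refine ⟨hH, h.isPGroup_V, fun ⟨m, hm⟩ => hG.not8_sub H ⟨m, ?_⟩⟩
  rw [← card_mul_relIndex hH, h.card_V, hm]
  ring

theorem Four.four_dvd {t s : G} (h : Four t s) {H : Subgroup G} (h1 : t ∈ H) (h2 : s ∈ H) :
    4 ∣ Nat.card H := h.card_V ▸ card_dvd_of_le (V_le h1 h2)

/-- A `2`-subgroup normalized by a four-group lies in it. -/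
theorem Four.le_V (hG : E4 G) {t s : G} (h : Four t s) {Q : Subgroup G} (hQ : IsPGroup 2 Q)
    (hn : V t s ≤ 𝐍(Q)) : Q ≤ V t s :=
  le_sup_right.trans ((h.sylow hG le_top).eq_of_le
    (H1.isPGroup_sup_of_le_normalizer h.isPGroup_V hQ hn) le_sup_left le_top).le

theorem Four.mem_V_of_cent (hG : E4 G) {t s x : G} (h : Four t s) (hx : x * x = 1)
    (hc : x ∈ 𝐂(V t s)) : x ∈ V t s := by
  refine h.le_V hG (Q := zpowers x) ?_ ((le_centralizer_iff.1 (zpowers_le.2 hc)).trans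
    (cent_le_norm _)) (mem_zpowers x)
  have h1 : orderOf x ∣ 2 := orderOf_dvd_of_pow_eq_one (by rwa [sq])
  obtain ⟨k, -, hk⟩ := (Nat.dvd_prime_pow (m := 1) Nat.prime_two).1 (by simpa using h1)
  exact isPGroup_zpowers_iff.2 ⟨k, hk⟩

theorem Four.le_V' (hG : E4 G) {t s x : G} (h : Four t s) (hx : x * x = 1)
    (hc : x ∈ 𝐍(V t s)) : x ∈ V t s := by
  have h1 : orderOf x ∣ 2 := orderOf_dvd_of_pow_eq_one (by rwa [sq])
  obtain ⟨k, -, hk⟩ := (Nat.dvd_prime_pow (m := 1) Nat.prime_two).1 (by simpa using h1)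
  exact ((h.sylow hG le_top).eq_of_le (H1.isPGroup_sup_of_le_normalizer
    (isPGroup_zpowers_iff.2 ⟨k, hk⟩) h.isPGroup_V (zpowers_le.2 hc)) le_sup_right le_top).le
    (mem_sup_left (mem_zpowers x))

theorem isPGroup_zpowers_inv {t : G} (h : orderOf t = 2) : IsPGroup 2 (zpowers t) :=
  isPGroup_zpowers_iff.2 ⟨1, by simpa using h⟩

theorem exists_four (hG : E4 G) {M : Subgroup G} {t : G} (ht : orderOf t = 2) (hM : t ∈ M)
    (h4 : 4 ∣ Nat.card M) : ∃ s ∈ M, Four t s := by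
  obtain ⟨S, h1, hS⟩ := IsSylowIn.exists_ge (isPGroup_zpowers_inv ht) (zpowers_le.2 hM)
  have h2 : ¬ S ≤ zpowers t := fun hle => by
    have e := le_antisymm hle h1
    have h3 := card_mul_relIndex hS.le
    have h5 := hS.not_dvd
    rw [e, card_zpowers_inv ht] at h3
    rw [e] at h5
    omega
  obtain ⟨s, hs, hs'⟩ := SetLike.not_le_iff_exists.1 h2
  rw [mem_zpowers_inv ht, not_or] at hs'
  exact ⟨s, hS.le hs, ht, inv_of_mul_self (hG.mul_self_of_mem hS.isPGroup hs) hs'.1,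
    hG.comm_of_mem hS.isPGroup (h1 (mem_zpowers t)) hs, Ne.symm hs'.2⟩

theorem exists_four' (hG : E4 G) {M : Subgroup G} (h4 : 4 ∣ Nat.card M) :
    ∃ t ∈ M, ∃ s ∈ M, Four t s := by
  obtain ⟨t, ht, ho⟩ := exists_inv_of_not_odd (H := M) (by
    rw [Nat.not_odd_iff_even, even_iff_two_dvd]; exact (by decide : 2 ∣ 4).trans h4)
  exact ⟨t, ht, exists_four hG ho ht h4⟩

/-- Every involution of `M` is conjugate into a given four-subgroup. -/
theorem Four.exists_conj_mem (hG : E4 G) {t s u : G} (h : Four t s) {M : Subgroup G}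
    (hM : V t s ≤ M) (hu : orderOf u = 2) (huM : u ∈ M) : ∃ g ∈ M, g * u * g⁻¹ ∈ V t s := by
  obtain ⟨g, hg, hle⟩ := (h.sylow hG hM).exists_conj_le (isPGroup_zpowers_inv hu) (zpowers_le.2 huM)
  exact ⟨g, hg, hle (conj_mem_map_conj (mem_zpowers u))⟩

theorem Four.exists_conj_eq (hG : E4 G) {t s u v : G} (h : Four t s) (h' : Four u v)
    {M : Subgroup G} (hM : V t s ≤ M) (hM' : V u v ≤ M) : ∃ g ∈ M, g •ᶜ V u v = V t s :=
  (h.sylow hG hM).exists_conj_eq (h'.sylow hG hM')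

/-- A normal subgroup of order divisible by `4` contains all involutions. -/
theorem mem_of_four_dvd (hG : E4 G) {M L : Subgroup G} (hL : L ≤ M) (hn : M ≤ 𝐍(L))
    (h4 : 4 ∣ Nat.card L) {u : G} (hu : orderOf u = 2) (huM : u ∈ M) : u ∈ L := by
  obtain ⟨t, ht, s, hs, h⟩ := exists_four' hG h4
  obtain ⟨g, hg, h1⟩ := h.exists_conj_mem hG ((V_le ht hs).trans hL) hu huM
  simpa [mul_assoc] using conj_mem_of_mem_normalizer' (hn hg) (V_le ht hs h1)

theorem OneCl.mem_of_not_odd {M W : Subgroup G} (h : OneCl M) (hW : W ≤ M) (hn : M ≤ 𝐍(W))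
    (ho : ¬ Odd (Nat.card W)) {u : G} (hu : orderOf u = 2) (huM : u ∈ M) : u ∈ W := by
  obtain ⟨v, hv, hv2⟩ := exists_inv_of_not_odd ho
  obtain ⟨g, hg, rfl⟩ := h v (hW hv) u huM hv2 hu
  exact conj_mem_of_mem_normalizer (hn hg) hv

/-! ### `O(M)` -/

omit [Finite G] in
theorem Od_le (M : Subgroup G) : Od M ≤ M := H1.piCoreOf_le M

theorem odd_Od (M : Subgroup G) : Odd (Nat.card (Od M)) :=
  Nat.coprime_two_right.1 (H1.piCoreOf_compl_coprime 2 M)

theorem norm_le_norm_Od (M : Subgroup G) : 𝐍(M) ≤ 𝐍(Od M) := H1.normalizer_le_normalizer_piCoreOf M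

theorem le_norm_Od (M : Subgroup G) : M ≤ 𝐍(Od M) := H1.le_normalizer_piCoreOf M

omit [Finite G] in
theorem le_Od {M A : Subgroup G} (h1 : A ≤ M) (h2 : M ≤ 𝐍(A)) (h : Odd (Nat.card A)) : A ≤ Od M :=
  H1.le_piCoreOf_compl h1 h2 (Nat.coprime_two_right.2 h)

theorem Od_conj (g : G) (M : Subgroup G) : Od (g •ᶜ M) = g •ᶜ Od M := H1.piCoreOf_map_conj M g

theorem Od_inf_le {M H : Subgroup G} (h : H ≤ M) : Od M ⊓ H ≤ Od H := H1.piCoreOf_inf_le h

theorem Od_le_Od {M H : Subgroup G} (h : H ≤ M) (hn : M ≤ 𝐍(H)) : Od H ≤ Od M :=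
  le_Od ((Od_le H).trans h) (hn.trans (norm_le_norm_Od H)) (odd_Od H)

theorem solvable_Od (M : Subgroup G) : Group.IsSolvable (Od M) := solvable_of_odd (odd_Od M)

theorem odd_of_mem_Od {M : Subgroup G} {x : G} (h : x ∈ Od M) : Odd (orderOf x) :=
  odd_orderOf_of_mem (odd_Od M) h

theorem notMem_Od {M : Subgroup G} {t : G} (h : orderOf t = 2) : t ∉ Od M := fun h' => by
  have := odd_of_mem_Od h'
  rw [h] at this
  exact absurd this (by decide)

theorem pCoreOf_le_Od {p : ℕ} (hp : p.Prime) (hp2 : p ≠ 2) (M : Subgroup G) :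
    pCoreOf p M ≤ Od M :=
  le_Od (H1.pCoreOf_le M) (H1.le_normalizer_pCoreOf M)
    (odd_card_of_isPGroup hp hp2 (H1.pCoreOf_isPGroup M))

theorem nilp2_of_hnpc {M : Subgroup G} (h : HasNormalPComplement 2 M) : Nilp2 M := by
  intro x hx ho
  have h1 : (⟨x, hx⟩ : M) ∈ pPrimeCore 2 M := by
    rw [PCompl.hnpc_pPrimeCore_eq_pResidual h, PCompl.hnpc_mem_pResidual_iff h, ← orderOf_coe]
    exact Nat.coprime_two_right.2 ho
  rw [Od, ← H1.map_pPrimeCore_eq_piCoreOf]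
  exact ⟨_, h1, rfl⟩

theorem Nilp2.le_Od {M A : Subgroup G} (h : Nilp2 M) (hA : A ≤ M) (ho : Odd (Nat.card A)) :
    A ≤ Od M := fun x hx => h x (hA hx) (odd_orderOf_of_mem ho hx)

theorem Nilp2.mono {M H : Subgroup G} (h : Nilp2 M) (hH : H ≤ M) : Nilp2 H :=
  fun x hx ho => Od_inf_le hH ⟨h x (hH hx) ho, hx⟩

theorem Nilp2.conj {M : Subgroup G} (h : Nilp2 M) (g : G) : Nilp2 (g •ᶜ M) := by
  intro x hx ho
  rw [Od_conj, mem_map_conj_iff]
  exact h _ (mem_map_conj_iff.1 hx) (by rwa [H5.orderOf_conj''])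

theorem Nilp2.mul_self_mem (hG : E4 G) {M : Subgroup G} (h : Nilp2 M) {x : G} (hx : x ∈ M) :
    x * x ∈ Od M := by
  obtain ⟨v, -, u, hu, e, hc, hv, ho⟩ := hG.exists_two_part x
  have : x * x = u * u := by
    rw [e, mul_assoc, ← mul_assoc u, ← hc, ← mul_assoc, ← mul_assoc, hv, one_mul]
  rw [this]
  exact mul_mem (h u (zpowers_le.2 hx hu) ho) (h u (zpowers_le.2 hx hu) ho)

theorem Nilp2.commutator_mem (hG : E4 G) {M : Subgroup G} (h : Nilp2 M) {x y : G} (hx : x ∈ M)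
    (hy : y ∈ M) : x * y * x⁻¹ * y⁻¹ ∈ Od M := by
  have h1 := h.mul_self_mem hG (mul_mem hx hy)
  have h2 := h.mul_self_mem hG (inv_mem hy)
  have h3 := conj_mem_of_mem_normalizer (le_norm_Od M hy) (h.mul_self_mem hG (inv_mem hx))
  have e : x * y * x⁻¹ * y⁻¹ = (x * y * (x * y)) * (y⁻¹ * y⁻¹) * (y * (x⁻¹ * x⁻¹) * y⁻¹) := by group
  rw [e]
  exact mul_mem (mul_mem h1 h2) h3

theorem Nilp2.der_le (hG : E4 G) {M : Subgroup G} (h : Nilp2 M) : ⁅M, M⁆ ≤ Od M :=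
  commutator_le.2 fun _ hx _ hy => h.commutator_mem hG hx hy

theorem Nilp2.not_conj (hG : E4 G) {M : Subgroup G} (h : Nilp2 M) {t s g : G} (h4 : Four t s)
    (ht : t ∈ M) (hg : g ∈ M) : g * t * g⁻¹ ≠ s := fun e => by
  have h1 := h.commutator_mem hG hg ht
  rw [e, h4.ti] at h1
  exact notMem_Od h4.symm.ots h1

theorem Nilp2.solvable (hG : E4 G) {M : Subgroup G} (h : Nilp2 M) : Group.IsSolvable M := by
  have hn : ((Od M).subgroupOf M).Normal := normal_subgroupOf_of_le_normalizer (le_norm_Od M)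
  refine isSolvable_of_normal_of_quotient ((Od M).subgroupOf M)
    (FT.feit_thompson (by rw [card_subgroupOf_of_le (Od_le M)]; exact odd_Od M))
    (Group.isSolvable_of_comm fun a b => ?_)
  obtain ⟨x, rfl⟩ := QuotientGroup.mk_surjective a
  obtain ⟨y, rfl⟩ := QuotientGroup.mk_surjective b
  rw [← QuotientGroup.mk_mul, ← QuotientGroup.mk_mul, QuotientGroup.eq, mem_subgroupOf]
  have := h.commutator_mem hG (inv_mem y.2) (inv_mem x.2)
  simpa [mul_assoc] using this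

theorem Nilp2.sup_eq (hG : E4 G) {M : Subgroup G} (h : Nilp2 M) {t s : G} (h4 : Four t s)
    (hV : V t s ≤ M) : Od M ⊔ V t s = M := by
  refine le_antisymm (sup_le (Od_le M) hV) fun x hx => ?_
  obtain ⟨v, hv, u, hu, e, -, hv2, ho⟩ := hG.exists_two_part x
  have hvM := zpowers_le.2 hx hv
  rw [e]
  refine mul_mem ?_ (mem_sup_left (h u (zpowers_le.2 hx hu) ho))
  by_cases hv1 : v = 1
  · rw [hv1]; exact one_mem _
  obtain ⟨g, hg, h1⟩ := h4.exists_conj_mem hG hV (inv_of_mul_self hv2 hv1) hvM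
  have h2 := h.commutator_mem hG hvM hg
  have e2 : v = (v * g * v⁻¹ * g⁻¹) * (g * v * g⁻¹) := by
    rw [← mul_assoc, ← mul_assoc, inv_mul_cancel_right, inv_mul_cancel_right, mul_inv_cancel_right]
  rw [e2]
  exact mul_mem (mem_sup_left h2) (mem_sup_right h1)

theorem Nilp2.exists_mul (hG : E4 G) {M : Subgroup G} (h : Nilp2 M) {t s : G} (h4 : Four t s)
    (hV : V t s ≤ M) {x : G} (hx : x ∈ M) : ∃ u ∈ Od M, ∃ v ∈ V t s, u * v = x :=
  (mem_sup_iff_of_le_normalizer' (hV.trans (le_norm_Od M))).1 ((h.sup_eq hG h4 hV).symm ▸ hx)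

theorem nilp2_of_not_four_dvd {M : Subgroup G} (h : ¬ 4 ∣ Nat.card M) : Nilp2 M := by
  obtain ⟨P⟩ : Nonempty (Sylow 2 M) := inferInstance
  refine nilp2_of_hnpc (PCompl.hnpc_two_of_isCyclic P ?_)
  obtain ⟨k, hk⟩ := IsPGroup.iff_card.1 P.isPGroup'
  have h1 : 2 ^ k ∣ Nat.card M := hk ▸ card_subgroup_dvd_card _
  rcases k with _ | _ | k
  · have : Subsingleton (P : Subgroup M) := (Nat.card_eq_one_iff_unique.1 (by simpa using hk)).1
    infer_instance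
  · exact isCyclic_of_prime_card (p := 2) (by simpa using hk)
  · exact absurd ((show 4 ∣ 2 ^ (k + 1 + 1) from ⟨2 ^ k, by ring⟩).trans h1) h

theorem nilp2_of_norm_le (hG : E4 G) {M : Subgroup G} {t s : G} (h4 : Four t s) (hV : V t s ≤ M)
    (h : M ⊓ 𝐍(V t s) ≤ 𝐂(V t s)) : Nilp2 M := by
  obtain ⟨P, hP⟩ := (h4.sylow hG hV).exists_sylow
  refine nilp2_of_hnpc (PCompl.hnpc_of_normalizer_le_centralizer P fun g hg => ?_)
  rw [hP] at hg ⊢
  have h1 : (g : G) ∈ 𝐍(V t s) := mem_normalizer_of_conj_mem fun x hx =>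
    conj_mem_of_mem_normalizer (x := ⟨x, hV hx⟩) hg hx
  exact mem_cent.2 fun x hx => Subtype.ext (mem_cent.1 (h ⟨g.2, h1⟩) x hx)

theorem nilp2_cent (hG : E4 G) {t : G} (ht : orderOf t = 2) : Nilp2 𝐂[t] := by
  by_cases h4 : 4 ∣ Nat.card 𝐂[t]
  swap
  · exact nilp2_of_not_four_dvd h4
  obtain ⟨s, -, h⟩ := exists_four hG ht (self_mem_cent1 t) h4
  refine nilp2_of_norm_le hG h h.V_le_cent1 fun n hn => ?_
  have hnt := conj_eq_of_mem_cent1 hn.1
  -- the square of `n` centralizes the four-group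
  have key : ∀ m ∈ 𝐂[t] ⊓ 𝐍(V t s), m * s * m⁻¹ = s ∨ m * s * m⁻¹ = t * s := fun m hm => by
    rcases h.mem_V.1 (conj_mem_of_mem_normalizer hm.2 (s_mem_V t s)) with e | e | e | e
    · exact absurd e (conj_ne_one_iff.2 h.s1)
    · rw [← conj_eq_of_mem_cent1 hm.1] at e
      exact absurd (by simpa using e) h.ne.symm
    exacts [Or.inl e, Or.inr e]
  obtain ⟨v, hv, u, hu, e, -, hv2, ho⟩ := hG.exists_two_part n
  have hvn := zpowers_le.2 hn hv
  have hun := zpowers_le.2 hn hu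
  rw [e]
  refine mul_mem (h.V_le_cent (h.le_V' hG hv2 hvn.2)) ?_
  refine zpowers_le.2 ?_ (mem_zpowers_sq ho)
  rw [cent_V]
  refine ⟨mul_mem hun.1 hun.1, mem_cent1_of_conj_eq ?_⟩
  have e1 : u * u * s * (u * u)⁻¹ = u * (u * s * u⁻¹) * u⁻¹ := by group
  rcases key u hun with e2 | e2
  · rw [e1, e2, e2]
  · rw [e1, e2, ← conj_mul, e2, conj_eq_of_mem_cent1 hun.1, ← mul_assoc, h.tt, one_mul]

/-- An element normalizing a four-group and fixing one involution fixes all. -/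
theorem Four.mem_cent_of_norm (hG : E4 G) {t s n : G} (h : Four t s) (hn : n ∈ 𝐍(V t s))
    (ht : n * t * n⁻¹ = t) : n ∈ 𝐂(V t s) := by
  have h1 : n ∈ 𝐂[t] := mem_cent1_of_conj_eq ht
  rw [cent_V]
  refine ⟨h1, mem_cent1_of_conj_eq ?_⟩
  rcases h.mem_V.1 (conj_mem_of_mem_normalizer hn (s_mem_V t s)) with e | e | e | e
  · exact absurd e (conj_ne_one_iff.2 h.s1)
  · exact absurd e ((nilp2_cent hG h.ot).not_conj hG h.symm h.s_cent h1)
  · exact e
  · have h2 : Four s (t * s) := h.comm ▸ h.symm.mul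
    exact absurd e ((nilp2_cent hG h.ot).not_conj hG h2 h.s_cent h1)

theorem nilp2_or_oneCl (hG : E4 G) (M : Subgroup G) : Nilp2 M ∨ (4 ∣ Nat.card M ∧ OneCl M) := by
  by_cases h4 : 4 ∣ Nat.card M
  swap
  · exact Or.inl (nilp2_of_not_four_dvd h4)
  obtain ⟨t, ht, s, hs, h⟩ := exists_four' hG h4
  have hV := V_le ht hs
  by_cases hc : M ⊓ 𝐍(V t s) ≤ 𝐂(V t s)
  · exact Or.inl (nilp2_of_norm_le hG h hV hc)
  refine Or.inr ⟨h4, ?_⟩
  obtain ⟨n, hn, hn'⟩ := SetLike.not_le_iff_exists.1 hc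
  have h1 : ∀ a b : G, Four a b → V a b = V t s → n * a * n⁻¹ ≠ a := fun a b hab e e' =>
    hn' (e ▸ hab.mem_cent_of_norm hG (e ▸ hn.2) e')
  have h2 : ∀ v ∈ V t s, v ≠ 1 → ∃ g ∈ M, g * t * g⁻¹ = v := by
    intro v hv hv1
    have ha := conj_mem_of_mem_normalizer hn.2 (t_mem_V t s)
    have ha1 : n * t * n⁻¹ ≠ 1 := conj_ne_one_iff.2 h.t1
    have hat := h1 t s h rfl
    have hta : Four t (n * t * n⁻¹) := ⟨h.ot, by rw [orderOf_conj, h.ot],
      mem_cent.1 (h.V_le_cent ha) t (t_mem_V t s), hat.symm⟩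
    have e := h.V_eq hta (t_mem_V t s) ha
    have hb := conj_mem_of_mem_normalizer hn.2 ha
    rw [← e] at hb hv
    rcases hta.mem_V.1 hv with rfl | rfl | rfl | rfl
    · exact absurd rfl hv1
    · exact ⟨1, one_mem _, by simp⟩
    · exact ⟨n, hn.1, rfl⟩
    rcases hta.mem_V.1 hb with e1 | e1 | e1 | e1
    · exact absurd e1 (conj_ne_one_iff.2 ha1)
    · refine absurd ?_ (h1 _ _ hta.mul.symm (by rw [V_comm, hta.V_mul, e]))
      rw [← conj_mul, e1, hta.comm]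
    · exact absurd e1 (h1 _ _ hta.symm (by rw [V_comm, e]))
    · exact ⟨n * n, mul_mem hn.1 hn.1, by rw [← e1]; group⟩
  intro u hu v hv hu2 hv2
  obtain ⟨a, ha, h3⟩ := h.exists_conj_mem hG hV hu2 hu
  obtain ⟨b, hb, h5⟩ := h.exists_conj_mem hG hV hv2 hv
  obtain ⟨c, hc, h6⟩ := h2 _ h3 (conj_ne_one_iff.2 (ne_one_of_inv hu2))
  obtain ⟨d, hd, h7⟩ := h2 _ h5 (conj_ne_one_iff.2 (ne_one_of_inv hv2))
  refine ⟨b⁻¹ * d * c⁻¹ * a, mul_mem (mul_mem (mul_mem (inv_mem hb) hd) (inv_mem hc)) ha, ?_⟩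
  calc b⁻¹ * d * c⁻¹ * a * u * (b⁻¹ * d * c⁻¹ * a)⁻¹
      = b⁻¹ * (d * (c⁻¹ * (a * u * a⁻¹) * c) * d⁻¹) * b := by group
    _ = v := by rw [← h6, show c⁻¹ * (c * t * c⁻¹) * c = t by group, h7]; group

/-- Fusion in a four-group is controlled by its normalizer. -/
theorem Four.exists_norm_conj (hG : E4 G) {t s u v g : G} (h : Four t s) {M : Subgroup G}
    (hV : V t s ≤ M) (hu : u ∈ V t s) (hv : v ∈ V t s) (hg : g ∈ M) (e : g * u * g⁻¹ = v) :
    ∃ d ∈ M ⊓ 𝐍(V t s), d * u * d⁻¹ = v := by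
  have h1 : V t s ≤ M ⊓ 𝐂[v] := le_inf hV ((h.V_le_cent.trans (cent_le_cent1 hv)))
  have h2 : V (g * t * g⁻¹) (g * s * g⁻¹) ≤ M ⊓ 𝐂[v] := by
    rw [V_conj, ← e, cent1_conj]
    exact le_inf (by rw [← conj_eq_of_mem hg]; exact map_mono hV)
      (map_mono (h.V_le_cent.trans (cent_le_cent1 hu)))
  obtain ⟨c, hc, e2⟩ := h.exists_conj_eq hG (h.conj g) h1 h2
  refine ⟨c * g, ⟨mul_mem hc.1 hg, mem_normalizer_of_map_conj_eq ?_⟩, ?_⟩
  · rw [map_conj_mul, ← V_conj, e2]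
  · rw [show c * g * u * (c * g)⁻¹ = c * (g * u * g⁻¹) * c⁻¹ by group, e, conj_eq_of_mem_cent1 hc.2]

theorem OneCl.exists_norm_conj (hG : E4 G) {t s u v : G} (h : Four t s) {M : Subgroup G}
    (h1 : OneCl M) (hV : V t s ≤ M) (hu : u ∈ V t s) (hv : v ∈ V t s) (hu1 : u ≠ 1) (hv1 : v ≠ 1) :
    ∃ d ∈ M ⊓ 𝐍(V t s), d * u * d⁻¹ = v := by
  obtain ⟨g, hg, e⟩ := h1 u (hV hu) v (hV hv) (inv_of_mul_self (h.mul_self_of_mem hu) hu1)
    (inv_of_mul_self (h.mul_self_of_mem hv) hv1)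
  exact h.exists_norm_conj hG hV hu hv hg e

/-- `N(S) = C(S) N_L(S)` when `L` has one class of involutions. -/
theorem OneCl.exists_cent_mul (hG : E4 G) {t s n : G} (h : Four t s) {L : Subgroup G}
    (h1 : OneCl L) (hV : V t s ≤ L) (hn : n ∈ 𝐍(V t s)) :
    ∃ c ∈ 𝐂(V t s), ∃ d ∈ L ⊓ 𝐍(V t s), n = d * c := by
  obtain ⟨d, hd, e⟩ := h1.exists_norm_conj hG h hV (t_mem_V t s)
    (conj_mem_of_mem_normalizer hn (t_mem_V t s)) h.t1 (conj_ne_one_iff.2 h.t1)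
  refine ⟨d⁻¹ * n, h.mem_cent_of_norm hG (mul_mem (inv_mem hd.2) hn) ?_, d, hd, by group⟩
  calc d⁻¹ * n * t * (d⁻¹ * n)⁻¹ = d⁻¹ * (n * t * n⁻¹) * d := by group
    _ = t := by rw [← e]; group

/-! ### `O(C(t))` -/

omit [Finite G] in
theorem Ut_le (t : G) : Ut t ≤ 𝐂[t] := Od_le _

theorem odd_Ut (t : G) : Odd (Nat.card (Ut t)) := odd_Od _

theorem cent_le_norm_Ut (t : G) : 𝐂[t] ≤ 𝐍(Ut t) := le_norm_Od _

theorem solvable_Ut (t : G) : Group.IsSolvable (Ut t) := solvable_Od _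

theorem Ut_conj (g t : G) : Ut (g * t * g⁻¹) = g •ᶜ Ut t := by rw [Ut, cent1_conj, Od_conj, Ut]

theorem odd_of_mem_Ut {t x : G} (h : x ∈ Ut t) : Odd (orderOf x) := odd_of_mem_Od h

theorem mem_Ut (hG : E4 G) {t x : G} (ht : orderOf t = 2) :
    x ∈ Ut t ↔ x * t = t * x ∧ Odd (orderOf x) :=
  ⟨fun h => ⟨mem_cent1.1 (Ut_le t h), odd_of_mem_Ut h⟩,
    fun h => nilp2_cent hG ht x (mem_cent1.2 h.1) h.2⟩

theorem le_Ut (hG : E4 G) {t : G} (ht : orderOf t = 2) {A : Subgroup G} (hA : A ≤ 𝐂[t])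
    (ho : Odd (Nat.card A)) : A ≤ Ut t := (nilp2_cent hG ht).le_Od hA ho

theorem Four.exists_mul (hG : E4 G) {t s x : G} (h : Four t s) (hx : x ∈ 𝐂[t]) :
    ∃ u ∈ Ut t, ∃ v ∈ V t s, u * v = x := (nilp2_cent hG h.ot).exists_mul hG h h.V_le_cent1 hx

theorem Four.Ut_inf_V {t s : G} (h : Four t s) : Ut t ⊓ V t s = ⊥ :=
  eq_bot_of_forall fun _ hx => eq_one_of_odd_of_mul_self (odd_of_mem_Ut hx.1) (h.mul_self_of_mem hx.2)

theorem Four.isComplIn (hG : E4 G) {t s : G} (h : Four t s) : IsComplIn (Ut t) (V t s) 𝐂[t] :=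
  ⟨Ut_le t, h.V_le_cent1, h.Ut_inf_V, fun x hx => by
    obtain ⟨u, hu, v, hv, e⟩ := h.exists_mul hG hx
    exact ⟨u, hu, v, hv, e.symm⟩⟩

theorem Four.card_cent (hG : E4 G) {t s : G} (h : Four t s) :
    Nat.card 𝐂[t] = 4 * Nat.card (Ut t) := by
  rw [← FT.U4.IsComplIn.card_mul (h.isComplIn hG), h.card_V, mul_comm]

theorem Four.B_symm (hG : E4 G) {t s : G} (h : Four t s) : Ut t ⊓ 𝐂[s] = Ut s ⊓ 𝐂[t] := by
  ext x
  simp only [mem_inf, mem_Ut hG h.ot, mem_Ut hG h.os, mem_cent1]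
  tauto

theorem Four.mem_B (hG : E4 G) {t s x : G} (h : Four t s) :
    x ∈ Ut t ⊓ 𝐂[s] ↔ x ∈ 𝐂(V t s) ∧ Odd (orderOf x) := by
  simp only [mem_inf, mem_Ut hG h.ot, mem_cent1, cent_V]
  tauto

theorem Four.norm_le_norm_B (hG : E4 G) {t s : G} (h : Four t s) :
    𝐍(V t s) ≤ 𝐍(Ut t ⊓ 𝐂[s]) := fun n hn => mem_normalizer_of_conj_mem fun x hx => by
  rw [h.mem_B hG] at hx ⊢
  exact ⟨conj_mem_of_mem_normalizer (norm_le_norm_cent _ hn) hx.1, by rw [orderOf_conj]; exact hx.2⟩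

theorem Four.exists_mul_B (hG : E4 G) {t s x : G} (h : Four t s) (hx : x ∈ 𝐂(V t s)) :
    ∃ b ∈ Ut t ⊓ 𝐂[s], ∃ v ∈ V t s, b * v = x := by
  rw [cent_V] at hx
  obtain ⟨u, hu, v, hv, e⟩ := h.exists_mul hG hx.1
  refine ⟨u, ⟨hu, ?_⟩, v, hv, e⟩
  rw [eq_mul_inv_of_mul_eq e]
  exact Subgroup.mul_mem _ hx.2 (inv_mem (cent_le_cent1 (s_mem_V t s) (h.V_le_cent hv)))

/-! ### Involutions acting on groups of odd order -/

omit [Finite G] in
theorem Inverts.comm {s : G} {K : Subgroup G} (h : Inverts s K) {x y : G} (hx : x ∈ K)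
    (hy : y ∈ K) : x * y = y * x := by
  have h1 := h _ (mul_mem hx hy)
  rw [← conj_mul, h x hx, h y hy, ← mul_inv_rev, inv_inj] at h1
  exact h1.symm

omit [Finite G] in
theorem Inverts.le_cent {s : G} {K : Subgroup G} (h : Inverts s K) : K ≤ 𝐂(K) :=
  fun _ hx => mem_cent.2 fun _ hy => h.comm hy hx

omit [Finite G] in
theorem Inverts.isMulCommutative {s : G} {K : Subgroup G} (h : Inverts s K) : IsMulCommutative K :=
  ⟨⟨fun x y => Subtype.ext (h.comm x.2 y.2)⟩⟩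

omit [Finite G] in
theorem Inverts.mono {s : G} {K H : Subgroup G} (h : Inverts s K) (hH : H ≤ K) : Inverts s H :=
  fun x hx => h x (hH hx)

theorem Inverts.mem_norm {s : G} {K : Subgroup G} (h : Inverts s K) : s ∈ 𝐍(K) :=
  mem_normalizer_of_conj_mem fun x hx => h x hx ▸ inv_mem hx

omit [Finite G] in
theorem inverts_zpowers {s x : G} (h : s * x * s⁻¹ = x⁻¹) : Inverts s (zpowers x) :=
  fun _ hy => H5.inverts_of_mem_zpowers h hy

theorem Inverts.inf_cent {s : G} {K : Subgroup G} (h : Inverts s K) (ho : Odd (Nat.card K)) :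
    K ⊓ 𝐂[s] = ⊥ := eq_bot_of_forall fun x hx =>
  eq_one_of_inv_of_comm (odd_orderOf_of_mem ho hx.1) (h x hx.1) (mem_cent1.1 hx.2)

omit [Finite G] in
theorem commutator_zpowers_le {s : G} (hs : s * s = 1) {H K : Subgroup G}
    (h : ∀ x ∈ H, x * s * x⁻¹ * s⁻¹ ∈ K) : ⁅H, zpowers s⁆ ≤ K := by
  rw [commutator_le]
  intro x hx y hy
  by_cases h1 : s = 1
  · rw [h1, zpowers_one_eq_bot, mem_bot] at hy
    rw [hy, commutatorElement_one_right]
    exact one_mem _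
  rcases (mem_zpowers_inv (inv_of_mul_self hs h1)).1 hy with rfl | rfl
  · rw [commutatorElement_one_right]
    exact one_mem _
  · exact h x hx

omit [Finite G] in
/-- The commutators with an inverting element centralize the inverted group. -/
theorem Inverts.commutator_le_cent {s : G} (hs : s * s = 1) {K H : Subgroup G} (h : Inverts s K)
    (hH : H ≤ 𝐍(K)) : ⁅H, zpowers s⁆ ≤ 𝐂(K) := by
  refine commutator_zpowers_le hs fun x hx => mem_cent.2 fun y hy => ?_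
  have hi : s⁻¹ = s := inv_eq_of_mul_eq_one_right hs
  have h1 := h _ (conj_mem_of_mem_normalizer' (hH hx) (inv_mem hy))
  have h2 := h y hy
  rw [hi] at h1 h2 ⊢
  calc y * (x * s * x⁻¹ * s) = x * (x⁻¹ * y⁻¹ * x)⁻¹ * (s * x⁻¹ * s) := by group
    _ = x * s * x⁻¹ * (y⁻¹ * (x * (s * s) * x⁻¹) * s) := by rw [← h1]; group
    _ = x * s * x⁻¹ * (y⁻¹ * s) := by rw [hs]; group
    _ = x * s * x⁻¹ * s * (y * (s * s)) := by rw [← h2]; group
    _ = _ := by rw [hs, mul_one]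

/-- An element of a group of odd order normalized by `s` is a product of a fixed and an inverted
element. -/
theorem exists_cent_mul_inv {s : G} (hs : s * s = 1) {X : Subgroup G} (ho : Odd (Nat.card X))
    (hn : s ∈ 𝐍(X)) {x : G} (hx : x ∈ X) :
    ∃ c ∈ X ⊓ 𝐂[s], ∃ i ∈ X, s * i * s⁻¹ = i⁻¹ ∧ x = c * i := by
  have hi : s⁻¹ = s := inv_eq_of_mul_eq_one_right hs
  have hw : x⁻¹ * (s * x * s⁻¹) ∈ X := mul_mem (inv_mem hx) (conj_mem_of_mem_normalizer hn hx)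
  have hw' : s * (x⁻¹ * (s * x * s⁻¹)) * s⁻¹ = (x⁻¹ * (s * x * s⁻¹))⁻¹ := by
    rw [hi]
    calc s * (x⁻¹ * (s * x * s)) * s = s * x⁻¹ * s * x * (s * s) := by group
      _ = _ := by rw [hs]; simp [hi, mul_assoc]
  obtain ⟨v, hv, e⟩ := exists_sqrt (odd_orderOf_of_mem ho hw)
  have hvi := H5.inverts_of_mem_zpowers hw' hv
  have hvX := zpowers_le.2 hw hv
  refine ⟨x * v, ⟨mul_mem hx hvX, mem_cent1_comm.1 (mem_cent1_of_conj_eq ?_)⟩, v⁻¹, inv_mem hvX,
    by rw [← conj_inv, hvi], by group⟩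
  rw [← conj_mul, hvi, show s * x * s⁻¹ = x * (x⁻¹ * (s * x * s⁻¹)) by group, ← e]
  group

theorem inverts_of_inf_cent {s : G} (hs : s * s = 1) {X : Subgroup G} (ho : Odd (Nat.card X))
    (hn : s ∈ 𝐍(X)) (h : X ⊓ 𝐂[s] = ⊥) : Inverts s X := fun x hx => by
  obtain ⟨c, hc, i, -, hi, rfl⟩ := exists_cent_mul_inv hs ho hn hx
  rw [h, mem_bot] at hc
  rwa [hc, one_mul]

theorem exists_inverted {s : G} (hs : s * s = 1) {X : Subgroup G} (ho : Odd (Nat.card X))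
    (hn : s ∈ 𝐍(X)) (h : ¬ X ≤ 𝐂[s]) : ∃ i ∈ X, i ≠ 1 ∧ s * i * s⁻¹ = i⁻¹ := by
  obtain ⟨x, hx, hx'⟩ := SetLike.not_le_iff_exists.1 h
  obtain ⟨c, hc, i, hi, hi', rfl⟩ := exists_cent_mul_inv hs ho hn hx
  exact ⟨i, hi, fun e => hx' (by rw [e, mul_one]; exact hc.2), hi'⟩

/-- An inverted element of odd order lies in every subgroup that contains `s` and is normalized
by it. -/
theorem mem_of_inverted {s i : G} (ho : Odd (orderOf i)) (hi : s * i * s⁻¹ = i⁻¹) {L : Subgroup G}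
    (hs : s ∈ L) (hn : i ∈ 𝐍(L)) : i ∈ L := by
  refine zpowers_le.2 ?_ (mem_zpowers_sq ho)
  have h1 : i * i = i * s * i⁻¹ * s⁻¹ := by
    calc i * i = i * (s * i * s⁻¹)⁻¹ := by rw [hi, inv_inv]
      _ = _ := by group
  rw [h1]
  exact mul_mem (conj_mem_of_mem_normalizer hn hs) (inv_mem hs)

theorem mem_commutator_of_inverted {s i : G} (ho : Odd (orderOf i)) (hi : s * i * s⁻¹ = i⁻¹)
    {H : Subgroup G} (hH : i ∈ H) : i ∈ ⁅H, zpowers s⁆ := by
  refine zpowers_le.2 ?_ (mem_zpowers_sq ho)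
  have h1 : i * i = ⁅i, s⁆ := by
    calc i * i = i * (s * i * s⁻¹)⁻¹ := by rw [hi, inv_inv]
      _ = _ := by rw [commutatorElement_def]; group
  rw [h1]
  exact commutator_mem_commutator hH (mem_zpowers s)

/-- A four-group acting on a group of odd order: generation by the centralizers. -/
theorem Four.le_of_cent_le {t s : G} (h : Four t s) {Q K : Subgroup G} (ho : Odd (Nat.card Q))
    (hn : V t s ≤ 𝐍(Q)) (h1 : Q ⊓ 𝐂[t] ≤ K) (h2 : Q ⊓ 𝐂[s] ≤ K) (h3 : Q ⊓ 𝐂[t * s] ≤ K) :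
    Q ≤ K :=
  Cop.le_of_centralizer_le_of_not_isCyclic h.comm_V h.not_cyclic hn (h.coprime_V ho)
    fun a ha ha1 => by
      rcases h.mem_V.1 ha with rfl | rfl | rfl | rfl
      exacts [absurd rfl ha1, h1, h2, h3]

/-- If `Y = [Y, t]` acts coprimely on a nilpotent group `Q` of odd order and centralizes `C_Q(t)`,
then it centralizes `Q`. -/
theorem le_cent_of_cent_le {t : G} (ht : t * t = 1) {Y Q : Subgroup G} (hY : ⁅Y, zpowers t⁆ = Y)
    (hQ : Group.IsNilpotent Q) (ho : Odd (Nat.card Q)) (htQ : t ∈ 𝐍(Q)) (hYQ : Y ≤ 𝐍(Q))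
    (hcop : (Nat.card Y).Coprime (Nat.card Q)) (h : Q ⊓ 𝐂[t] ≤ 𝐂(Y)) : Q ≤ 𝐂(Y) := by
  set C := Q ⊓ 𝐂(Y) with hC
  have htY : t ∈ 𝐍(Y) := by
    rw [← hY]
    exact normalizer_commutator_ge_right _ _ (mem_zpowers t)
  have htC : t ∈ 𝐍(C) := inf_normalizer_le_normalizer_inf ⟨htQ, norm_le_norm_cent _ htY⟩
  have hYC : Y ≤ 𝐍(C) := (le_centralizer_iff.1 inf_le_right).trans (cent_le_norm _)
  set N := Q ⊓ 𝐍(C) with hN
  have hn : ∀ A : Subgroup G, A ≤ 𝐍(Q) → A ≤ 𝐍(C) → A ≤ 𝐍(N) := fun A h1 h2 =>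
    H1.le_normalizer_inf h1 (h2.trans le_normalizer)
  have htN : t ∈ 𝐍(N) := hn _ (zpowers_le.2 htQ) (zpowers_le.2 htC) (mem_zpowers t)
  have hYN := hn Y hYQ hYC
  let f := QuotientGroup.mk' (C.subgroupOf 𝐍(C))
  have h1 : Inverts (f ⟨t, htC⟩) (bar C N) := by
    rintro _ ⟨x, hx, rfl⟩
    obtain ⟨c, hc, i, hi, hi', e⟩ := exists_cent_mul_inv ht (odd_card_of_le ho inf_le_left) htN hx
    have hc' : c ∈ C := ⟨hc.1.1, h ⟨hc.1.1, hc.2⟩⟩
    have e1 : f x = f ⟨i, hi.2⟩ := by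
      rw [show x = ⟨c, le_normalizer hc'⟩ * ⟨i, hi.2⟩ from Subtype.ext e, map_mul,
        show f ⟨c, le_normalizer hc'⟩ = 1 from (QuotientGroup.eq_one_iff _).2 hc', one_mul]
    change _ * f x * _ = (f x)⁻¹
    rw [e1, ← map_inv, ← map_mul, ← map_mul, ← map_inv]
    exact congrArg f (Subtype.ext hi')
  have h2 := h1.commutator_le_cent (by rw [← map_mul]; exact congrArg f (Subtype.ext ht))
    (bar_le_norm (N := C) hYN)
  have h3 : bar C (zpowers t) ≤ zpowers (f ⟨t, htC⟩) := by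
    rintro _ ⟨x, ⟨n, hx⟩, rfl⟩
    exact ⟨n, (map_zpow f _ n).symm.trans (congrArg f (Subtype.ext hx))⟩
  have h4 : ⁅Y, N⁆ ≤ C := by
    rw [← bar_le_cent_iff hYC inf_le_right, ← hY, bar_comm hYC (zpowers_le.2 htC)]
    exact (commutator_mono le_rfl h3).trans h2
  have h5 : ⁅N, Y⁆ = ⊥ := Cop.commutator_eq_bot_of_le_of_centralizes (commutator_comm Y N ▸ h4)
    (commutator_eq_bot_iff_le_centralizer.2 inf_le_right)
    (hcop.coprime_dvd_right (card_dvd_of_le inf_le_left))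
  exact (eq_of_norm_le_of_nil hQ inf_le_left (le_inf inf_le_left
    (commutator_eq_bot_iff_le_centralizer.1 h5))).ge.trans inf_le_right

/-! ### Simple groups -/

theorem Simp4.norm_ne_top (hG : Simp4 G) {X : Subgroup G} (h1 : X ≠ ⊥) (h2 : X ≠ ⊤) : 𝐍(X) ≠ ⊤ := by
  intro h
  have := hG.simple
  exact ((normal_of_le_normalizer_top h.ge).eq_bot_or_eq_top).elim h1 h2

theorem Simp4.not_solvable (hG : Simp4 G) {t s : G} (h : Four t s) : ¬ Group.IsSolvable G := by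
  intro hs
  have := hG.simple
  have h1 := IsSimpleGroup.comm_iff_isSolvable.2 hs
  obtain ⟨g, -, e⟩ := hG.one t trivial s trivial h.ot h.os
  rw [h1 g t, mul_inv_cancel_right] at e
  exact h.ne e

theorem Simp4.ne_top_of_solvable (hG : Simp4 G) {t s : G} (h : Four t s) {X : Subgroup G}
    (hX : Group.IsSolvable X) : X ≠ ⊤ := by
  rintro rfl
  exact hG.not_solvable h (Group.isSolvable_of_surjective (f := (⊤ : Subgroup G).subtype)
    fun x => ⟨⟨x, trivial⟩, rfl⟩)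

theorem Simp4.norm_ne_top' (hG : Simp4 G) {t s : G} (h : Four t s) {X : Subgroup G} (h1 : X ≠ ⊥)
    (h2 : Group.IsSolvable X) : 𝐍(X) ≠ ⊤ := hG.norm_ne_top h1 (hG.ne_top_of_solvable h h2)

theorem Simp4.norm_eq (hG : Simp4 G) {M X : Subgroup G} (hM : IsCoatom M) (h1 : X ≠ ⊥)
    (h2 : X ≤ M) (h3 : M ≤ 𝐍(X)) : 𝐍(X) = M :=
  (hM.le_iff.1 h3).resolve_left (hG.norm_ne_top h1 fun e => hM.1 (top_le_iff.1 (e ▸ h2)))

theorem Simp4.exists_conj (hG : Simp4 G) {u v : G} (hu : orderOf u = 2) (hv : orderOf v = 2) :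
    ∃ g, g * u * g⁻¹ = v := by
  obtain ⟨g, -, e⟩ := hG.one u trivial v trivial hu hv
  exact ⟨g, e⟩

end CfsgLib.GW
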