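import Cfsg.Agent.Lib.BSW.PSLCent
import Cfsg.Agent.Lib.H5SL2Even
import Cfsg.Agent.Lib.SL2Card

/-!
# Transvection groups and lifts of odd order in `SL₂(F)`
-/

set_option autoImplicit false

namespace CfsgLib.GW.PA

open Subgroup Matrix MatrixGroups CfsgLib.H1 CfsgLib.H5 CfsgLib.BSW

variable {F : Type*} [Field F]

/-- The transvection `w ↦ w + c * det (v, w) • v` with `v = (x, y)`. -/
def uv (x y c : F) : SL(2, F) :=
  ⟨!![1 - c * x * y, c * x ^ 2; -(c * y ^ 2), 1 + c * x * y], by rw [det_fin_two_of]; ring⟩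

theorem uv00 (x y c : F) : uv x y c 0 0 = 1 - c * x * y := rfl
theorem uv01 (x y c : F) : uv x y c 0 1 = c * x ^ 2 := rfl
theorem uv10 (x y c : F) : uv x y c 1 0 = -(c * y ^ 2) := rfl
theorem uv11 (x y c : F) : uv x y c 1 1 = 1 + c * x * y := rfl

theorem one00 : (1 : SL(2, F)) 0 0 = 1 := by simp
theorem one01 : (1 : SL(2, F)) 0 1 = 0 := by simp
theorem one10 : (1 : SL(2, F)) 1 0 = 0 := by simp
theorem one11 : (1 : SL(2, F)) 1 1 = 1 := by simp

theorem uv_add (x y c d : F) : uv x y (c + d) = uv x y c * uv x y d := by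
  apply SL2_ext <;> simp only [SL2_mul_apply, uv00, uv01, uv10, uv11] <;> ring

theorem uv_zero (x y : F) : uv x y 0 = 1 := by
  apply SL2_ext <;> simp only [uv00, uv01, uv10, uv11, one00, one01, one10, one11] <;> ring

theorem uv_inv (x y c : F) : (uv x y c)⁻¹ = uv x y (-c) := by
  rw [inv_eq_iff_mul_eq_one, ← uv_add, add_neg_cancel, uv_zero]

theorem uv_trace (x y c : F) : uv x y c 0 0 + uv x y c 1 1 = 2 := by
  rw [uv00, uv11]; ring

theorem uv_conj (g : SL(2, F)) (x y c : F) :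
    g * uv x y c * g⁻¹ = uv (g 0 0 * x + g 0 1 * y) (g 1 0 * x + g 1 1 * y) c := by
  have hd := SL2_det g
  apply SL2_ext <;> simp only [SL2_mul_apply, uv00, uv01, uv10, uv11, SL2_inv_00, SL2_inv_01,
    SL2_inv_10, SL2_inv_11]
  · linear_combination hd
  · ring
  · ring
  · linear_combination hd

theorem uv_smul (l x y c : F) : uv (l * x) (l * y) c = uv x y (l ^ 2 * c) := by
  apply SL2_ext <;> simp only [uv00, uv01, uv10, uv11] <;> ring

theorem exists_uv {g : SL(2, F)} (h : g 0 0 + g 1 1 = 2) :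
    ∃ x y c : F, ¬ (x = 0 ∧ y = 0) ∧ g = uv x y c := by
  have hd := SL2_det g
  by_cases h1 : g 0 1 = 0
  · have h2 : (g 0 0 - 1) ^ 2 = 0 := by linear_combination g 0 0 * h - hd - g 1 0 * h1
    have h3 : g 0 0 = 1 := sub_eq_zero.mp (pow_eq_zero_iff two_ne_zero |>.mp h2)
    refine ⟨0, 1, -g 1 0, fun e => one_ne_zero e.2, ?_⟩
    apply SL2_ext <;> simp only [uv00, uv01, uv10, uv11]
    · rw [h3]; ring
    · rw [h1]; ring
    · ring
    · linear_combination h - h3
  · refine ⟨g 0 1, 1 - g 0 0, (g 0 1)⁻¹, fun e => h1 e.1, ?_⟩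
    have h2 := inv_mul_cancel₀ h1
    apply SL2_ext <;> simp only [uv00, uv01, uv10, uv11]
    · linear_combination (1 - g 0 0) * h2
    · linear_combination (-g 0 1) * h2
    · linear_combination (-g 1 0) * h2 + (g 0 1)⁻¹ * (g 0 0 * h - hd)
    · linear_combination h - (1 - g 0 0) * h2

theorem exists_smul {x y z w : F} (h : ¬ (x = 0 ∧ y = 0)) (e : z * y = w * x) :
    ∃ l : F, z = l * x ∧ w = l * y := by
  by_cases hx : x = 0
  · have hy : y ≠ 0 := fun hy => h ⟨hx, hy⟩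
    refine ⟨w / y, ?_, by field_simp⟩
    rw [hx, mul_zero] at e ⊢
    exact (mul_eq_zero.mp e).resolve_right hy
  · refine ⟨z / x, by field_simp, ?_⟩
    field_simp
    exact e.symm

theorem det_eq_zero_of_uv {x y z w c d : F} (hc : c ≠ 0) (h : uv z w c = uv x y d) :
    z * y = w * x := by
  have h1 : uv z w c 0 0 = uv x y d 0 0 := by rw [h]
  have h2 : uv z w c 0 1 = uv x y d 0 1 := by rw [h]
  have h3 : uv z w c 1 0 = uv x y d 1 0 := by rw [h]
  simp only [uv00, uv01, uv10] at h1 h2 h3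
  have h4 : c * (z * y - w * x) ^ 2 = 0 := by
    linear_combination y ^ 2 * h2 - x ^ 2 * h3 + 2 * x * y * h1
  exact sub_eq_zero.mp (pow_eq_zero_iff two_ne_zero |>.mp ((mul_eq_zero.mp h4).resolve_left hc))

theorem uv_not_mem_center (h2 : (2 : F) ≠ 0) {x y c : F} (h : uv x y c ≠ 1) :
    uv x y c ∉ center SL(2, F) := by
  rw [SL2_mem_center_iff']
  rintro (e | e)
  · exact h e
  · have h1 := uv_trace x y c
    rw [e, SL2_neg_apply, SL2_neg_apply, one00, one11] at h1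
    exact h2 ((mul_eq_zero.mp (by linear_combination -h1 : (2 : F) * 2 = 0)).elim id id)

/-- An element commuting with a nontrivial transvection is `±` a transvection of the same
direction. -/
theorem exists_uv_of_comm (h2 : (2 : F) ≠ 0) {x y c : F} (h : uv x y c ≠ 1) {g : SL(2, F)}
    (hg : uv x y c * g = g * uv x y c) : ∃ d, g = uv x y d ∨ g = -uv x y d := by
  obtain ⟨a, b, h1, h3, h4, h5⟩ := SL2_exists_lin (uv_not_mem_center h2 h) hg
  have hd := SL2_det g
  simp only [uv00, uv01, uv10, uv11] at h1 h3 h4 h5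
  rw [h1, h3, h4, h5] at hd
  have h6 : (a + b) * (a + b) = 1 := by linear_combination hd
  refine ⟨(a + b) * b * c, ?_⟩
  rcases mul_self_eq_one_iff.mp h6 with e | e
  · left
    apply SL2_ext <;> simp only [uv00, uv01, uv10, uv11, h1, h3, h4, h5, e]
    · linear_combination e
    · ring
    · ring
    · linear_combination e
  · right
    apply SL2_ext <;> simp only [uv00, uv01, uv10, uv11, SL2_neg_apply, h1, h3, h4, h5, e]
    · linear_combination e
    · ring
    · ring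
    · linear_combination e

/-- The transvection group of direction `(x, y)`. -/
def uvHom (x y : F) : Multiplicative F →* SL(2, F) :=
  MonoidHom.mk' (fun c => uv x y c.toAdd) fun a b => by rw [toAdd_mul, uv_add]

/-- The image in `PSL₂(F)` of the transvection group of direction `(x, y)`. -/
def Rv (x y : F) : Subgroup (ProjectiveSpecialLinearGroup (Fin 2) F) :=
  ((piP F).comp (uvHom x y)).range

theorem mem_Rv {x y : F} {g : ProjectiveSpecialLinearGroup (Fin 2) F} :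
    g ∈ Rv x y ↔ ∃ c, piP F (uv x y c) = g :=
  ⟨fun ⟨c, h⟩ => ⟨c.toAdd, h⟩, fun ⟨c, h⟩ => ⟨Multiplicative.ofAdd c, h⟩⟩

theorem card_Rv_dvd (x y : F) : Nat.card (Rv x y) ∣ Nat.card F :=
  card_range_dvd _

theorem Rv_smul_le (l x y : F) : Rv (l * x) (l * y) ≤ Rv x y := by
  intro g hg
  obtain ⟨c, rfl⟩ := mem_Rv.mp hg
  exact mem_Rv.mpr ⟨_, by rw [uv_smul]⟩

theorem cent_eq_Rv (h2 : (2 : F) ≠ 0) {x y : F} {g : ProjectiveSpecialLinearGroup (Fin 2) F}
    (hg : g ∈ Rv x y) (h1 : g ≠ 1) : centralizer {g} = Rv x y := by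
  obtain ⟨c, rfl⟩ := mem_Rv.mp hg
  have h3 : uv x y c ≠ 1 := fun e => h1 (by rw [e, map_one])
  rw [cent_piP (Or.inl (by rw [uv_trace]; exact h2))]
  ext z
  constructor
  · rintro ⟨w, hw, rfl⟩
    obtain ⟨d, e | e⟩ := exists_uv_of_comm h2 h3 (mem_cent.mp hw).symm
    · exact mem_Rv.mpr ⟨d, by rw [e]⟩
    · exact mem_Rv.mpr ⟨d, by rw [e, piP_neg]⟩
  · intro hz
    obtain ⟨d, rfl⟩ := mem_Rv.mp hz
    exact ⟨_, mem_cent.mpr (by rw [← uv_add, ← uv_add, add_comm]), rfl⟩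

theorem neg_one_ne_one (h2 : (2 : F) ≠ 0) : (-1 : SL(2, F)) ≠ 1 := by
  intro e
  have h : (-1 : SL(2, F)) 0 0 = (1 : SL(2, F)) 0 0 := by rw [e]
  rw [SL2_neg_apply, one00] at h
  exact h2 (by linear_combination -h)

theorem ne_neg_self (h2 : (2 : F) ≠ 0) (g : SL(2, F)) : g ≠ -g := by
  intro e
  apply neg_one_ne_one h2
  have : g * g⁻¹ = -g * g⁻¹ := by rw [← e]
  rw [neg_mul, mul_inv_cancel] at this
  exact this.symm

theorem exists_odd_lift {g : ProjectiveSpecialLinearGroup (Fin 2) F} {n : ℕ} (hn : Odd n)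
    (hg : g ^ n = 1) : ∃ X : SL(2, F), piP F X = g ∧ X ^ n = 1 := by
  obtain ⟨Y, rfl⟩ := piP_surj g
  rw [← map_pow, piP_eq_one, SL2_mem_center_iff'] at hg
  rcases hg with e | e
  · exact ⟨Y, rfl, e⟩
  · exact ⟨-Y, piP_neg Y, by rw [hn.neg_pow, e, neg_neg]⟩

theorem eq_of_piP_eq_of_odd (h2 : (2 : F) ≠ 0) {X Y : SL(2, F)} {n : ℕ} (hn : Odd n)
    (hX : X ^ n = 1) (hY : Y ^ n = 1) (h : piP F X = piP F Y) : X = Y := by
  rcases piP_eq_iff.mp h with e | e
  · exact e
  · rw [e, hn.neg_pow, hY] at hX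
    exact absurd hX (neg_one_ne_one h2)

theorem orderOf_piP_of_odd (h2 : (2 : F) ≠ 0) {X : SL(2, F)} (hX : Odd (orderOf X)) :
    orderOf (piP F X) = orderOf X := by
  refine Nat.dvd_antisymm (orderOf_map_dvd _ _) (orderOf_dvd_of_pow_eq_one ?_)
  refine eq_of_piP_eq_of_odd h2 hX ?_ (one_pow _) ?_
  · rw [← pow_mul, mul_comm, pow_mul, pow_orderOf_eq_one, one_pow]
  · rw [map_pow, pow_orderOf_eq_one, map_one]

theorem comm_of_piP_comm (h2 : (2 : F) ≠ 0) {X Y : SL(2, F)} {n : ℕ} (hn : Odd n)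
    (hX : X ^ n = 1) (h : piP F Y * piP F X = piP F X * piP F Y) : Y * X = X * Y := by
  rw [← mul_inv_eq_iff_eq_mul] at h ⊢
  rw [← map_inv, ← map_mul, ← map_mul] at h
  exact eq_of_piP_eq_of_odd h2 hn (by rw [conj_pow, hX, mul_one, mul_inv_cancel]) hX h

theorem sq_eq_neg_one (h2 : (2 : F) ≠ 0) {T : SL(2, F)} (h : orderOf (piP F T) = 2) :
    T * T = -1 := by
  have h1 : piP F T ^ 2 = 1 := orderOf_dvd_iff_pow_eq_one.mp h.dvd
  rw [← map_pow, piP_eq_one, SL2_mem_center_iff'] at h1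
  rcases h1 with e | e
  · rw [piP_eq_one.mpr (SL2_mem_center_of_sq h2 e), orderOf_one] at h
    exact absurd h (by norm_num)
  · rw [← e, sq]

theorem trace_eq_zero {T : SL(2, F)} (h : T * T = -1) : T 0 0 + T 1 1 = 0 := by
  have hd := SL2_det T
  have h1 : (T * T) 0 0 = (-1 : SL(2, F)) 0 0 := by rw [h]
  have h2 : (T * T) 0 1 = (-1 : SL(2, F)) 0 1 := by rw [h]
  have h3 : (T * T) 1 1 = (-1 : SL(2, F)) 1 1 := by rw [h]
  rw [SL2_mul_apply, SL2_neg_apply] at h1 h2 h3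
  rw [one00] at h1
  rw [one01] at h2
  rw [one11] at h3
  have h4 : (T 0 0 + T 1 1) ^ 2 = 0 := by linear_combination h1 + h3 + 2 * hd
  exact pow_eq_zero_iff two_ne_zero |>.mp h4

theorem trace_sq_ne (h2 : (2 : F) ≠ 0) {T : SL(2, F)} (h : T * T = -1) :
    (T 0 0 + T 1 1) ^ 2 ≠ 4 := by
  rw [trace_eq_zero h]
  intro e
  exact h2 ((mul_eq_zero.mp (by linear_combination -e : (2 : F) * 2 = 0)).elim id id)

theorem conj_eq_inv_of_anti (h2 : (2 : F) ≠ 0) {S T X : SL(2, F)} (hT : T * T = -1)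
    (h : S * T * S⁻¹ = -T) (hX : T * X = X * T) : S * X * S⁻¹ = X⁻¹ := by
  obtain ⟨a, b, h1, h3, h4, h5⟩ :=
    SL2_exists_lin (SL2_not_mem_center_of_trace (trace_sq_ne h2 hT)) hX
  have ht := trace_eq_zero hT
  rw [mul_inv_eq_iff_eq_mul] at h ⊢
  have e1 : (S * T) 0 0 = (-T * S) 0 0 := by rw [h]
  have e2 : (S * T) 0 1 = (-T * S) 0 1 := by rw [h]
  have e3 : (S * T) 1 0 = (-T * S) 1 0 := by rw [h]
  have e4 : (S * T) 1 1 = (-T * S) 1 1 := by rw [h]
  simp only [SL2_mul_apply, SL2_neg_apply] at e1 e2 e3 e4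
  apply SL2_ext <;> simp only [SL2_mul_apply, SL2_inv_00, SL2_inv_01, SL2_inv_10, SL2_inv_11,
    h1, h3, h4, h5]
  · linear_combination b * e1 - b * S 0 0 * ht
  · linear_combination b * e2 - b * S 0 1 * ht
  · linear_combination b * e3 - b * S 1 0 * ht
  · linear_combination b * e4 - b * S 1 1 * ht

theorem orderOf_eq_four (h2 : (2 : F) ≠ 0) {T : SL(2, F)} (h : T * T = -1) : orderOf T = 4 := by
  haveI : Fact (Nat.Prime 2) := ⟨Nat.prime_two⟩
  refine orderOf_eq_prime_pow (p := 2) (n := 1) ?_ ?_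
  · rw [pow_one, sq, h]; exact neg_one_ne_one h2
  · rw [show 2 ^ (1 + 1) = 2 * 2 from rfl, pow_mul, sq T, h, neg_one_sq]

theorem two_ne_zero_of_card [Fintype F] (h8 : Fintype.card F % 8 = 3 ∨ Fintype.card F % 8 = 5) :
    (2 : F) ≠ 0 := by
  intro e
  have h1 : ringChar F = 2 := by
    have := ringChar.dvd (R := F) (x := 2) (by exact_mod_cast e)
    rcases (Nat.dvd_prime Nat.prime_two).mp this with h | h
    · exact absurd h CharP.ringChar_ne_one
    · exact h
  have := FiniteField.even_card_iff_char_two.mp h1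
  omega

/-- The torus through an element of order `4`. -/
theorem exists_torus [Fintype F] (h8 : Fintype.card F % 8 = 3 ∨ Fintype.card F % 8 = 5)
    {T : SL(2, F)} (h : T * T = -1) : ∃ (g : SL(2, F)) (z : ℕ), Odd z ∧ orderOf g = 4 * z ∧
      zpowers g = centralizer {T} ∧ (Fintype.card F = 4 * z + 1 ∨ Fintype.card F + 1 = 4 * z) := by
  have h2 := two_ne_zero_of_card h8
  obtain ⟨hc, hn⟩ := SL2_centralizer (trace_sq_ne h2 h)
  obtain ⟨g, hg⟩ := (isCyclic_iff_exists_zpowers_eq_top.mp hc)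
  have e : zpowers (g : SL(2, F)) = centralizer {T} := by
    have := congrArg (Subgroup.map (centralizer ({T} : Set SL(2, F))).subtype) hg
    rwa [MonoidHom.map_zpowers, ← MonoidHom.range_eq_map, range_subtype] at this
  have h4 : 4 ∣ Nat.card (centralizer ({T} : Set SL(2, F))) := by
    rw [← orderOf_eq_four h2 h]
    exact orderOf_dvd_natCard _ (self_mem_cent T)
  obtain ⟨z, hz⟩ := h4
  rw [hz, Nat.card_eq_fintype_card] at hn
  refine ⟨g, z, Nat.odd_iff.mpr (by omega), ?_, e, by omega⟩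
  rw [← Nat.card_zpowers, e, hz]

end CfsgLib.GW.PA
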