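import Cfsg.Agent.Lib.GW.Basic
import Cfsg.Agent.Lib.H5SL2Tori
import Cfsg.Agent.Lib.H1SL2
import Cfsg.Agent.Lib.SL2Card
import Cfsg.Agent.Lib.GW.PslA

/-!
# The local structure of `PSL₂(q)`, `q ≡ ±3 (mod 8)`

Sketch for `pslIn_PSL2`.  Let `q = |F| ≡ ε (mod 4)`; lift `t, s` to `T, S ∈ SL₂(F)` with
`T² = S² = -1`, `S T S⁻¹ = -T = T⁻¹`.  `A = C_{SL₂}(T)` is cyclic of order `q - ε`
(`H5.SL2_centralizer`; `4 ∣ |A|`), the preimage of `C(t)` is `A ∪ A S`, and `S` inverts `A`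
(`SL2_exists_lin`).  `q - ε = 4 z` with `z` odd; `k` is the image of a generator of the odd part
of `A`.  For `x ∈ ⟨k⟩`, `x ≠ 1`, with lift `X ∈ A` of odd order, `g X g⁻¹ = ±X` forces the sign
`+`, and `C(X) = A` (both are abelian centralizers of non-central elements).
`rad`: let `T₀` be a nontrivial `l`-subgroup normalized by `c` with `C_{T₀}(c) = 1`.  If `l` is
not the characteristic, take `g ∈ Z(T₀)` of order `l`; `T₀ ≤ C(g)` is cyclic, so `c g c⁻¹ ∈ ⟨g⟩`
has the trace of `g`, `c g c⁻¹ = g^{±1}` (`SL2_eq_or_eq_inv`), and `c` (odd order) centralizes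
`g`, absurd.  So `T₀` is unipotent and fixes a unique line, which `c` fixes.  If `ε = -1` no
element `c ≠ ±1` of `A` has an eigenvector (take `R = ⊥`).  If `ε = 1` diagonalize `T`; `A` is
the diagonal group, `c` fixes exactly two lines, swapped by `S`; `R` is the image of the upper
unitriangular group.
-/

set_option autoImplicit false

namespace CfsgLib.GW

open Subgroup Cfsg CfsgLib.FT.BGN CfsgLib.FT.U4
open scoped commutatorElement

universe u

variable {G : Type*} [Group G]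

theorem PslAt.map {X : Type*} [Group X] [Finite G] [Finite X] {L : Subgroup G} {t s k : G}
    (h : PslAt L t s k) (ht : t ∈ L) (hs : s ∈ L) (f : G →* X) (hf : Function.Injective f) :
    PslAt (L.map f) (f t) (f s) (f k) := by
  have hc : ∀ a b : G, f a ∈ 𝐂[f b] ↔ a ∈ 𝐂[b] := fun a b => by
    rw [mem_cent1, mem_cent1, ← map_mul, ← map_mul, hf.eq_iff]
  have hz : ∀ x ∈ zpowers (f k), ∃ y ∈ zpowers k, f y = x := fun x hx => by
    rwa [← MonoidHom.map_zpowers] at hx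
  have ho : ∀ a, orderOf (f a) = orderOf a := orderOf_injective f hf
  refine ⟨fun x => ⟨fun hx => ?_, ?_⟩, by rw [← map_inv, ← map_mul, ← map_mul, h.inv, map_inv],
    fun x hx h1 => ?_, ?_, ?_⟩
  · obtain ⟨y, hy, rfl⟩ := hz x hx
    obtain ⟨h1, h2, h3⟩ := (h.mem y).mp hy
    exact ⟨mem_map_of_mem f h1, by rw [← map_mul, ← map_mul, h2], by rwa [ho]⟩
  · rintro ⟨⟨y, hy, rfl⟩, h2, h3⟩
    rw [← map_mul, ← map_mul, hf.eq_iff] at h2
    rw [← MonoidHom.map_zpowers]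
    exact mem_map_of_mem f ((h.mem y).mpr ⟨hy, h2, by rwa [ho] at h3⟩)
  · obtain ⟨y, hy, rfl⟩ := hz x hx
    rintro _ ⟨⟨w, hw, rfl⟩, h2⟩
    exact (hc _ _).mpr (h.cent y hy (fun e => h1 (by rw [e, map_one])) ⟨hw, (hc _ _).mp h2⟩)
  · obtain ⟨ε, h1, h2⟩ := h.index
    refine ⟨ε, h1, ?_⟩
    have e : (𝐂[f t]).comap f = 𝐂[t] := Subgroup.ext fun a => hc a t
    rw [← relIndex_comap, e, ho, h2]
  · obtain ⟨R, h1, h2, h3, h4, h5, h6⟩ := h.rad
    refine ⟨R.map f, map_mono h1, ?_, le_normalizer_map f (mem_map_of_mem f h3), ?_, ?_, ?_⟩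
    · rintro _ ⟨y, hy, rfl⟩
      rw [← map_inv, ← map_mul, ← map_mul, h2 y hy, map_inv]
    · rwa [card_map_of_injective hf, ho]
    · rintro _ ⟨y, hy, rfl⟩ hy1
      rw [← h5 y hy fun e => hy1 (by rw [e, map_one])]
      ext z
      constructor
      · rintro ⟨⟨w, hw, rfl⟩, h7⟩
        exact mem_map_of_mem f ⟨hw, (hc _ _).mp h7⟩
      · rintro ⟨w, hw, rfl⟩
        exact ⟨mem_map_of_mem f hw.1, (hc _ _).mpr hw.2⟩
    · intro c hck hc1 l T hl hl2 hT hp hn hb
      obtain ⟨d, hd, rfl⟩ := hz c hck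
      have e : (T.comap f).map f = T := map_comap_eq_self (hT.trans (map_le_range f L))
      have h7 : T.comap f ≤ L := (comap_mono hT).trans (comap_map_eq_self_of_injective hf L).le
      have h8 : T.comap f ⊓ 𝐂[d] = ⊥ := eq_bot_of_forall fun x hx => hf (by
        rw [map_one]
        exact eq_one_of_mem_inf hb hx.1 ((hc _ _).mpr hx.2))
      rcases h6 d hd (fun e => hc1 (by rw [e, map_one])) l (T.comap f) hl hl2 h7
        (hp.comap_of_injective f hf) (le_normalizer_comap f hn) h8 with h9 | h9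
      · exact Or.inl (e ▸ map_mono h9)
      · refine Or.inr (e ▸ (map_mono h9).trans ?_)
        rintro _ ⟨_, ⟨y, hy, rfl⟩, rfl⟩
        exact ⟨f y, mem_map_of_mem f hy, by simp⟩

theorem PslIn.map {X : Type*} [Group X] [Finite G] [Finite X] {L : Subgroup G} (h : PslIn L)
    (f : G →* X) (hf : Function.Injective f) : PslIn (L.map f) := by
  rintro _ ⟨t, ht, rfl⟩ _ ⟨s, hs, rfl⟩ h4
  have ho : ∀ a, orderOf (f a) = orderOf a := orderOf_injective f hf
  obtain ⟨k, hk⟩ := h t ht s hs ⟨ho t ▸ h4.ot, ho s ▸ h4.os,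
    hf (by rw [map_mul, map_mul, h4.comm]), fun e => h4.ne (by rw [e])⟩
  exact ⟨f k, hk.map ht hs f hf⟩

section PSL

open Matrix MatrixGroups CfsgLib.H1 CfsgLib.H5 PA
open CfsgLib.BSW (piP piP_surj piP_eq_one piP_eq_iff piP_neg piP_comm_iff SL2_neg_apply)

variable {F : Type*} [Field F]

theorem psl_card_mul [Fintype F] (h2 : (2 : F) ≠ 0) {z : ℕ} {ε : ℤ} (hε : ε = 1 ∨ ε = -1)
    (hq : (Fintype.card F : ℤ) = 4 * z + ε) :
    (Nat.card (ProjectiveSpecialLinearGroup (Fin 2) F) : ℤ) =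
      (4 * z + ε) * (2 * z + ε) * (4 * z) := by
  have h1 := card_eq_card_quotient_mul_card_subgroup (center SL(2, F))
  rw [SL2C.card_center_SL2 h2, SL2C.card_SL2, Nat.card_eq_fintype_card (α := F)] at h1
  have h3 : 1 ≤ Fintype.card F ^ 2 := Nat.one_le_pow _ _ Fintype.card_pos
  zify [h3] at h1
  rw [hq] at h1
  have h4 : ε ^ 2 = 1 := by rcases hε with e | e <;> rw [e] <;> norm_num
  have h5 : (Nat.card (ProjectiveSpecialLinearGroup (Fin 2) F) : ℤ) * 2 =
      (4 * z + ε) * (2 * z + ε) * (4 * z) * 2 := by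
    rw [← h1]
    linear_combination (4 * z + ε) * h4
  exact mul_right_cancel₀ two_ne_zero h5

theorem psl_exists_eps [Fintype F] {z : ℕ}
    (h : Fintype.card F = 4 * z + 1 ∨ Fintype.card F + 1 = 4 * z) :
    ∃ ε : ℤ, (ε = 1 ∨ ε = -1) ∧ (Fintype.card F : ℤ) = 4 * z + ε := by
  rcases h with e | e
  · exact ⟨1, Or.inl rfl, by omega⟩
  · exact ⟨-1, Or.inr rfl, by omega⟩

theorem psl_E4 [Fintype F] (h8 : Fintype.card F % 8 = 3 ∨ Fintype.card F % 8 = 5) :
    E4 (ProjectiveSpecialLinearGroup (Fin 2) F) := by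
  have h2 := two_ne_zero_of_card h8
  constructor
  · obtain ⟨z, ε, hz, hε, hq⟩ : ∃ (z : ℕ) (ε : ℤ), Odd z ∧ (ε = 1 ∨ ε = -1) ∧
        (Fintype.card F : ℤ) = 4 * z + ε := by
      rcases h8 with e | e
      · exact ⟨(Fintype.card F + 1) / 4, -1, Nat.odd_iff.mpr (by omega), Or.inr rfl, by omega⟩
      · exact ⟨(Fintype.card F - 1) / 4, 1, Nat.odd_iff.mpr (by omega), Or.inl rfl, by omega⟩
    intro hd
    have h1 : ((8 : ℕ) : ℤ) ∣ _ := Int.natCast_dvd_natCast.mpr hd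
    rw [psl_card_mul h2 hε hq] at h1
    have h3 : Odd ((4 * (z : ℤ) + ε) * (2 * z + ε) * z) := by
      refine (Odd.mul ?_ ?_).mul (by exact_mod_cast hz) <;> rcases hε with e | e <;> rw [e] <;>
        rw [Int.odd_iff] <;> omega
    obtain ⟨m, hm⟩ := h3
    have h4 : (4 * (z : ℤ) + ε) * (2 * z + ε) * (4 * z) = 4 * (2 * m + 1) := by
      rw [← hm]; ring
    rw [h4] at h1
    omega
  · intro g hg
    have h0 : orderOf g ≠ 0 := (orderOf_pos g).ne'
    obtain ⟨U, hU⟩ := piP_surj (g ^ (orderOf g / 4))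
    have h1 : orderOf (piP F U) = 4 := by rw [hU, orderOf_pow_orderOf_div h0 hg]
    have h3 : orderOf (piP F (U * U)) = 2 := by
      rw [map_mul, ← sq, orderOf_pow' _ two_ne_zero, h1]; rfl
    have h4 := sq_eq_neg_one h2 h3
    obtain ⟨a, z, hz, ha, hc, -⟩ := exists_torus h8 h4
    haveI : Fact (Nat.Prime 2) := ⟨Nat.prime_two⟩
    have h5 : orderOf U = 2 ^ (2 + 1) := by
      refine orderOf_eq_prime_pow ?_ ?_
      · rw [show U ^ 2 ^ 2 = U * U * (U * U) by rw [← sq, ← sq, ← pow_mul]; rfl, h4]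
        exact neg_one_ne_one h2
      · rw [show U ^ 2 ^ (2 + 1) = (U * U * (U * U)) ^ 2 by
          rw [← sq, ← sq, ← pow_mul, ← pow_mul]; rfl, h4, neg_one_sq]
    have h6 : U ∈ zpowers a := hc ▸ mem_cent1.mpr (mul_assoc _ _ _).symm
    have h7 := orderOf_dvd_of_mem_zpowers h6
    rw [h5, ha] at h7
    obtain ⟨m, rfl⟩ := hz
    omega

/-- A nontrivial `l`-subgroup on which `π C` acts without fixed points lies in a transvection
group whose direction is fixed by `C`. -/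
theorem psl_rad [Finite F] (h2 : (2 : F) ≠ 0) {C : SL(2, F)} (hC : Odd (orderOf C)) {l : ℕ}
    (hl : l.Prime) (hl2 : l ≠ 2) {T : Subgroup (ProjectiveSpecialLinearGroup (Fin 2) F)}
    (hp : IsPGroup l T) (hn : piP F C ∈ 𝐍(T)) (hb : T ⊓ 𝐂[piP F C] = ⊥) (h1 : T ≠ ⊥) :
    ∃ x y : F, ¬ (x = 0 ∧ y = 0) ∧ T ≤ Rv x y ∧
      (C 0 0 * x + C 0 1 * y) * y = (C 1 0 * x + C 1 1 * y) * x := by
  haveI : Fact l.Prime := ⟨hl⟩
  haveI : Nontrivial T := (nontrivial_iff_ne_bot T).mpr h1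
  haveI := hp.center_nontrivial
  obtain ⟨⟨⟨g, hgT⟩, hgZ⟩, hg1⟩ := exists_ne (1 : center T)
  have hg1' : g ≠ 1 := fun e => hg1 (Subtype.ext (Subtype.ext e))
  have hgc : T ≤ 𝐂[g] := fun w hw =>
    mem_cent1.mpr (congrArg Subtype.val (mem_center_iff.mp hgZ ⟨w, hw⟩))
  have hodd : Odd (orderOf g) := odd_orderOf_of_mem (odd_card_of_isPGroup hl hl2 hp) hgT
  obtain ⟨Y, rfl, hY⟩ := exists_odd_lift hodd (pow_orderOf_eq_one g)
  have hm : piP F (C * Y * C⁻¹) ∈ T := by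
    rw [map_mul, map_mul, map_inv]
    exact (mem_normalizer_iff.mp hn _).mp hgT
  have hcomm := comm_of_piP_comm h2 hodd hY (mem_cent1.mp (hgc hm))
  by_cases ht : (Y 0 0 + Y 1 1) ^ 2 = 4
  · obtain ⟨Z, hZ, hZt⟩ : ∃ Z : SL(2, F), piP F Z = piP F Y ∧ Z 0 0 + Z 1 1 = 2 := by
      rcases sq_eq_sq_iff_eq_or_eq_neg.mp (ht.trans (by norm_num : (4 : F) = 2 ^ 2)) with e | e
      · exact ⟨Y, rfl, e⟩
      · exact ⟨-Y, piP_neg Y, by rw [SL2_neg_apply, SL2_neg_apply]; linear_combination -e⟩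
    obtain ⟨x, y, c, hxy, rfl⟩ := exists_uv hZt
    have hR : T ≤ Rv x y := cent_eq_Rv h2 (mem_Rv.mpr ⟨c, hZ⟩) hg1' ▸ hgc
    refine ⟨x, y, hxy, hR, ?_⟩
    rw [map_mul, map_mul, ← hZ, ← map_mul, ← map_mul, uv_conj] at hm
    obtain ⟨d, hd⟩ := mem_Rv.mp (hR hm)
    have hc0 : c ≠ 0 := by
      rintro rfl
      exact hg1' (by rw [← hZ, uv_zero, map_one])
    rcases piP_eq_iff.mp hd.symm with e | e
    · exact det_eq_zero_of_uv hc0 e
    · have h3 := uv_trace (C 0 0 * x + C 0 1 * y) (C 1 0 * x + C 1 1 * y) c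
      rw [e, SL2_neg_apply, SL2_neg_apply] at h3
      have h4 := uv_trace x y d
      exact absurd ((mul_eq_zero.mp (by linear_combination -h3 - h4 : (2 : F) * 2 = 0)).elim
        id id) h2
  · exfalso
    have h3 : C ∈ 𝐂[Y] := by
      rcases SL2_eq_or_eq_inv ht hcomm.symm (SL2_trace_conj C Y) with e | e
      · exact mem_cent1_of_conj_eq e
      · refine (zpowers_le.mpr (mem_cent1_of_conj_eq ?_)) (mem_zpowers_sq hC)
        calc C * C * Y * (C * C)⁻¹ = C * (C * Y * C⁻¹) * C⁻¹ := by group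
          _ = (C * Y * C⁻¹)⁻¹ := by rw [e]; nth_rewrite 2 [← e]; group
          _ = Y := by rw [e, inv_inv]
    refine hg1' (eq_one_of_mem_inf hb hgT (mem_cent1.mpr ?_))
    rw [← map_mul, ← map_mul, mem_cent1.mp h3]

end PSL

open Matrix MatrixGroups CfsgLib.H1 CfsgLib.H5 PA in
open CfsgLib.BSW (piP piP_surj piP_eq_one piP_eq_iff piP_neg piP_comm_iff SL2_neg_apply) in
theorem pslIn_PSL2 (F : Type*) [Field F] [Fintype F]
    (h8 : Fintype.card F % 8 = 3 ∨ Fintype.card F % 8 = 5) :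
    PslIn (⊤ : Subgroup (Matrix.ProjectiveSpecialLinearGroup (Fin 2) F)) := by
  intro t _ s _ h4
  have h2 := two_ne_zero_of_card h8
  have hE := psl_E4 h8
  obtain ⟨T, rfl⟩ := piP_surj t
  obtain ⟨S, rfl⟩ := piP_surj s
  have hT := sq_eq_neg_one h2 h4.ot
  have hS := sq_eq_neg_one h2 h4.os
  have hTi : T⁻¹ = -T := by rw [inv_eq_iff_mul_eq_one, mul_neg, hT, neg_neg]
  have hTc : T ∉ center SL(2, F) := SL2_not_mem_center_of_trace (trace_sq_ne h2 hT)
  have hST : S * T * S⁻¹ = -T := by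
    refine (piP_comm_iff.mp h4.comm.symm).resolve_left fun e => h4.ne ?_
    rcases SL2_eq_or_eq_inv (trace_sq_ne h2 hT) (mul_inv_eq_iff_eq_mul.mp e).symm
      ((trace_eq_zero hS).trans (trace_eq_zero hT).symm) with e | e
    · rw [e]
    · rw [e, hTi, piP_neg]
  obtain ⟨a, z, hz, ha, hc, hq⟩ := exists_torus h8 hT
  have hz0 : 0 < z := hz.pos
  have hK : orderOf (a ^ 4) = z := by
    rw [orderOf_pow_of_dvd (by norm_num) (ha ▸ dvd_mul_right 4 z), ha,
      Nat.mul_div_cancel_left _ (by norm_num)]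
  have hKo : Odd (orderOf (a ^ 4)) := hK ▸ hz
  have hk : orderOf (piP F (a ^ 4)) = z := by rw [orderOf_piP_of_odd h2 hKo, hK]
  have hKT : zpowers (a ^ 4) ≤ 𝐂[T] :=
    hc ▸ zpowers_le.mpr (pow_mem (mem_zpowers a) 4)
  have hlift : ∀ x ∈ zpowers (piP F (a ^ 4)), x ≠ 1 → ∃ X : SL(2, F), piP F X = x ∧
      Odd (orderOf X) ∧ X ∉ center SL(2, F) ∧ X * T = T * X := by
    intro x hx h1
    rw [← MonoidHom.map_zpowers] at hx
    obtain ⟨X, hX, rfl⟩ := hx
    exact ⟨X, rfl, hKo.of_dvd_nat (orderOf_dvd_of_mem_zpowers hX),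
      fun e => h1 (piP_eq_one.mpr e), mem_cent1.mp (hKT hX)⟩
  have hmem : ∀ x, x ∈ zpowers (piP F (a ^ 4)) ↔
      x * piP F T = piP F T * x ∧ Odd (orderOf x) := by
    intro x
    constructor
    · intro hx
      refine ⟨?_, (hk ▸ hz).of_dvd_nat (orderOf_dvd_of_mem_zpowers hx)⟩
      rw [← MonoidHom.map_zpowers] at hx
      obtain ⟨X, hX, rfl⟩ := hx
      rw [← map_mul, ← map_mul, mem_cent1.mp (hKT hX)]
    · rintro ⟨h1, h3⟩
      obtain ⟨X, rfl, hX⟩ := exists_odd_lift h3 (pow_orderOf_eq_one x)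
      have hXo : Odd (orderOf X) := h3.of_dvd_nat (orderOf_dvd_of_pow_eq_one hX)
      have h5 : X ∈ 𝐂[T] := by
        rcases piP_comm_iff.mp h1 with e | e
        · exact mem_cent1_of_conj_eq e
        · refine (zpowers_le.mpr (mem_cent1_of_conj_eq ?_)) (mem_zpowers_sq hXo)
          calc X * X * T * (X * X)⁻¹ = X * (X * T * X⁻¹) * X⁻¹ := by group
            _ = T := by rw [e, mul_neg, neg_mul, e, neg_neg]
      rw [← hc] at h5
      obtain ⟨i, rfl⟩ := mem_zpowers_iff.mp h5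
      have h6 : a ^ i ∈ zpowers ((a ^ i) ^ 4) := by
        refine mem_zpowers_pow_iff.mpr ?_
        exact Nat.Coprime.pow_left 2 (Nat.coprime_two_left.mpr hXo)
      rw [← MonoidHom.map_zpowers]
      refine mem_map_of_mem _ ((zpowers_le.mpr ?_) h6)
      rw [show (a ^ i) ^ 4 = (a ^ 4) ^ i by group]
      exact zpow_mem (mem_zpowers _) i
  have hKT' : T * a ^ 4 = a ^ 4 * T := mem_cent1'.mp (hKT (mem_zpowers _))
  refine ⟨piP F (a ^ 4), fun x => by rw [hmem, and_iff_right (mem_top x)], ?_, ?_, ?_, ?_⟩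
  · rw [← map_inv, ← map_mul, ← map_mul, conj_eq_inv_of_anti h2 hT hST hKT', map_inv]
  · intro x hx h1 g hg
    obtain ⟨X, rfl, hXo, hXc, hXT⟩ := hlift x hx h1
    obtain ⟨Y, rfl⟩ := piP_surj g
    have h3 := comm_of_piP_comm h2 hXo (pow_orderOf_eq_one X) (mem_cent1.mp hg.2)
    rw [mem_cent1, ← map_mul, ← map_mul, SL2_commute_trans hXc h3.symm hXT]
  · obtain ⟨ε, hε, hq'⟩ := psl_exists_eps hq
    refine ⟨ε, hε, ?_⟩
    have h1 : Ut (piP F T) = zpowers (piP F (a ^ 4)) :=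
      Subgroup.ext fun x => by rw [mem_Ut hE h4.ot, hmem]
    have h3 := index_mul_card (𝐂[piP F T])
    rw [h4.card_cent hE, h1, Nat.card_zpowers, hk] at h3
    zify at h3
    rw [psl_card_mul h2 hε hq'] at h3
    rw [relIndex_top_right, hk]
    exact mul_right_cancel₀ (by positivity) h3
  · -- eigenvectors of `T`
    have hdT := SL2_det T
    have htT := trace_eq_zero hT
    have key : ∀ c ∈ zpowers (piP F (a ^ 4)), c ≠ 1 → ∀ (l : ℕ) (P : Subgroup _), l.Prime →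
        l ≠ 2 → IsPGroup l P → c ∈ 𝐍(P) → P ⊓ 𝐂[c] = ⊥ → P ≠ ⊥ →
        ∃ x y j : F, ¬ (x = 0 ∧ y = 0) ∧ P ≤ Rv x y ∧ T 0 0 * x + T 0 1 * y = j * x ∧
          T 1 0 * x + T 1 1 * y = j * y := by
      intro c hc h1 l P hl hl2 hp hn hb hP
      obtain ⟨C, rfl, hCo, hCc, hCT⟩ := hlift c hc h1
      obtain ⟨x, y, hxy, hle, e⟩ := psl_rad h2 hCo hl hl2 hp hn hb hP
      obtain ⟨α, β, e1, e2, e3, e4⟩ := SL2_exists_lin hCc hCT
      obtain ⟨j, hj⟩ := exists_smul (z := T 0 0 * x + T 0 1 * y) (w := T 1 0 * x + T 1 1 * y)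
        hxy (by rw [e1, e2, e3, e4]; linear_combination β * e)
      exact ⟨x, y, j, hxy, hle, hj⟩
    have hsq : ∀ x y j : F, ¬ (x = 0 ∧ y = 0) → T 0 0 * x + T 0 1 * y = j * x →
        T 1 0 * x + T 1 1 * y = j * y → j ^ 2 = -1 := by
      intro x y j hxy e1 e2
      by_contra hj
      have hj' : j ^ 2 + 1 ≠ 0 := fun e => hj (by linear_combination e)
      refine hxy ⟨(mul_eq_zero.mp (?_ : (j ^ 2 + 1) * x = 0)).resolve_left hj',
        (mul_eq_zero.mp (?_ : (j ^ 2 + 1) * y = 0)).resolve_left hj'⟩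
      · linear_combination (-(T 0 0 + j)) * e1 - T 0 1 * e2 - x * hdT +
          (T 0 0 * x + T 0 1 * y) * htT
      · linear_combination (-(T 1 1 + j)) * e2 - T 1 0 * e1 - y * hdT +
          (T 1 0 * x + T 1 1 * y) * htT
    have hpar : ∀ x y x' y' j : F, j ^ 2 = -1 → T 0 0 * x + T 0 1 * y = j * x →
        T 1 0 * x + T 1 1 * y = j * y → T 0 0 * x' + T 0 1 * y' = j * x' →
        T 1 0 * x' + T 1 1 * y' = j * y' → ¬ (x = 0 ∧ y = 0) → Rv x' y' ≤ Rv x y := by
      intro x y x' y' j hj e1 e2 e3 e4 hxy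
      have h1 : 2 * (x' * y - y' * x) = 0 := by
        linear_combination (T 1 0 * x + T 1 1 * y) * e3 + j * x' * e2 -
          (T 0 0 * x + T 0 1 * y) * e4 - j * y' * e1 - (x' * y - y' * x) * hdT +
          (x' * y - y' * x) * hj
      obtain ⟨l, rfl, rfl⟩ := exists_smul hxy
        (sub_eq_zero.mp ((mul_eq_zero.mp h1).resolve_left h2))
      exact Rv_smul_le l x y
    by_cases hv : ∃ x y j : F, ¬ (x = 0 ∧ y = 0) ∧ T 0 0 * x + T 0 1 * y = j * x ∧
        T 1 0 * x + T 1 1 * y = j * y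
    · obtain ⟨x, y, i, hxy, e1, e2⟩ := hv
      have hi := hsq x y i hxy e1 e2
      refine ⟨Rv x y, le_top, ?_, ?_, ?_, fun g hg h1 => ?_, ?_⟩
      · intro g hg
        obtain ⟨c, rfl⟩ := mem_Rv.mp hg
        rw [← map_inv, ← map_mul, ← map_mul, uv_conj, e1, e2, uv_smul, hi, ← map_inv, uv_inv,
          neg_one_mul]
      · obtain ⟨α, β, f1, f2, f3, f4⟩ := SL2_exists_lin hTc hKT'
        refine mem_normalizer_fintype fun g hg => ?_
        obtain ⟨c, rfl⟩ := mem_Rv.mp hg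
        rw [← map_inv, ← map_mul, ← map_mul, uv_conj,
          show (a ^ 4) 0 0 * x + (a ^ 4) 0 1 * y = (α + β * i) * x by
            rw [f1, f2]; linear_combination β * e1,
          show (a ^ 4) 1 0 * x + (a ^ 4) 1 1 * y = (α + β * i) * y by
            rw [f3, f4]; linear_combination β * e2]
        exact Rv_smul_le _ x y (mem_Rv.mpr ⟨c, rfl⟩)
      · refine Nat.Coprime.coprime_dvd_left (card_Rv_dvd x y) ?_
        rw [hk, Nat.card_eq_fintype_card]
        refine Nat.Coprime.coprime_dvd_right (show 2 * z ∣ 4 * z from ⟨2, by ring⟩) ?_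
        rcases hq with e | e
        · rw [e]; simp
        · rw [← e]; simp
      · rw [top_inf_eq, cent_eq_Rv h2 hg h1]
      · intro c hc h1 l P hl hl2 _ hp hn hb
        by_cases hP : P = ⊥
        · exact Or.inl (hP ▸ bot_le)
        obtain ⟨x', y', j, hxy', hle, e3, e4⟩ := key c hc h1 l P hl hl2 hp hn hb hP
        rcases sq_eq_sq_iff_eq_or_eq_neg.mp ((hsq x' y' j hxy' e3 e4).trans hi.symm) with e | e
        · subst e
          exact Or.inl (hle.trans (hpar x y x' y' j hi e1 e2 e3 e4 hxy))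
        · right
          have hTS : T * S = -(S * T) := by
            rw [mul_inv_eq_iff_eq_mul.mp hST, neg_mul, neg_neg]
          have f1 : (T * S) 0 0 = (-(S * T)) 0 0 := by rw [hTS]
          have f2 : (T * S) 0 1 = (-(S * T)) 0 1 := by rw [hTS]
          have f3 : (T * S) 1 0 = (-(S * T)) 1 0 := by rw [hTS]
          have f4 : (T * S) 1 1 = (-(S * T)) 1 1 := by rw [hTS]
          simp only [SL2_mul_apply, SL2_neg_apply] at f1 f2 f3 f4
          have hdS := SL2_det S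
          refine hle.trans ((hpar (S 0 0 * x + S 0 1 * y) (S 1 0 * x + S 1 1 * y) x' y' j
            (by rw [e, neg_sq, hi]) ?_ ?_ e3 e4 ?_).trans ?_)
          · rw [e]
            linear_combination x * f1 + y * f2 - S 0 0 * e1 - S 0 1 * e2
          · rw [e]
            linear_combination x * f3 + y * f4 - S 1 0 * e1 - S 1 1 * e2
          · rintro ⟨g1, g2⟩
            refine hxy ⟨?_, ?_⟩
            · linear_combination S 1 1 * g1 - S 0 1 * g2 - x * hdS
            · linear_combination S 0 0 * g2 - S 1 0 * g1 - y * hdS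
          · intro g hg
            obtain ⟨d, rfl⟩ := mem_Rv.mp hg
            rw [← uv_conj, map_mul, map_mul, map_inv]
            exact conj_mem_conj_iff.mpr (mem_Rv.mpr ⟨d, rfl⟩)
    · refine ⟨⊥, bot_le, fun g hg => by rw [mem_bot.mp hg]; group, ?_, by simp,
        fun g hg h1 => absurd (mem_bot.mp hg) h1, ?_⟩
      · rw [normalizer_eq_top]; exact mem_top _
      · intro c hc h1 l P hl hl2 _ hp hn hb
        refine Or.inl (le_bot_iff.mpr (by_contra fun hP => hv ?_))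
        obtain ⟨x, y, j, hxy, -, e⟩ := key c hc h1 l P hl hl2 hp hn hb hP
        exact ⟨x, y, j, hxy, e⟩

end CfsgLib.GW
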