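import Cfsg.Agent.Lib.GW.Proj
import Cfsg.Agent.Lib.PGroupRankOne

/-!
# Brauer's theorem on homocyclic Sylow `2`-subgroups of rank two
-/

set_option autoImplicit false

namespace CfsgLib.GW

open Subgroup Cfsg CfsgLib.FT CfsgLib.FT.BGN CfsgLib.Blk
open scoped commutatorElement ComplexConjugate

theorem sunflower {X : Type*} [DecidableEq X] {F : Finset (Finset X)} (h3 : ∀ A ∈ F, A.card = 3)
    (h2 : ∀ A ∈ F, ∀ B ∈ F, A ≠ B → (A ∩ B).card = 2) (h5 : 5 ≤ F.card) :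
    ∃ P : Finset X, P.card = 2 ∧ ∀ C ∈ F, P ⊆ C := by
  obtain ⟨A, hA⟩ := Finset.card_pos.1 (show 0 < F.card by omega)
  obtain ⟨B1, hB1, B2, hB2, hne, e⟩ := Finset.exists_ne_map_eq_of_card_lt_of_maps_to
    (s := F.erase A) (t := A.powersetCard 2) (f := fun B => A ∩ B)
    (by rw [Finset.card_powersetCard, h3 A hA, Finset.card_erase_of_mem hA]; norm_num; omega)
    (fun B hB => by
      have hB' := Finset.mem_erase.1 hB
      exact Finset.mem_coe.2 (Finset.mem_powersetCard.2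
        ⟨Finset.inter_subset_left, h2 A hA B hB'.2 hB'.1.symm⟩))
  have h1 := Finset.mem_erase.1 hB1
  have h1' := Finset.mem_erase.1 hB2
  have hP := h2 A hA B1 h1.2 h1.1.symm
  refine ⟨A ∩ B1, hP, fun C hC => ?_⟩
  by_contra hn
  have key : ∀ B ∈ F, A ∩ B = A ∩ B1 → ∃ x ∈ C ∩ B, x ∉ A := fun B hB eB => by
    by_contra! hx
    have hCB : C ≠ B := by
      rintro rfl
      exact hn (eB ▸ Finset.inter_subset_right)
    have h4 : C ∩ B ⊆ A ∩ B1 := fun x hx' =>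
      eB ▸ Finset.mem_inter.2 ⟨hx x hx', (Finset.mem_inter.1 hx').2⟩
    have h6 := Finset.eq_of_subset_of_card_le h4 (by rw [hP, h2 C hC B hB hCB])
    exact hn (h6 ▸ Finset.inter_subset_left)
  obtain ⟨x1, hx1, hx1A⟩ := key B1 h1.2 rfl
  obtain ⟨x2, hx2, hx2A⟩ := key B2 h1'.2 e.symm
  have h4 : A ∩ B1 = B1 ∩ B2 := Finset.eq_of_subset_of_card_le
    (Finset.subset_inter Finset.inter_subset_right (e ▸ Finset.inter_subset_right))
    (by rw [hP, h2 B1 h1.2 B2 h1'.2 hne])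
  have h6 : x1 ≠ x2 := by
    rintro rfl
    have : x1 ∈ A ∩ B1 := h4 ▸ Finset.mem_inter.2
      ⟨(Finset.mem_inter.1 hx1).2, (Finset.mem_inter.1 hx2).2⟩
    exact hx1A (Finset.mem_inter.1 this).1
  have hAC : A ≠ C := by
    rintro rfl
    exact hn Finset.inter_subset_left
  have h7 : insert x1 (insert x2 (A ∩ C)) ⊆ C := Finset.insert_subset (Finset.mem_inter.1 hx1).1
    (Finset.insert_subset (Finset.mem_inter.1 hx2).1 Finset.inter_subset_right)
  have h8 := Finset.card_le_card h7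
  rw [Finset.card_insert_of_notMem (by simp [h6, hx1A]),
    Finset.card_insert_of_notMem (by simp [hx2A]), h2 A hA C hC hAC, h3 C hC] at h8
  omega

theorem num_homo (n : ℕ) : ∀ x y m : ℤ, x.natAbs + y.natAbs ≤ n →
    x ^ 2 - x * y + y ^ 2 + m * (x * y * (x + y)) = 0 → x = 0 := by
  induction n with
  | zero => intro x y m h _; omega
  | succ n ih =>
    intro x y m h e
    obtain ⟨a, ha⟩ := Int.even_or_odd' x
    obtain ⟨b, hb⟩ := Int.even_or_odd' y
    rcases ha with rfl | rfl <;> rcases hb with rfl | rfl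
    · by_cases h0 : a = 0 ∧ b = 0
      · omega
      · have := ih a b (2 * m) (by omega) (by linarith)
        omega
    all_goals
      exfalso
      have := congrArg (fun z : ℤ => (z : ZMod 2)) e
      push_cast at this
      revert this
      generalize (a : ZMod 2) = a
      generalize (b : ZMod 2) = b
      generalize (m : ZMod 2) = m
      revert a b m
      decide

variable {G : Type*} [Group G]

theorem card_le_ncard_aux [Finite G] (H : Subgroup G) (A : Finset G) (h : ∀ y ∈ A, y ∈ H) :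
    A.card ≤ Nat.card H := by
  rw [← Set.ncard_coe_finset, ← SetLike.coe_sort_coe, Nat.card_coe_set_eq]
  exact Set.ncard_le_ncard h (Set.toFinite _)

/-- An abelian Sylow `2`-subgroup whose automizer is generated by a fixed point free automorphism
of order `3`. -/
structure Homo (S : Subgroup G) (d : G) : Prop where
  syl : IsSylowIn 2 S ⊤
  comm : ∀ x ∈ S, ∀ y ∈ S, x * y = y * x
  norm : d ∈ 𝐍(S)
  cube : ∀ s ∈ S, d * (d * (d * s * d⁻¹) * d⁻¹) * d⁻¹ = s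
  free : ∀ s ∈ S, d * s * d⁻¹ = s → s = 1
  fus : ∀ s ∈ S, ∀ g, g * s * g⁻¹ ∈ S → g * s * g⁻¹ = s ∨ g * s * g⁻¹ = d * s * d⁻¹ ∨
    g * s * g⁻¹ = d * (d * s * d⁻¹) * d⁻¹
  nilp : ∀ s ∈ S, s ≠ 1 → Nilp2 𝐂[s]

namespace Homo

variable {S : Subgroup G} {d s : G} (h : Homo S d)
include h

theorem mem (hs : s ∈ S) : d * s * d⁻¹ ∈ S := conj_mem_of_mem_normalizer h.norm hs

theorem free2 (hs : s ∈ S) (e : d * (d * s * d⁻¹) * d⁻¹ = s) : s = 1 := by
  have := h.cube s hs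
  rw [e] at this
  exact h.free s hs this

theorem norm_eq_one (hs : s ∈ S) : s * (d * s * d⁻¹) * (d * (d * s * d⁻¹) * d⁻¹) = 1 := by
  refine h.free _ (mul_mem (mul_mem hs (h.mem hs)) (h.mem (h.mem hs))) ?_
  rw [← _root_.conj_mul, ← _root_.conj_mul, h.cube s hs,
    h.comm _ (mul_mem (h.mem hs) (h.mem (h.mem hs))) s hs, mul_assoc s]

theorem exists_pow [Finite G] (hs : s ∈ S) : ∃ k, s ^ 2 ^ k = 1 := by
  obtain ⟨k, hk⟩ := h.syl.isPGroup ⟨s, hs⟩
  exact ⟨k, congrArg Subtype.val hk⟩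

theorem mul_self_of_inv [Finite G] {t a : G} {k : ℕ} (ha : a ^ 2 ^ k = 1) (e : t * a * t⁻¹ = a⁻¹) :
    ∃ g, g * a * g⁻¹ ∈ S ∧ g * a * g⁻¹ * (g * a * g⁻¹) = 1 := by
  obtain ⟨g, -, hg⟩ := h.syl.exists_conj_le (H1.isPGroup_zpowers_of_pow ha) le_top
  have hs : g * a * g⁻¹ ∈ S := hg (conj_mem_map_conj (mem_zpowers a))
  refine ⟨g, hs, ?_⟩
  have e2 : g * t * g⁻¹ * (g * a * g⁻¹) * (g * t * g⁻¹)⁻¹ = (g * a * g⁻¹)⁻¹ := by
    rw [conj_inv, conj_inv, ← e]; group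
  generalize g * a * g⁻¹ = s at hs e2
  have h1 := h.fus s hs _ (e2 ▸ inv_mem hs)
  rw [e2] at h1
  rcases h1 with h1 | h1 | h1
  · exact mul_eq_one_iff_eq_inv.2 h1.symm
  · rw [h.free2 hs (by rw [← h1, ← conj_inv, ← h1, inv_inv]), mul_one]
  · have h2 := h.cube s hs
    rw [← h1, ← conj_inv, inv_eq_iff_eq_inv] at h2
    rw [h.free2 hs (by rw [h2, ← conj_inv, h2, inv_inv]), mul_one]

variable [Fintype G]

theorem T0_val {θ : G → ℂ} (hs : s ∈ S) (h1 : s ≠ 1) :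
    T0 S ⊤ θ s = θ s + θ (d * s * d⁻¹) + θ (d * (d * s * d⁻¹) * d⁻¹) := by
  classical
  obtain ⟨k, hk⟩ := h.exists_pow hs
  have hK : kerB (B0 2 ⊤) s s = Nat.card S :=
    kerB_self_of_nilp2 hk (mem_top s) (by rw [top_inf_eq]; exact h.nilp s hs h1)
      (h.syl.mono (le_inf le_top fun x hx => U4.mem_cent1.2 (h.comm x hx s hs)) le_top)
  have n1 : s ≠ d * s * d⁻¹ := fun e => h1 (h.free s hs e.symm)
  have n2 : s ≠ d * (d * s * d⁻¹) * d⁻¹ := fun e => h1 (h.free2 hs e.symm)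
  have n3 : d * s * d⁻¹ ≠ d * (d * s * d⁻¹) * d⁻¹ := fun e => n1 (by simpa using e)
  rw [T0_apply le_top, ← Finset.sum_subset (s₁ := {s, d * s * d⁻¹, d * (d * s * d⁻¹) * d⁻¹}),
    Finset.sum_insert (by simp only [Finset.mem_insert, Finset.mem_singleton]; tauto),
    Finset.sum_pair n3, kerB_conj_right _ _ (mem_top d), kerB_conj_right _ _ (mem_top d),
    kerB_conj_right _ _ (mem_top d), hK]
  · have := card_ne_zero S
    field_simp
    ring
  · intro x hx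
    simp only [Finset.mem_insert, Finset.mem_singleton] at hx
    rcases hx with rfl | rfl | rfl
    exacts [mem_elems.2 hs, mem_elems.2 (h.mem hs), mem_elems.2 (h.mem (h.mem hs))]
  · intro x hx hx'
    obtain ⟨k', hk'⟩ := h.exists_pow (mem_elems.1 hx)
    rw [kerB_of_not_conj hk (mem_top s) hk' fun z _ e => hx' ?_, mul_zero]
    have e2 : z⁻¹ * s * z⁻¹⁻¹ = x := by rw [← e]; group
    have := h.fus s hs z⁻¹ (e2 ▸ mem_elems.1 hx)
    rw [e2] at this
    simpa only [Finset.mem_insert, Finset.mem_singleton] using this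

/-- The action on characters. -/
def sg (μ : Irr S) : Irr S := ⟨cfConjg d⁻¹ μ, μ.irr.cfConjg (inv_mem h.norm)⟩

theorem sg_apply (μ : Irr S) (x : G) : h.sg μ x = μ (d * x * d⁻¹) := by
  change μ (d⁻¹⁻¹ * x * d⁻¹) = _
  rw [inv_inv]

theorem lin (μ : Irr S) : IsLin S μ := μ.irr.isLin_of_comm h.comm

theorem irr_ext {μ ν : Irr S} (e : ∀ x ∈ S, μ x = ν x) : μ = ν := by
  refine Irr.ext (funext fun x => ?_)
  by_cases hx : x ∈ S
  · exact e x hx
  · rw [μ.mem_CF.1 x hx, ν.mem_CF.1 x hx]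

theorem sg_cube (μ : Irr S) : h.sg (h.sg (h.sg μ)) = μ :=
  h.irr_ext fun x hx => by rw [sg_apply, sg_apply, sg_apply, h.cube x hx]

theorem sg_one : h.sg 1 = 1 :=
  h.irr_ext fun x hx => by rw [sg_apply, Irr.coe_one, cf1_apply hx, cf1_apply (h.mem hx)]

theorem sg_ne {μ : Irr S} (h1 : μ ≠ 1) : h.sg μ ≠ μ := fun e => h1 <| h.irr_ext fun x hx => by
  have e1 : ∀ y, μ (d * y * d⁻¹) = μ y := fun y => by rw [← sg_apply h, e]
  have h3 := congrArg μ (h.norm_eq_one hx)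
  rw [(h.lin μ).map_mul (mul_mem hx (h.mem hx)) (h.mem (h.mem hx)), (h.lin μ).map_mul hx (h.mem hx),
    e1, e1, e1, (h.lin μ).one] at h3
  obtain ⟨k, hk⟩ := h.exists_pow hx
  have h4 := (h.lin μ).map_pow hx (2 ^ k)
  rw [hk, (h.lin μ).one] at h4
  rw [Irr.coe_one, cf1_apply hx, ← pow_one (μ x), ← Nat.Coprime.gcd_eq_one
    (show Nat.Coprime (2 ^ k) 3 from Nat.Coprime.pow_left k (by norm_num)), pow_gcd_eq_one]
  exact ⟨h4.symm, by rw [← h3]; ring⟩

theorem sg_ne_one {μ : Irr S} (h1 : μ ≠ 1) : h.sg μ ≠ 1 := fun e => h1 (by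
  rw [← h.sg_cube μ, e, h.sg_one, h.sg_one])

theorem sg_sg_ne {μ : Irr S} (h1 : μ ≠ 1) : h.sg (h.sg μ) ≠ μ := fun e => h.sg_ne h1 (by
  have := h.sg_cube μ
  rwa [e] at this)

omit h in
/-- The lift of `1 - μ`. -/
noncomputable def Th (μ : Irr S) : G → ℂ := T0 S ⊤ (cf1 S - μ)

theorem sub_one (μ : Irr S) : (cf1 S - (μ : G → ℂ)) 1 = 0 := by
  rw [Pi.sub_apply, cf1_apply (one_mem S), (h.lin μ).one, sub_self]

theorem Th_odd (μ : Irr S) {g : G} (hg : Odd (orderOf g)) : Th μ g = 0 :=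
  T0_odd le_top h.syl.isPGroup (h.sub_one μ) hg

theorem Th_val (μ : Irr S) (hs : s ∈ S) :
    Th μ s = 3 - μ s - h.sg μ s - h.sg (h.sg μ) s := by
  by_cases h1 : s = 1
  · rw [h1, h.Th_odd μ (by simp), (h.lin _).one, (h.lin _).one, (h.lin _).one]
    norm_num
  · rw [Th, h.T0_val hs h1, sg_apply, sg_apply, sg_apply]
    simp only [Pi.sub_apply, cf1_apply hs, cf1_apply (h.mem hs), cf1_apply (h.mem (h.mem hs))]
    ring

omit h in
theorem Th_ZIrr (μ : Irr S) : Th μ ∈ ZIrr ⊤ := T0_ZIrr le_top (sub_mem cf1_mem_ZIrr μ.mem_ZIrr)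

omit h in
theorem proj0_Th (μ : Irr S) : projB (B0 2 ⊤) (Th μ) = Th μ := proj0_T0

omit h in
theorem cfdot_Th_one {μ : Irr S} (h1 : μ ≠ 1) : cfdot ⊤ (Th μ) (cf1 ⊤) = 1 := by
  classical
  rw [Th, cfdot_T0' le_top proj0_cf1, cfdot_congr (φ' := cf1 S - (μ : G → ℂ)) (ψ' := cf1 S) (fun _ _ => rfl)
    (fun x hx => by rw [cf1_apply hx, cf1_apply (mem_top x)]), cfdot_sub_left, cfdot_cf1,
    ← Irr.coe_one, Irr.cfdot_eq, if_neg h1, sub_zero]

open Classical in
theorem cfdot_Th {μ ν : Irr S} (h1 : μ ≠ 1) (h2 : ν ≠ 1) : cfdot ⊤ (Th μ) (Th ν) =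
    if μ ∈ ({ν, h.sg ν, h.sg (h.sg ν)} : Finset (Irr S)) then 4 else 3 := by
  rw [Th, cfdot_T0' le_top (proj0_Th ν), cfdot_congr (φ := cf1 S - (μ : G → ℂ))
    (φ' := ((1 : Irr S) : G → ℂ) - (μ : G → ℂ)) (ψ' := ((3 : ℕ) : ℂ) • ((1 : Irr S) : G → ℂ) - (ν : G → ℂ) - (h.sg ν : G → ℂ) -
      (h.sg (h.sg ν) : G → ℂ)) (fun _ _ => rfl)
    (fun x hx => by
      rw [h.Th_val ν hx]
      simp [cf1_apply hx])]
  have n1 := h.sg_ne h2
  have n2 := h.sg_sg_ne h2
  have n3 := h.sg_ne (h.sg_ne_one h2)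
  simp only [cfdot_sub_left, cfdot_sub_right, cfdot_natCast_smul_right, Irr.cfdot_eq, if_true,
    if_neg h1, if_neg h2.symm, if_neg (h.sg_ne_one h2).symm,
    if_neg (h.sg_ne_one (h.sg_ne_one h2)).symm, Finset.mem_insert, Finset.mem_singleton]
  by_cases e1 : μ = ν
  · subst e1; simp [n1.symm, n2.symm]; norm_num
  by_cases e2 : μ = h.sg ν
  · subst e2; simp [n1, n3.symm]; norm_num
  by_cases e3 : μ = h.sg (h.sg ν)
  · subst e3; simp [n2, n3]; norm_num
  simp [e1, e2, e3]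

theorem Th_eq_zero {μ : Irr S} (hμ : ∀ v ∈ S, v * v = 1 → μ v = 1) {t g : G}
    (e : t * g * t⁻¹ = g⁻¹) : Th μ g = 0 := by
  obtain ⟨a, ha, b, -, rfl, hc, ⟨k, hk⟩, ho⟩ := exists_p_part Nat.prime_two g
  have ho' := Nat.coprime_two_right.1 ho
  by_cases h1 : a = 1
  · exact h.Th_odd μ (by rwa [h1, one_mul])
  obtain ⟨c, hs, h2⟩ := h.mul_self_of_inv (k := k) (by rw [← hk, pow_orderOf_eq_one])
    (H5.inverts_of_mem_zpowers e ha)
  obtain ⟨k', hk'⟩ := h.exists_pow hs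
  have h3 : ∀ v, v * v = 1 → d * v * d⁻¹ * (d * v * d⁻¹) = 1 := fun v hv => by
    rw [_root_.conj_mul, hv, mul_one, mul_inv_cancel]
  rw [← (ZIrr_mem_CF (Th_ZIrr μ)).2 c (mem_top c), ← _root_.conj_mul, ← proj0_Th,
    proj0_mul hk' (mem_top _), proj0_Th, h.Th_val μ hs, sg_apply, sg_apply, sg_apply, hμ _ hs h2,
    hμ _ (h.mem hs) (h3 _ h2), hμ _ (h.mem (h.mem hs)) (h3 _ (h3 _ h2))]
  · norm_num
  · rw [top_inf_eq]
    refine h.nilp _ hs (U4.conj_ne_one_iff.2 h1) _ (U4.mem_cent1.2 ?_) (by rwa [U4.orderOf_conj])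
    rw [_root_.conj_mul, _root_.conj_mul, hc.eq]

theorem exists_triple : ∃ E : Irr S → Finset (G → ℂ), ∀ μ, μ ≠ 1 → (E μ).card = 3 ∧
    (∀ α ∈ E μ, IsDirr ⊤ α) ∧ Orthonormal' ⊤ (E μ) ∧ Th μ - cf1 ⊤ = ∑ α ∈ E μ, α := by
  have : ∀ μ : Irr S, ∃ E : Finset (G → ℂ), μ ≠ 1 → E.card = 3 ∧
      (∀ α ∈ E, IsDirr ⊤ α) ∧ Orthonormal' ⊤ E ∧ Th μ - cf1 ⊤ = ∑ α ∈ E, α := fun μ => by
    by_cases h1 : μ = 1
    · exact ⟨∅, fun h => absurd h1 h⟩
    obtain ⟨E, hE⟩ := zchar_small_norm (n := 3) (sub_mem (Th_ZIrr μ) cf1_mem_ZIrr)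
      (cfnorm_eq_of_cfdot_eq (by
        rw [cfdot_sub_left, cfdot_sub_right, cfdot_sub_right, h.cfdot_Th h1 h1, cfdot_Th_one h1,
          ZIrr_cfdot_comm cf1_mem_ZIrr (Th_ZIrr μ), cfdot_Th_one h1, cfdot_cf1, if_pos (by simp)]
        norm_num)) (by norm_num)
    exact ⟨E, fun _ => hE⟩
  exact ⟨fun μ => (this μ).choose, fun μ => (this μ).choose_spec⟩

omit h in
theorem re_cfdot_le {E F : Finset (G → ℂ)} (hE : ∀ α ∈ E, IsDirr ⊤ α) (hF : ∀ α ∈ F, IsDirr ⊤ α)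
    (hF' : Orthonormal' ⊤ F) [DecidableEq (G → ℂ)] :
    (cfdot ⊤ (∑ α ∈ F, α) (∑ α ∈ E, α)).re ≤ (E ∩ F).card := by
  rw [cfdot_sum_right, Complex.re_sum, ← Finset.filter_mem_eq_inter, Finset.card_filter,
    Nat.cast_sum]
  refine Finset.sum_le_sum fun α hα => ?_
  split_ifs with h1
  · rw [hF'.cfdot_sum_subset subset_rfl h1, if_pos h1]
    simp
  · rw [cfdot_sum_left, Complex.re_sum, Nat.cast_zero]
    refine Finset.sum_nonpos fun β hβ => ?_
    rcases (hF β hβ).cfdot_cases (hE α hα) with e | e | e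
    · exact absurd (e.1 ▸ hβ) h1
    · rw [e.2]; simp
    · rw [e.2.2]; simp

theorem exists_normal (h16 : 16 ≤ Nat.card S) {t : G} (ht : t ∈ S) (ht2 : orderOf t = 2)
    {l : Irr S} (hl1 : l ≠ 1) (hl : ∀ v ∈ S, v * v = 1 → l v = 1) :
    ∃ N : Subgroup G, N.Normal ∧ N ≠ ⊤ ∧ t ∈ N := by
  classical
  obtain ⟨E, hE⟩ := h.exists_triple
  have hdot : ∀ μ ν, μ ≠ 1 → ν ≠ 1 → cfdot ⊤ (∑ α ∈ E μ, α) (∑ α ∈ E ν, α) =
      if μ ∈ ({ν, h.sg ν, h.sg (h.sg ν)} : Finset (Irr S)) then 3 else 2 := fun μ ν h1 h2 => by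
    rw [← (hE μ h1).2.2.2, ← (hE ν h2).2.2.2, cfdot_sub_left, cfdot_sub_right, cfdot_sub_right,
      h.cfdot_Th h1 h2, cfdot_Th_one h1, ZIrr_cfdot_comm cf1_mem_ZIrr (Th_ZIrr ν), cfdot_Th_one h2,
      cfdot_cf1]
    split_ifs <;> norm_num
  obtain ⟨P, hP, hPE⟩ := sunflower (F := (Finset.univ.erase 1).image E) (fun A hA => by
      obtain ⟨μ, hμ, rfl⟩ := Finset.mem_image.1 hA
      exact (hE μ (Finset.ne_of_mem_erase hμ)).1) (fun A hA B hB hne => by
      obtain ⟨μ, hμ, rfl⟩ := Finset.mem_image.1 hA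
      obtain ⟨ν, hν, rfl⟩ := Finset.mem_image.1 hB
      have h1 := hE μ (Finset.ne_of_mem_erase hμ)
      have h2 := hE ν (Finset.ne_of_mem_erase hν)
      have h3 := re_cfdot_le h1.2.1 h2.2.1 h2.2.2.1
      rw [hdot ν μ (Finset.ne_of_mem_erase hν) (Finset.ne_of_mem_erase hμ)] at h3
      have h4 : 2 ≤ (E μ ∩ E ν).card := by
        have : (2 : ℝ) ≤ (E μ ∩ E ν).card := le_trans (by split_ifs <;> norm_num) h3
        exact_mod_cast this
      have h5 : (E μ ∩ E ν).card < 3 := by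
        rw [← h1.1]
        refine Finset.card_lt_card ⟨Finset.inter_subset_left, fun h6 => hne ?_⟩
        exact Finset.eq_of_subset_of_card_le (h6.trans Finset.inter_subset_right)
          (by rw [h1.1, h2.1])
      omega) (by
      have h1 := Finset.card_le_mul_card_image (f := E) (Finset.univ.erase 1) 3 fun A hA => by
        obtain ⟨ν, hν, rfl⟩ := Finset.mem_image.1 hA
        refine le_trans (Finset.card_le_card (t := {ν, h.sg ν, h.sg (h.sg ν)}) fun μ hμ => ?_)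
          Finset.card_le_three
        obtain ⟨h1, h2⟩ := Finset.mem_filter.1 hμ
        have h3 := hdot μ ν (Finset.ne_of_mem_erase h1) (Finset.ne_of_mem_erase hν)
        by_contra h4
        rw [if_neg h4, h2, cfdot_self, (hE ν (Finset.ne_of_mem_erase hν)).2.2.1.cfnorm_sum,
          (hE ν (Finset.ne_of_mem_erase hν)).1] at h3
        norm_num at h3
      rw [Finset.card_erase_of_mem (Finset.mem_univ _), Finset.card_univ,
        card_irr_of_comm h.comm] at h1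
      omega)
  have hPE' : ∀ μ, μ ≠ 1 → P ⊆ E μ := fun μ h1 =>
    hPE _ (Finset.mem_image_of_mem E (Finset.mem_erase.2 ⟨h1, Finset.mem_univ _⟩))
  have hone : ∀ μ, μ ≠ 1 → ∀ α ∈ E μ, cfdot ⊤ (Th μ - cf1 ⊤) α = 1 := fun μ h1 α hα => by
    rw [(hE μ h1).2.2.2, (hE μ h1).2.2.1.cfdot_sum_subset subset_rfl hα, if_pos hα]
  have horth : ∀ α ∈ E l, cfdot ⊤ α (cf1 ⊤) = 0 := fun α hα => by
    have h1 := hone l hl1 α hα
    have h2 : cfdot ⊤ (Th l - cf1 ⊤) (cf1 ⊤) = 0 := by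
      rw [cfdot_sub_left, cfdot_Th_one hl1, cfdot_cf1, sub_self]
    rcases ((hE l hl1).2.1 α hα).cfdot_cases (isIrr_cf1 ⊤).isDirr with e | e | e
    · rw [e.1, h2] at h1; exact absurd h1 zero_ne_one
    · rw [e.1, cfdot_neg_right, h2, neg_zero] at h1; exact absurd h1 zero_ne_one
    · exact e.2.2
  have hval : ∀ α ∈ P, α t = 1 := fun α hα => by
    have hαl := hPE' l hl1 hα
    have hd := (hE l hl1).2.1 α hαl
    have h1 : projB (B0 2 ⊤) α = α := projB_dirr (φ := Th l - cf1 ⊤) hd (by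
      rw [projB_sub, proj0_Th, proj0_cf1, hone l hl1 α hαl]; exact one_ne_zero)
    have h2 := eq_zero_of_cfdot_const h.comm (φ := cfRes S α - cf1 S)
      (sub_mem (cfRes_mem_CF le_top hd.mem_CF) cf1_mem_CF) (c := cfdot S α (cf1 S) - 1)
      (fun μ => by
        rw [cfdot_sub_left, cfdot_cfRes_left, ← Irr.coe_one, Irr.cfdot_eq]
        split_ifs with h3
        · rw [← h3]
        have h4 := hone μ (Ne.symm h3) α (hPE' μ (Ne.symm h3) hα)
        rw [cfdot_sub_left, cfdot_symm_zero (horth α hαl), sub_zero, Th, cfdot_T0' le_top h1,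
          ← cfdot_conj, cfdot_sub_right, ← map_one (starRingEnd ℂ)] at h4
        rw [← (starRingEnd ℂ).injective h4, Irr.coe_one]
        ring) (ne_one_of_inv ht2)
    rwa [Pi.sub_apply, cfRes_apply ht, cf1_apply ht, sub_eq_zero] at h2
  obtain ⟨α, β, hab, rfl⟩ := Finset.card_eq_two.1 hP
  obtain ⟨γ, hγ, e⟩ := Finset.exists_eq_insert_iff.2 ⟨hPE' l hl1, by rw [hP, (hE l hl1).1]⟩
  have hαl : α ∈ E l := hPE' l hl1 (by simp)
  have hβl : β ∈ E l := hPE' l hl1 (by simp)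
  have hγl : γ ∈ E l := e ▸ Finset.mem_insert_self _ _
  have hd := (hE l hl1).2.1
  have hsum : ∀ g, Th l g = 1 + α g + β g + γ g := fun g => by
    have := congrFun (hE l hl1).2.2.2 g
    rw [← e, Finset.sum_insert hγ, Finset.sum_pair hab, Pi.sub_apply, cf1_apply (mem_top g)] at this
    simp only [Pi.add_apply] at this
    linear_combination this
  have v1 := hval α (by simp)
  have v2 := hval β (by simp)
  have v3 : γ t = -3 := by
    have := hsum t
    rw [h.Th_eq_zero hl (t := 1) (by rw [inv_of_inv ht2]; simp), v1, v2] at this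
    linear_combination -this
  have hdeg : ∀ δ ∈ E l, δ t = 1 → ∃ x : ℤ, δ 1 = 2 * x + 1 := fun δ hδ h1 => by
    obtain ⟨n, hn⟩ := ZIrr_one_int (hd δ hδ).mem_ZIrr
    obtain ⟨x, hx⟩ := dvd_sub_of_ZIrr (k := 1) (m := 1) Nat.prime_two (hd δ hδ).mem_ZIrr (mem_top t)
      (by rw [pow_one, ← ht2, pow_orderOf_eq_one]) (by rw [h1]; simp) hn
    exact ⟨-x, by rw [hn, show n = 2 * -x + 1 by omega]; push_cast; ring⟩
  obtain ⟨x, hx⟩ := hdeg α hαl v1
  obtain ⟨y, hy⟩ := hdeg β hβl v2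
  have hz : γ 1 = -(3 + 2 * x + 2 * y) := by
    have := hsum 1
    rw [h.Th_odd l (by simp), hx, hy] at this
    linear_combination -this
  have h1 : ∑ z, Th l (t * (z * t * z⁻¹)) = 0 := Finset.sum_eq_zero fun z _ =>
    h.Th_eq_zero hl (H5.inverts_mul_left (by rw [← ht2, pow_orderOf_eq_one])
      (by rw [conj_pow, ← ht2, pow_orderOf_eq_one, mul_one, mul_inv_cancel]))
  simp only [hsum, Finset.sum_add_distrib, sum_dirr_conj (hd α hαl), sum_dirr_conj (hd β hβl),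
    sum_dirr_conj (hd γ hγl), v1, v2, v3, Finset.sum_const, Finset.card_univ, nsmul_eq_mul,
    ← Nat.card_eq_fintype_card] at h1
  have n1 := (hd α hαl).one_ne_zero
  have n2 := (hd β hβl).one_ne_zero
  have n3 := (hd γ hγl).one_ne_zero
  have n4 : (Nat.card G : ℂ) ≠ 0 := Nat.cast_ne_zero.2 Nat.card_pos.ne'
  field_simp at h1
  rw [hx, hy, hz, mul_zero, mul_eq_zero, or_iff_right n4] at h1
  have h2 : x = 0 := num_homo _ x y 1 le_rfl (by
    have : ((x ^ 2 - x * y + y ^ 2 + 1 * (x * y * (x + y)) : ℤ) : ℂ) = 0 := by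
      push_cast
      linear_combination (-1 / 8 : ℂ) * h1
    exact_mod_cast this)
  exact exists_normal_of_dirr (hd α hαl) (horth α hαl) (by rw [v1, hx, h2]; simp)

end Homo

theorem exists_homo [Finite G] [IsSimpleGroup G] (hna : ¬ IsMulCommutative G) {S : Subgroup G}
    (hS : IsSylowIn 2 S ⊤) (hc : IsMulCommutative S) (h4 : Nat.card (omegaOne 2 S) = 4) :
    ∃ d, Homo S d := by
  have := Fintype.ofFinite G
  have hcomm := comm_of_isMulCommutative (L := S)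
  have hSC : S ≤ 𝐂(S) := fun x hx => U4.mem_cent.2 fun y hy => hcomm y hy x hx
  obtain ⟨t, s, h, hV⟩ : ∃ t s, Four t s ∧ V t s = omegaOne 2 S := by
    have h2 : ∀ x ∈ omegaOne 2 S, x * x = 1 := fun x hx => by
      rw [← sq]; exact ((PGrp.mem_omegaOne_of_comm hc).1 hx).2
    obtain ⟨t, ht, ht1⟩ := (omegaOne 2 S).bot_or_exists_ne_one.resolve_left fun e => by
      simp [e] at h4
    have ht2 := inv_of_mul_self (h2 t ht) ht1
    obtain ⟨s, hs, hs1⟩ := SetLike.not_le_iff_exists.1 fun e : omegaOne 2 S ≤ zpowers t => by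
      have := card_le_of_le e
      rw [h4, card_zpowers_inv ht2] at this
      omega
    rw [mem_zpowers_inv ht2, not_or] at hs1
    have h : Four t s := ⟨ht2, inv_of_mul_self (h2 s hs) hs1.1,
      hcomm t (PGrp.omegaOne_le S ht) s (PGrp.omegaOne_le S hs), Ne.symm hs1.2⟩
    exact ⟨t, s, h, eq_of_le_of_card_ge (V_le ht hs) (by rw [h4, h.card_V])⟩
  have hmem : ∀ x, x ∈ V t s ↔ x ∈ S ∧ x ^ 2 = 1 := fun x => by
    rw [hV, PGrp.mem_omegaOne_of_comm hc]
  have hNV : 𝐍(S) ≤ 𝐍(V t s) := hV ▸ normalizer_le_normalizer_omegaOne S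
  -- an element of the normalizer fixing an involution centralizes `S`
  have key0 : ∀ t s, Four t s → (∀ x, x ∈ V t s ↔ x ∈ S ∧ x ^ 2 = 1) → 𝐍(S) ≤ 𝐍(V t s) →
      ∀ n ∈ 𝐍(S), n * t * n⁻¹ = t → n ∈ 𝐂(S) := fun t s h hmem hNV n hn e => by
    obtain ⟨a, ha, u, hu, rfl, -, hk, ho⟩ := exists_p_part Nat.prime_two n
    have haS : a ∈ S := by
      have h1 := hS.eq_of_le (T := S ⊔ zpowers a) (IsPGroup.to_sup_of_normal_left' hS.isPGroup
        (isPGroup_zpowers_iff.2 hk) (zpowers_le.2 (zpowers_le.2 hn ha))) le_sup_left le_top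
      exact h1 ▸ mem_sup_right (mem_zpowers a)
    refine mul_mem (hSC haS) ?_
    have huN : u ∈ 𝐍(S) := zpowers_le.2 hn hu
    have hut : u ∈ 𝐂[t] := zpowers_le.2 (U4.mem_cent1.2 (mul_inv_eq_iff_eq_mul.1 e)) hu
    have hus : u ∈ 𝐂[s] := by
      refine zpowers_le.2 ?_ (mem_zpowers_sq (Nat.coprime_two_right.1 ho))
      refine U4.mem_cent1.2 (mul_inv_eq_iff_eq_mul.1 ?_)
      have e1 := U4.conj_eq_of_mem_cent1 hut
      rw [show u * u * s * (u * u)⁻¹ = u * (u * s * u⁻¹) * u⁻¹ by group]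
      rcases h.mem_V.1 (conj_mem_of_mem_normalizer (hNV huN) (s_mem_V t s)) with e | e | e | e
      · exact absurd e (U4.conj_ne_one_iff.2 h.s1)
      · rw [← e1] at e
        exact absurd (by simpa using e) h.ne.symm
      · rw [e, e]
      · rw [e, ← _root_.conj_mul, e, e1, ← mul_assoc, h.tt, one_mul]
    have h1 := Cop.commutator_eq_bot_of_centralizes_omega_abelian (A := zpowers u) hS.isPGroup hc
      (zpowers_le.2 huN) (by rwa [Nat.card_zpowers]) fun x hx hx2 =>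
        le_centralizer_iff.1 (zpowers_le.2 (show u ∈ 𝐂(V t s) from cent_V t s ▸ ⟨hut, hus⟩))
          ((hmem x).2 ⟨hx, hx2⟩)
    exact le_centralizer_iff.1 (commutator_eq_bot_iff_le_centralizer.1 h1) (mem_zpowers u)
  have key : ∀ n ∈ 𝐍(S), ∀ x ∈ S, x ≠ 1 → n * x * n⁻¹ = x → n ∈ 𝐂(S) := fun n hn x hx h1 e => by
    obtain ⟨v, hv, hv2⟩ := exists_inv_of_not_odd (H := zpowers x) (by
      rw [Nat.card_zpowers, Nat.not_odd_iff_even, even_iff_two_dvd]
      obtain ⟨k, hk⟩ := IsPGroup.iff_orderOf.1 hS.isPGroup ⟨x, hx⟩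
      rw [← orderOf_coe] at hk
      rcases k with _ | k
      · exact absurd (orderOf_eq_one_iff.1 hk) h1
      · rw [show orderOf x = 2 ^ (k + 1) from hk]
        exact dvd_pow_self 2 (by omega))
    have e2 : n * v * n⁻¹ = v := U4.conj_eq_of_mem_cent1 (U4.mem_cent1.2 (U4.mem_cent1'.1
      (zpowers_le.2 (U4.mem_cent1'.2 (mul_inv_eq_iff_eq_mul.1 e)) hv)))
    rcases h.mem_V.1 ((hmem v).2 ⟨zpowers_le.2 hx hv, by rw [← hv2, pow_orderOf_eq_one]⟩)
      with rfl | rfl | rfl | rfl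
    · simp at hv2
    · exact key0 v s h hmem hNV n hn e2
    · exact key0 v t h.symm (V_comm t v ▸ hmem) (V_comm t v ▸ hNV) n hn e2
    · have e3 : V (t * s) t = V t s := by rw [V_comm, h.V_mul]
      exact key0 _ t h.mul.symm (e3 ▸ hmem) (e3 ▸ hNV) n hn e2
  have burn : ∀ M, S ≤ M → M ⊓ 𝐍(S) ≤ 𝐂(S) → Nilp2 M := fun M hM h1 => by
    obtain ⟨P, hP⟩ := (hS.mono hM le_top).exists_sylow
    refine nilp2_of_hnpc (PCompl.hnpc_of_normalizer_le_centralizer P fun g hg => ?_)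
    rw [hP] at hg ⊢
    have h2 : (g : G) ∈ 𝐍(S) := mem_normalizer_of_conj_mem fun x hx =>
      conj_mem_of_mem_normalizer (x := ⟨x, hM hx⟩) hg hx
    exact U4.mem_cent.2 fun x hx => Subtype.ext (U4.mem_cent.1 (h1 ⟨g.2, h2⟩) x hx)
  have htS := ((hmem t).1 (t_mem_V t s)).1
  obtain ⟨d, hd, hdC⟩ := SetLike.not_le_iff_exists.1 fun e : 𝐍(S) ≤ 𝐂(S) => by
    have h1 := (burn ⊤ le_top (inf_le_right.trans e)).sup_sylow hS
    rcases (normal_of_le_normalizer_top (le_norm_Od (⊤ : Subgroup G))).eq_bot_or_eq_top with e | e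
    · rw [e, bot_sup_eq] at h1
      exact hna ⟨⟨fun x y => hcomm x (h1 ▸ mem_top x) y (h1 ▸ mem_top y)⟩⟩
    · exact notMem_Od h.ot (e ▸ mem_top t)
  have free : ∀ x ∈ S, d * x * d⁻¹ = x → x = 1 := fun x hx e =>
    by_contra fun h1 => hdC (key d hd x hx h1 e)
  have hVm : ∀ x ∈ V t s, d * x * d⁻¹ ∈ V t s := fun x hx => conj_mem_of_mem_normalizer (hNV hd) hx
  have h' : Four t (d * t * d⁻¹) := ⟨h.ot, by rw [U4.orderOf_conj, h.ot],
    hcomm _ htS _ (conj_mem_of_mem_normalizer hd htS), fun e => h.t1 (free t htS e.symm)⟩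
  have hV' := h.V_eq h' (t_mem_V t s) (hVm t (t_mem_V t s))
  have e2 : d * (d * t * d⁻¹) * d⁻¹ = t * (d * t * d⁻¹) := by
    have h1 := hVm _ (hVm t (t_mem_V t s))
    rw [← hV'] at h1
    rcases h'.mem_V.1 h1 with e | e | e | e
    · exact absurd e (U4.conj_ne_one_iff.2 h'.s1)
    · refine absurd (free _ (mul_mem htS (conj_mem_of_mem_normalizer hd htS)) ?_) h'.ts1
      rw [← _root_.conj_mul, e, h'.comm]
    · exact absurd (free _ (conj_mem_of_mem_normalizer hd htS) e) h'.s1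
    · exact e
  have cases : ∀ n ∈ 𝐍(S), n ∈ 𝐂(S) ∨ d⁻¹ * n ∈ 𝐂(S) ∨ (d * d)⁻¹ * n ∈ 𝐂(S) := fun n hn => by
    have h1 := conj_mem_of_mem_normalizer (hNV hn) (t_mem_V t s)
    rw [← hV'] at h1
    rcases h'.mem_V.1 h1 with e | e | e | e
    · exact absurd e (U4.conj_ne_one_iff.2 h.t1)
    · exact Or.inl (key n hn t htS h.t1 e)
    · refine Or.inr (Or.inl (key _ (mul_mem (inv_mem hd) hn) t htS h.t1 ?_))
      calc d⁻¹ * n * t * (d⁻¹ * n)⁻¹ = d⁻¹ * (n * t * n⁻¹) * d := by group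
        _ = t := by rw [e]; group
    · refine Or.inr (Or.inr (key _ (mul_mem (inv_mem (mul_mem hd hd)) hn) t htS h.t1 ?_))
      calc (d * d)⁻¹ * n * t * ((d * d)⁻¹ * n)⁻¹ = d⁻¹ * (d⁻¹ * (n * t * n⁻¹) * d) * d := by
            simp only [mul_inv_rev, inv_inv, mul_assoc]
        _ = t := by rw [e, ← e2]; group
  refine ⟨d, hS, hcomm, hd, fun x hx => ?_, free, fun x hx g hg => ?_, fun x hx h1 => ?_⟩
  · have h1 := key (d * d * d) (mul_mem (mul_mem hd hd) hd) t htS h.t1 (by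
      rw [show d * d * d * t * (d * d * d)⁻¹ = d * (d * (d * t * d⁻¹) * d⁻¹) * d⁻¹ by group, e2,
        ← _root_.conj_mul, e2, ← mul_assoc, ← h'.comm, mul_assoc t, h'.ss, mul_one])
    have h2 := U4.mem_cent.1 h1 x hx
    calc d * (d * (d * x * d⁻¹) * d⁻¹) * d⁻¹ = d * d * d * x * (d * d * d)⁻¹ := by group
      _ = x := by rw [← h2, mul_inv_cancel_right]
  · have h1 : S ≤ 𝐂[g * x * g⁻¹] := fun y hy => U4.mem_cent1.2 (hcomm y hy _ hg)
    have h2 : g •ᶜ S ≤ 𝐂[g * x * g⁻¹] := by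
      rw [U4.cent1_conj]
      exact map_mono fun y hy => U4.mem_cent1.2 (hcomm y hy _ hx)
    obtain ⟨c, hc, e⟩ := (hS.mono h1 le_top).exists_conj_eq
      ((hS.map_conj_of_mem_normalizer (g := g) (le_normalizer (mem_top g))).mono h2 le_top)
    have hn : c * g ∈ 𝐍(S) := mem_normalizer_of_map_conj_eq (by rw [map_conj_mul, e])
    have e3 : g * x * g⁻¹ = c * g * x * (c * g)⁻¹ := by
      rw [show c * g * x * (c * g)⁻¹ = c * (g * x * g⁻¹) * c⁻¹ by group, U4.conj_eq_of_mem_cent1 hc]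
    rw [e3]
    generalize c * g = n at hn
    rcases cases n hn with h3 | h3 | h3
    · exact Or.inl (by rw [← U4.mem_cent.1 h3 x hx, mul_inv_cancel_right])
    · refine Or.inr (Or.inl ?_)
      calc n * x * n⁻¹ = d * (d⁻¹ * n * x * (d⁻¹ * n)⁻¹) * d⁻¹ := by group
        _ = _ := by rw [← U4.mem_cent.1 h3 x hx, mul_inv_cancel_right]
    · refine Or.inr (Or.inr ?_)
      calc n * x * n⁻¹ = d * (d * ((d * d)⁻¹ * n * x * ((d * d)⁻¹ * n)⁻¹) * d⁻¹) * d⁻¹ := by group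
        _ = _ := by rw [← U4.mem_cent.1 h3 x hx, mul_inv_cancel_right]
  · exact burn _ (fun y hy => U4.mem_cent1.2 (hcomm y hy x hx)) fun n hn =>
      key n hn.2 x hx h1 (U4.conj_eq_of_mem_cent1 hn.1)

/-- Brauer: in a non-abelian simple group an abelian Sylow `2`-subgroup with exactly three
involutions has order `4`. -/
theorem card_eq_four_of_omega [Finite G] [IsSimpleGroup G] (hna : ¬ IsMulCommutative G)
    {S : Subgroup G} (hS : IsSylowIn 2 S ⊤) (hc : IsMulCommutative S)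
    (h4 : Nat.card (omegaOne 2 S) = 4) : Nat.card S = 4 := by
  classical
  have := Fintype.ofFinite G
  obtain ⟨d, h⟩ := exists_homo hna hS hc h4
  by_contra hne
  obtain ⟨x, hx, hxV⟩ := SetLike.not_le_iff_exists.1 fun e : S ≤ omegaOne 2 S =>
    hne (by rw [← h4, le_antisymm (PGrp.omegaOne_le S) e])
  obtain ⟨l, hl, hlV, hlx⟩ := exists_irr_ker_not_mem (PGrp.omegaOne_le S)
    (le_normalizer.trans (normalizer_le_normalizer_omegaOne S)) hx hxV
  let f : S →* S := ⟨⟨fun y => y * y, mul_one 1⟩, fun a b => Subtype.ext (by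
    simp only [coe_mul]
    rw [mul_assoc, ← mul_assoc (b : G), h.comm b b.2 a a.2]
    group)⟩
  have hker : f.ker = (omegaOne 2 S).subgroupOf S := by
    ext y
    rw [MonoidHom.mem_ker, mem_subgroupOf, PGrp.mem_omegaOne_of_comm hc, Subtype.ext_iff, sq]
    simp [f]
  have hx2 : x * x ≠ 1 := fun e => hxV ((PGrp.mem_omegaOne_of_comm hc).2 ⟨hx, by rwa [sq]⟩)
  have hR : ∀ y ∈ S, y * y ∈ f.range.map S.subtype := fun y hy => ⟨f ⟨y, hy⟩, ⟨_, rfl⟩, rfl⟩
  have hR4 : 4 ≤ Nat.card f.range := by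
    have hxx := mul_mem hx hx
    have h1 := card_le_ncard_aux (f.range.map S.subtype)
      {1, x * x, d * (x * x) * d⁻¹, d * (d * (x * x) * d⁻¹) * d⁻¹} (by
        intro y hy
        simp only [Finset.mem_insert, Finset.mem_singleton] at hy
        rcases hy with rfl | rfl | rfl | rfl
        · exact one_mem _
        · exact hR x hx
        · rw [← _root_.conj_mul]; exact hR _ (h.mem hx)
        · have := hR _ (h.mem (h.mem hx))
          rwa [_root_.conj_mul, _root_.conj_mul] at this)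
    have n1 : x * x ≠ d * (x * x) * d⁻¹ := fun e => hx2 (h.free _ hxx e.symm)
    have n2 : x * x ≠ d * (d * (x * x) * d⁻¹) * d⁻¹ := fun e => hx2 (h.free2 hxx e.symm)
    have n3 : d * (x * x) * d⁻¹ ≠ d * (d * (x * x) * d⁻¹) * d⁻¹ := fun e => n1 (by simpa using e)
    have n4 := U4.conj_ne_one_iff (g := d).2 hx2
    have n5 := U4.conj_ne_one_iff (g := d).2 n4
    rw [Finset.card_insert_of_notMem (by
        simp only [Finset.mem_insert, Finset.mem_singleton]; tauto),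
      Finset.card_insert_of_notMem (by
        simp only [Finset.mem_insert, Finset.mem_singleton]; tauto), Finset.card_pair n3,
      card_map_of_injective S.subtype_injective] at h1
    exact h1
  have h16 : 16 ≤ Nat.card S := by
    rw [← f.ker.card_mul_index, index_ker, hker, card_subgroupOf_of_le (PGrp.omegaOne_le S), h4]
    omega
  obtain ⟨t, ht, ht2⟩ := exists_inv_of_not_odd (H := omegaOne 2 S) (by rw [h4]; decide)
  obtain ⟨N, hN, h1, h2⟩ := h.exists_normal h16 (PGrp.omegaOne_le S ht) ht2 (l := ⟨l, hl⟩)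
    (fun e => hlx (((Irr.eq_one_iff _).1 e) hx)) fun v hv hv2 =>
      (cfker_apply (hlV ((PGrp.mem_omegaOne_of_comm hc).2 ⟨hv, by rwa [sq]⟩))).trans (h.lin ⟨l, hl⟩).one
  rcases hN.eq_bot_or_eq_top with e | e
  · exact ne_one_of_inv ht2 (mem_bot.1 (e ▸ h2))
  · exact h1 e

end CfsgLib.GW
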