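import Cfsg.Agent.Lib.GW.LocalE2

/-!
# The centralizer of an involution is generalized dihedral
-/

set_option autoImplicit false

namespace CfsgLib.GW

open Subgroup Cfsg CfsgLib.FT.BGN CfsgLib.FT.U4
open scoped commutatorElement

universe u

variable {G : Type u} [Group G] [Finite G]

/-- `s` neither centralizes nor inverts `W / ⟨c⟩`. -/
structure T5 (L : Subgroup G) (t s c x y k : G) (p : ℕ) [Fact p.Prime] : Prop
    extends T4 t s c p where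
  xW : x ∈ toT4.W
  sx : s * x * s⁻¹ = x⁻¹
  xc : x ∉ zpowers c
  yW : y ∈ toT4.W
  ys : y ∈ 𝐂[s]
  y1 : y ≠ 1
  ed : EData (zpowers y) L t s k
  te : TypeE 𝐍(zpowers y) L

namespace T5

variable {L : Subgroup G} {t s c x y k : G} {p : ℕ} [hp : Fact p.Prime] (h : T5 L t s c x y k p)
include h

theorem ox : orderOf x = p := orderOf_eq_prime h.xW.2.1 fun e => h.xc (e ▸ one_mem _)

theorem oy : orderOf y = p := orderOf_eq_prime h.yW.2.1 h.y1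

theorem xU : x ∈ Ut t := h.W_le_U h.xW

theorem yU : y ∈ Ut t := h.W_le_U h.yW

theorem not_cent {a : G} (ha : a ∈ pCoreOf p (Ut t) ⊓ 𝐂[s]) (h1 : a ≠ 1) : x ∉ 𝐂[a] := fun hx =>
  h.xc (h.mem_c' (X := zpowers a) (by simpa using h1) (zpowers_le.2 ha) h.xU
    (by rwa [cent_zpowers]) h.sx h.xW.2.1)

theorem xy : x ∉ 𝐂[y] := h.not_cent ⟨h.yW.1, h.ys⟩ h.y1

theorem A_eq : pCoreOf p (Ut t) ⊓ 𝐂[s] = zpowers y := by
  refine eq_zpowers_of_card_le ⟨h.yW.1, h.ys⟩ ?_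
  rw [h.oy.trans h.oc.symm, ← Nat.card_zpowers]
  refine Nat.card_le_card_of_injective
    (fun a : ↥(pCoreOf p (Ut t) ⊓ 𝐂[s]) => (⟨⁅x, (a : G)⁆, h.xW.2.2 a a.2.1⟩ : zpowers c))
    fun a b e => Subtype.ext (inv_mul_eq_one.1 ?_)
  have e' : ⁅x, (a : G)⁆ = ⁅x, (b : G)⁆ := congrArg Subtype.val e
  by_contra h1
  refine h.not_cent (mul_mem (inv_mem a.2) b.2) h1 (mem_cent1_of_conj_eq ?_)
  calc x * ((a : G)⁻¹ * b) * x⁻¹ = (⁅x, (a : G)⁆ * a)⁻¹ * (⁅x, (b : G)⁆ * b) := by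
        simp only [commutatorElement_def]; group
    _ = _ := by rw [e']; group

theorem k_le : zpowers k ≤ Ut t ⊓ 𝐂[y] :=
  le_inf (h.ed.psl.k_le_U h.e4 h.four.ot) (cent_zpowers y ▸ h.ed.psl.k_le.trans h.ed.cent)

theorem ck : c ∈ zpowers k := h.ed.mem_k h.e4 h.cU
  (cent_le_norm _ (by rw [cent_zpowers, mem_cent1_comm]; exact h.Uc h.yU)) h.sc

theorem split {H : Subgroup G} (hH : H ≤ Ut t) (hs : s ∈ 𝐍(H)) {g : G} (hg : g ∈ H)
    (hy : g ∈ 𝐂[y]) : ∃ a ∈ H ⊓ 𝐂[s], ∃ z ∈ H ⊓ zpowers k, g = a * z := by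
  obtain ⟨a, ha, z, hz, e, rfl⟩ := exists_cent_mul_inv h.four.ss
    (odd_card_of_le (odd_Ut t) (inf_le_left.trans hH))
    (mem_norm_inf hs (mem_norm_cent1 (mem_cent1_comm.1 h.ys))) (show g ∈ H ⊓ 𝐂[y] from ⟨hg, hy⟩)
  exact ⟨a, ⟨ha.1.1, ha.2⟩, z, ⟨hz.1, h.ed.mem_k h.e4 (hH hz.1)
    (cent_le_norm _ (by rw [cent_zpowers]; exact hz.2)) e⟩, rfl⟩

theorem splitP {g : G} (hg : g ∈ pCoreOf p (Ut t)) (hy : g ∈ 𝐂[y]) :
    ∃ a ∈ zpowers y, ∃ z ∈ pCoreOf p (Ut t) ⊓ zpowers k, g = a * z :=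
  h.A_eq ▸ h.split (H1.pCoreOf_le _) (cent_le_norm_pc t p h.four.s_cent) hg hy

theorem kx : pCoreOf p (Ut t) ⊓ zpowers k ≤ 𝐂[x] := fun g hg => by
  have h1 := h.xW.2.2 g hg.1
  rw [mem_cent1', ← commutatorElement_eq_one_iff_mul_comm]
  refine h.eq_one_of_c h1 (mem_cent1_comm.1 (mem_cent1_of_conj_eq ?_))
  rw [show s * ⁅x, g⁆ * s⁻¹ = ⁅s * x * s⁻¹, s * g * s⁻¹⁆ by simp only [commutatorElement_def]; group,
    h.sx, h.ed.psl.inverts g hg.2,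
    show ⁅x⁻¹, g⁻¹⁆ = (g * x)⁻¹ * ⁅x, g⁆ * (g * x)⁻¹⁻¹ by simp only [commutatorElement_def]; group]
  exact cent_of_mem_zpowers (h.Uc (inv_mem (mul_mem (H1.pCoreOf_le _ hg.1) h.xU))) h1

theorem comm_y {g : G} (hg : g ∈ pCoreOf p (Ut t)) : ⁅g, y⁆ ∈ zpowers c := by
  simpa using inv_mem (h.yW.2.2 g hg)

theorem decomp {w : G} (hw : w ∈ pCoreOf p (Ut t)) (hy : w ∉ 𝐂[y]) {g : G}
    (hg : g ∈ pCoreOf p (Ut t)) :
    ∃ v ∈ zpowers w, ∃ a ∈ zpowers y, ∃ z ∈ pCoreOf p (Ut t) ⊓ zpowers k, g = v * (a * z) := by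
  have h1 : ∀ n : ℕ, ⁅w ^ n, y⁆ = ⁅w, y⁆ ^ n := fun n => by
    induction n with
    | zero => simp
    | succ n ih =>
      rw [pow_succ', show ⁅w * w ^ n, y⁆ = w * ⁅w ^ n, y⁆ * w⁻¹ * ⁅w, y⁆ by
        simp only [commutatorElement_def]; group,
        cent_of_mem_zpowers (h.Uc (H1.pCoreOf_le _ hw)) (h.comm_y (pow_mem hw n)), ih, pow_succ]
  have h2 := zpowers_eq_of_card_prime (by rw [Nat.card_zpowers, h.oc]; exact hp.1) (h.comm_y hw)
    fun e => hy (mem_cent1.2 (commutatorElement_eq_one_iff_mul_comm.1 e))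
  obtain ⟨n, hn⟩ := (mem_powers_iff_mem_zpowers).2 (h2.ge (h.comm_y hg))
  simp only [← h1] at hn
  simp only [commutatorElement_def, mul_left_inj] at hn
  obtain ⟨a, ha, z, hz, e⟩ := h.splitP (mul_mem (inv_mem (pow_mem hw n)) hg)
    (mem_cent1_of_conj_eq (by
      rw [show (w ^ n)⁻¹ * g * y * ((w ^ n)⁻¹ * g)⁻¹ = (w ^ n)⁻¹ * (g * y * g⁻¹) * w ^ n by group,
        ← hn]
      group))
  exact ⟨w ^ n, pow_mem (mem_zpowers w) n, a, ha, z, hz, by rw [← e, mul_inv_cancel_left]⟩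

theorem K_cent : pCoreOf p (Ut t) ⊓ zpowers k ≤ 𝐂(pCoreOf p (Ut t)) := fun z hz =>
  mem_cent.2 fun g hg => by
    obtain ⟨v, hv, a, ha, z', hz', rfl⟩ := h.decomp h.xW.1 h.xy hg
    exact mem_cent1.1 (mul_mem (zpowers_le.2 (mem_cent1_comm.1 (h.kx hz)) hv) (mul_mem
      (zpowers_le.2 (mem_cent1_comm.1 (h.k_le hz.2).2) ha)
      (cent1_le_cent1 hz.2 (zpowers_le_cent1 k hz'.2))))

theorem Zp_le_k : LD.Zp p (Ut t) ≤ zpowers k ⊓ 𝐂(Ut t) := by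
  have h1 : LD.Zp p (Ut t) ≤ zpowers k := fun g hg => by
    obtain ⟨a, ha, z, hz, e⟩ := h.splitP hg.1 (cent_le_cent1 h.yW.1 hg.2)
    have h2 := mul_mem (cent_le_cent1 h.xW.1 hg.2) (inv_mem (h.kx hz))
    rw [e, mul_inv_cancel_right, mem_cent1_comm] at h2
    rw [e, eq_one_of_cent h.oy ha h.xy h2, one_mul]
    exact hz.2
  exact le_inf h1 (le_centralizer_iff.1 (h.U_le_cent (LD.le_norm_Zp p _) (h.ed.psl.inverts.mono h1)))

theorem K_le : pCoreOf p (Ut t) ⊓ zpowers k ≤ 𝐂(Ut t) :=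
  ((le_inf inf_le_left h.K_cent).trans h.Zp_le_k).trans inf_le_right

theorem comm_mem {g g' : G} (hg : g ∈ pCoreOf p (Ut t)) (hg' : g' ∈ pCoreOf p (Ut t)) :
    ⁅g, g'⁆ ∈ zpowers c := by
  obtain ⟨v, hv, a, ha, z, hz, rfl⟩ := h.decomp h.xW.1 h.xy hg
  have := (mul_mem (zpowers_le.2 h.xW hv) (zpowers_le.2 h.yW ha)).2.2 g' hg'
  rwa [show ⁅v * (a * z), g'⁆ = v * a * (z * g') * z⁻¹ * (v * a)⁻¹ * g'⁻¹ by
    simp only [commutatorElement_def]; group, ← mem_cent.1 (h.K_cent hz) g' hg', ← mul_assoc,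
    mul_inv_cancel_right]

theorem pc_le {q : ℕ} [Fact q.Prime] (hq : q ≠ p) : pCoreOf q (Ut t) ≤ zpowers k ⊓ 𝐂(Ut t) := by
  have h1 : Inverts s (pCoreOf q (Ut t)) := inverts_of_inf_cent h.four.ss
    (odd_card_of_le (odd_Ut t) (H1.pCoreOf_le _)) (cent_le_norm_pc t q h.four.s_cent) (by
      by_contra hne
      by_cases h2 : pCoreOf q (Ut t) ≤ 𝐂[s]
      · exact hne (by rw [h.no_one h2, bot_inf_eq])
      have h3 := (LD.pc_le_cent hq.symm (Ut t)).trans (centralizer_le (inf_le_left (b := 𝐂[s])))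
      exact h.xc ((⟨h.hyp, h.four, h.max, hne, h2⟩ : T3 t s q).mem_c hne le_rfl h.xU h.cU
        (h3 h.xW.1) (h3 h.cP) h.sx h.sc (h.oc ▸ h.xW.2.1)))
  exact le_inf (fun g hg => h.ed.mem_k h.e4 (H1.pCoreOf_le _ hg) (cent_le_norm _ (by
    rw [cent_zpowers]; exact cent_le_cent1 h.yW.1 (LD.pc_le_cent hq _ hg))) (h1 g hg))
    (le_centralizer_iff.1 (h.U_le_cent (H1.le_normalizer_pCoreOf _) h1))

theorem fit_le' : fittingOf (Ut t) ≤ pCoreOf p (Ut t) ⊔ (zpowers k ⊓ 𝐂(Ut t)) :=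
  H1.fittingOf_le_of_forall fun q _ => by
    by_cases hq : q = p
    · exact hq ▸ le_sup_left
    · exact (h.pc_le hq).trans le_sup_right

theorem splitF {g : G} (hg : g ∈ fittingOf (Ut t)) :
    ∃ a ∈ pCoreOf p (Ut t), ∃ z ∈ zpowers k ⊓ 𝐂(Ut t), a * z = g :=
  (mem_sup_iff_of_le_normalizer' ((inf_le_left.trans (h.k_le.trans inf_le_left)).trans
    (H1.le_normalizer_pCoreOf _))).1 (h.fit_le' hg)

theorem mem_c_of_k {z : G} (hz : z ∈ zpowers k) (hp : z ^ p = 1) : z ∈ zpowers c :=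
  Frob.mem_zpowers_of_isCyclic h.ck hz (h.oc ▸ hp)

theorem mem_yc {g : G} (hg : g ∈ pCoreOf p (Ut t)) (hp : g ^ p = 1) (hy : g ∈ 𝐂[y]) :
    ∃ a ∈ zpowers y, ∃ z ∈ zpowers c, g = a * z := by
  obtain ⟨a, ha, z, hz, rfl⟩ := h.splitP hg hy
  refine ⟨a, ha, z, h.mem_c_of_k hz.2 ?_, rfl⟩
  have h1 : Commute a z := mem_cent.1 (h.K_cent hz) a (zpowers_le.2 h.yW.1 ha)
  rwa [h1.mul_pow, (zpowers_le.2 h.yW ha).2.1, one_mul] at hp

theorem relIndex_y_le : (𝐂[y]).relIndex (pCoreOf p (Ut t)) ≤ p :=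
  (relIndex_cent_le fun _ hg => h.comm_y hg).trans (by rw [Nat.card_zpowers, h.oc])

theorem rank : PRankLE p 2 (pCoreOf p (Ut t)) := FT.pRankLE_iff.2 fun E hE hab => by
  by_cases hy : E ≤ 𝐂[y]
  · have h1 : E ≤ zpowers y ⊔ zpowers c := fun g hg => by
      obtain ⟨a, ha, z, hz, rfl⟩ := h.mem_yc (hE hg) (hab.2 g hg) (hy hg)
      exact mul_mem (mem_sup_left ha) (mem_sup_right hz)
    have h2 := card_sup_dvd_mul (zpowers_le.2 (h.norm_c (Ut_le t h.yU)))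
    rw [Nat.card_zpowers, Nat.card_zpowers, h.oy, h.oc, ← sq] at h2
    exact (card_le_of_le h1).trans (Nat.le_of_dvd (pow_pos hp.1.pos 2) h2)
  · obtain ⟨e, he, he'⟩ := SetLike.not_le_iff_exists.1 hy
    have h1 : 𝐂[y] ⊓ E ≤ zpowers c := fun g hg => by
      obtain ⟨a, ha, z, hz, rfl⟩ := h.mem_yc (hE hg.2) (hab.2 g hg.2) hg.1
      have h2 : a * z ∈ 𝐂[e] :=
        mem_cent1.2 (congrArg Subtype.val (hab.1.is_comm.comm ⟨_, hg.2⟩ ⟨e, he⟩))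
      have h3 := mul_mem h2 (inv_mem (zpowers_le.2 (mem_cent1_comm.1
        (h.Uc (H1.pCoreOf_le _ (hE he)))) hz))
      rw [mul_inv_cancel_right, mem_cent1_comm] at h3
      rwa [eq_one_of_cent h.oy ha he' h3, one_mul]
    have h2 := card_le_of_le h1
    rw [Nat.card_zpowers, h.oc] at h2
    rw [← card_mul_relIndex (inf_le_right (a := 𝐂[y])), inf_relIndex_right, sq]
    exact Nat.mul_le_mul h2
      ((relIndex_le_of_le_right hE (H1.relIndex_ne_zero' _ _)).trans h.relIndex_y_le)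

theorem der_le : ⁅Ut t, Ut t⁆ ≤ fittingOf (Ut t) :=
  FT.rank2_der1_le_fittingOf (solvable_Ut t) (odd_Ut t) fun q hq => by
    have : Fact q.Prime := ⟨hq⟩
    refine (FT.pRankLE_iff_of_isSylowIn (sylow_pcore_of_nil (fit_nil _) q)).2
      (FT.pRankLE_mono ?_ (H1.le_pCoreOf_of_le_fittingOf (pcore_le _ _) (pcore_pgroup q _)))
    by_cases e : q = p
    · exact e ▸ h.rank
    · exact FT.pRankLE_of_le_rank hq.pos (FT.pRankLE_one_of_isCyclic (isCyclic_of_le'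
        (C := zpowers k) inferInstance ((h.pc_le e).trans inf_le_left))) one_le_two

theorem B_eq : Ut t ⊓ 𝐂[s] = zpowers y := by
  refine le_antisymm (fun b hb => ?_) (zpowers_le.2 ⟨h.yU, h.ys⟩)
  have hs := zpowers_le.2 (cent_le_norm_Ut t h.four.s_cent)
  have h1 := Cop.mem_of_mem_commutator_sup_of_commutator_mem hs (hs.trans (norm_le_norm_fit _))
    (fit_le _) h.der_le (coprime_zpowers_inv h.four.os (odd_Ut t))
    (mem_sup_left (h.comm_eq.ge hb.1)) fun a ha => by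
      rw [commutatorElement_eq_one_iff_mul_comm.2 (mem_cent1.1 (cent1_le_cent1 ha hb.2))]
      exact one_mem _
  obtain ⟨a, ha, z, hz, rfl⟩ := h.splitF h1
  have h2 := conj_eq_of_mem_cent1 (mem_cent1_comm.1 hb.2)
  rw [← _root_.conj_mul, h.ed.psl.inverts z hz.1] at h2
  have h3 := mul_mem (inv_mem ha)
    (conj_mem_of_mem_normalizer (cent_le_norm_pc t p h.four.s_cent) ha)
  rw [eq_mul_inv_of_mul_eq h2, inv_inv, mul_assoc, inv_mul_cancel_left] at h3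
  exact h.A_eq ▸ ⟨mul_mem ha (zpowers_le.2 h3 (mem_zpowers_sq (odd_of_mem_Ut (h.k_le hz.1).1))),
    hb.2⟩

theorem Pmem {g : G} (hg : g ∈ Ut t) (hgp : IsPGroup p (zpowers g)) : g ∈ pCoreOf p (Ut t) := by
  have h1 : pCoreOf p (Ut t) ⊔ zpowers g ≤ Ut t := sup_le (H1.pCoreOf_le _) (zpowers_le.2 hg)
  have h2 : pCoreOf p (Ut t) ⊔ zpowers g ⊔ (zpowers k ⊓ 𝐂(Ut t)) ≤ Ut t :=
    sup_le h1 (inf_le_left.trans (h.k_le.trans inf_le_left))
  have h3 := le_fit h2 (normal_of_der_le (h.der_le.trans (h.fit_le'.trans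
    (sup_le_sup_right le_sup_left _))) h2) (isNilpotent_sup_of_cent
      (FT.isPGroup_sup' (zpowers_le.2 (H1.le_normalizer_pCoreOf _ hg)) (H1.pCoreOf_isPGroup _)
        hgp).isNilpotent (isNilpotent_of_comm (comm_of_isCyclic (isCyclic_of_le'
          (C := zpowers k) inferInstance inf_le_left))) (h1.trans (le_centralizer_iff.1 inf_le_right)))
  exact H1.le_pCoreOf_of_le_fittingOf ((le_sup_right.trans le_sup_left).trans h3) hgp (mem_zpowers g)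

theorem mem_of_cent {a : G} (ha : a ∈ Ut t) (hc : a ∈ 𝐂(pCoreOf p (Ut t))) :
    a ∈ zpowers k ⊓ 𝐂(Ut t) := by
  obtain ⟨g, hg, z, hz, rfl⟩ := h.splitF (FT.cent_sub_Fitting (solvable_Ut t) ⟨ha,
    centralizer_le h.fit_le' (by
      rw [← SetLike.mem_coe, cent_sup]
      exact ⟨hc, mem_cent.2 fun z hz => (mem_cent.1 hz.2 a ha).symm⟩)⟩)
  refine mul_mem (h.Zp_le_k ⟨hg, ?_⟩) hz
  simpa using mul_mem hc (inv_mem (centralizer_le (H1.pCoreOf_le (p := p) (Ut t)) hz.2))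

theorem cent_P {a w : G} (ha : a ∈ Ut t) (ho : (orderOf a).Coprime p)
    (hw : w ∈ pCoreOf p (Ut t)) (hc : pCoreOf p (Ut t) ⊓ 𝐂[w] ≤ 𝐂[a]) :
    a ∈ zpowers k ⊓ 𝐂(Ut t) := by
  have hP := H1.pCoreOf_isPGroup (p := p) (Ut t)
  obtain ⟨n, hn⟩ := hP.exists_card_eq
  have := Cop.commutator_eq_bot_of_nilpotent_of_centralizer_le (A := zpowers a)
    (zpowers_le.2 (H1.le_normalizer_pCoreOf _ ha))
    (by rw [Nat.card_zpowers, hn]; exact ho.pow_right n) hP.isNilpotent inf_le_left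
    (commutator_eq_bot_iff_le_centralizer.2 (by rwa [cent_zpowers]))
    (inf_le_inf_left _ (cent_le_cent1 ⟨hw, self_mem_cent1 w⟩))
  rw [commutator_comm, commutator_eq_bot_iff_le_centralizer] at this
  exact h.mem_of_cent ha (this (mem_zpowers a))

theorem kcent : Ut t ≤ 𝐂[k] := by
  obtain ⟨u, hu, v, hv, e, -, h1, h2⟩ := exists_p_part hp.1 k
  have h3 := h.K_le ⟨h.Pmem (h.k_le hu).1 (isPGroup_zpowers_iff.2 h1), hu⟩
  have h4 := (h.cent_P (h.k_le hv).1 h2 h.yW.1 fun g hg => by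
    obtain ⟨a, ha, z, hz, rfl⟩ := h.splitP hg.1 hg.2
    exact mul_mem (zpowers_le.2 (mem_cent1_comm.1 (h.k_le hv).2) ha)
      (cent1_le_cent1 hv (zpowers_le_cent1 k hz.2))).2
  exact fun g hg => mem_cent1.2 (mem_cent.1 (e ▸ mul_mem h3 h4) g hg)

theorem p_dvd : p ∣ orderOf k := h.oc ▸ orderOf_dvd_of_mem_zpowers h.ck

theorem wcent {a : G} (ha : a ∈ Ut t) (h1 : a ≠ 1) (ho : (orderOf a).Coprime (orderOf k)) :
    h.W ⊓ 𝐂[a] ≤ zpowers c := fun w hw => by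
  by_contra hwc
  have hop := ho.coprime_dvd_right h.p_dvd
  have hk : zpowers k ≤ 𝐂[a] := zpowers_le.2 (mem_cent1_comm.1 (h.kcent ha))
  refine h1 (orderOf_eq_one_iff.1 (ho.eq_one_of_dvd (orderOf_dvd_of_mem_zpowers ?_)))
  by_cases hy : w ∈ 𝐂[y]
  · obtain ⟨b, hb, z, hz, rfl⟩ := h.mem_yc hw.1.1 hw.1.2.1 hy
    have h2 := mul_mem (mem_inf.1 hw).2 (inv_mem (hk (zpowers_le.2 h.ck hz)))
    rw [mul_inv_cancel_right, mem_cent1_comm] at h2
    have h3 : a ∈ 𝐂[y] := by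
      by_contra h3
      exact hwc (by rwa [eq_one_of_cent h.oy hb h3 h2, one_mul])
    refine (h.cent_P ha hop h.yW.1 fun g hg => ?_).1
    obtain ⟨b, hb, z, hz, rfl⟩ := h.splitP hg.1 hg.2
    exact mul_mem (zpowers_le.2 (mem_cent1_comm.1 h3) hb) (hk hz.2)
  · refine (h.cent_P ha hop hw.1.1 fun g hg => ?_).1
    obtain ⟨v, hv, b, hb, z, hz, rfl⟩ := h.decomp hw.1.1 hy hg.1
    have h2 := mul_mem (mul_mem (inv_mem (zpowers_le_cent1 w hv)) hg.2)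
      (inv_mem (cent_le_cent1 hw.1.1 (h.K_cent hz)))
    rw [inv_mul_cancel_left, mul_inv_cancel_right, mem_cent1_comm] at h2
    rw [eq_one_of_cent h.oy hb hy h2, one_mul]
    exact mul_mem (zpowers_le.2 hw.2 hv) (hk hz.2)

theorem split_M {g : G} (hg : g ∈ 𝐍(zpowers y)) : ∃ a ∈ zpowers y, ∃ l ∈ L, g = a * l := by
  have hV := h.ed.V_le_L
  obtain ⟨l, hl, e⟩ := h.four.exists_conj_eq h.e4 (h.four.conj g) hV (by
    rw [V_conj, ← map_conj_eq_of_mem_normalizer (h.ed.norm hg)]; exact map_mono hV)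
  rw [V_conj, ← map_conj_mul] at e
  obtain ⟨c', hc', d, hd, e'⟩ := h.ed.one.exists_cent_mul h.e4 h.four hV
    (mem_normalizer_of_map_conj_eq e)
  obtain ⟨b, hb, v, hv, rfl⟩ := h.four.exists_mul_B h.e4 hc'
  rw [h.B_eq] at hb
  refine ⟨b, hb, l⁻¹ * d * v, mul_mem (mul_mem (inv_mem hl) hd.1) (hV hv), ?_⟩
  rw [← mul_assoc, mem_cent.1 (h.ed.cent (mul_mem (inv_mem hl) hd.1)) b hb, mul_assoc, mul_assoc,
    ← e', inv_mul_cancel_left]

theorem norm_y : 𝐍(zpowers y) = 𝐂[y] := by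
  refine le_antisymm (fun g hg => ?_) (cent_zpowers y ▸ cent_le_norm _)
  obtain ⟨a, ha, l, hl, rfl⟩ := h.split_M hg
  exact mul_mem (zpowers_le_cent1 y ha) (cent_zpowers y ▸ h.ed.cent hl)

theorem zpowers_c : zpowers (y⁻¹ * (x * y * x⁻¹)) = zpowers c := by
  have h1 := h.xW.2.2 y h.yW.1
  rw [show y⁻¹ * (x * y * x⁻¹) = y⁻¹ * ⁅x, y⁆ * y⁻¹⁻¹ by simp only [commutatorElement_def]; group,
    cent_of_mem_zpowers (h.Uc (inv_mem h.yU)) h1]
  exact zpowers_eq_of_card_prime (by rw [Nat.card_zpowers, h.oc]; exact hp.1) h1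
    fun e => h.xy (mem_cent1.2 (commutatorElement_eq_one_iff_mul_comm.1 e))

theorem W_eq : zpowers x ⊔ zpowers y = h.W := by
  refine le_antisymm (sup_le (zpowers_le.2 h.xW) (zpowers_le.2 h.yW)) fun w hw => ?_
  obtain ⟨v, hv, b, hb, z, hz, e⟩ := h.decomp h.xW.1 h.xy hw.1
  have h1 := mul_mem (inv_mem (zpowers_le.2 h.yW hb)) (mul_mem (inv_mem (zpowers_le.2 h.xW hv)) hw)
  rw [e, inv_mul_cancel_left, inv_mul_cancel_left] at h1
  have h2 := h.mem_c_of_k hz.2 h1.2.1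
  have hx : x ∈ zpowers x ⊔ zpowers y := mem_sup_left (mem_zpowers x)
  have hy : y ∈ zpowers x ⊔ zpowers y := mem_sup_right (mem_zpowers y)
  rw [← h.zpowers_c] at h2
  rw [e]
  exact mul_mem (mem_sup_left hv) (mul_mem (mem_sup_right hb)
    (zpowers_le.2 (mul_mem (inv_mem hy) (mul_mem (mul_mem hx hy) (inv_mem hx))) h2))

theorem relIndex_U_le : (𝐂[y]).relIndex (Ut t) ≤ p * p := by
  have hxc : zpowers x ≤ 𝐍(zpowers c) := zpowers_le.2 (h.norm_c (Ut_le t h.xU))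
  have h1 : Inverts s (zpowers x ⊔ zpowers c) := fun g hg => by
    obtain ⟨a, ha, b, hb, rfl⟩ := (mem_sup_iff_of_le_normalizer hxc).1 hg
    rw [← _root_.conj_mul, inverts_zpowers h.sx a ha, inverts_zpowers h.sc b hb, ← mul_inv_rev,
      mem_cent1.1 (cent1_le_cent1 hb (h.Uc (zpowers_le.2 h.xU ha)))]
  have h2 : y ∈ 𝐍(zpowers x ⊔ zpowers c) := mem_normalizer_of_conj_mem fun g hg => by
    obtain ⟨a, ha, b, hb, rfl⟩ := (mem_sup_iff_of_le_normalizer hxc).1 hg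
    rw [← _root_.conj_mul, cent_of_mem_zpowers (h.Uc h.yU) hb,
      show y * a * y⁻¹ = ⁅y, a⁆ * a by simp only [commutatorElement_def]; group]
    exact mul_mem (mul_mem (mem_sup_right (h.yW.2.2 a (zpowers_le.2 h.xW.1 ha))) (mem_sup_left ha))
      (mem_sup_right hb)
  have h3 := card_sup_dvd_mul hxc
  rw [Nat.card_zpowers, Nat.card_zpowers, h.ox, h.oc] at h3
  rw [← h.norm_y]
  refine (relIndex_norm_le (h.oy.symm ▸ hp.1) fun u hu => ?_).trans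
    (Nat.le_of_dvd (Nat.mul_pos hp.1.pos hp.1.pos) h3)
  obtain ⟨τ, hτ, h4⟩ := exists_mul_mem_of_sup (h.oy.symm ▸ hp.1) h2
    ((h.W_eq.ge.trans (sup_le (le_sup_left.trans le_sup_right) le_sup_left))
      (conj_mem_of_mem_normalizer (h.norm_W (Ut_le t hu)) h.yW))
    fun h4 => h.ed.not_inv (odd_of_mem_Ut h.yU) h.y1 u (h1 _ h4)
  refine ⟨τ, hτ, fun e => h.ed.not_inv (odd_of_mem_Ut h.yU) h.y1 1 ?_, h4⟩
  simpa using h1 y (by rw [eq_inv_of_mul_eq_one_left e]; exact inv_mem hτ)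

theorem card_cent : Nat.card ↥(𝐂[y] ⊓ Ut t) = p * orderOf k := by
  have h1 : 𝐂[y] ⊓ Ut t = zpowers y ⊔ zpowers k := by
    refine le_antisymm (fun g hg => ?_) (sup_le (zpowers_le.2 ⟨self_mem_cent1 y, h.yU⟩)
      (h.k_le.trans (inf_comm _ _).le))
    obtain ⟨a, ha, z, hz, rfl⟩ := h.split le_rfl (cent_le_norm_Ut t h.four.s_cent) hg.2 hg.1
    exact mul_mem (mem_sup_left (h.B_eq ▸ ha)) (mem_sup_right hz.2)
  rw [h1, card_sup_of_disjoint (zpowers_le.2 (cent_le_norm _ (by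
    rw [cent_zpowers]; exact h.kcent h.yU))) (eq_bot_of_forall fun g hg => eq_one_of_inv_of_comm
      (odd_of_mem_Ut (h.k_le hg.2).1) (h.ed.psl.inverts g hg.2)
      (mem_cent1.1 (zpowers_le.2 h.ys hg.1))), Nat.card_zpowers, Nat.card_zpowers, h.oy]

theorem exists_e : ∃ e < p, Nat.card (Ut t) = orderOf k * p ^ 2 * e := by
  have hP := H1.pCoreOf_isPGroup (p := p) (Ut t)
  have hD : pCoreOf p (Ut t) ⊔ (𝐂[y] ⊓ Ut t) ≤ Ut t := sup_le (H1.pCoreOf_le _) inf_le_right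
  have h1 : (𝐂[y]).relIndex (pCoreOf p (Ut t)) = p := by
    obtain ⟨n, hn⟩ := hP.exists_card_eq
    obtain ⟨m, -, hm⟩ := (Nat.dvd_prime_pow hp.1).1 (hn ▸ relIndex_dvd_card (𝐂[y]) _)
    have h2 := h.relIndex_y_le
    rcases m with _ | _ | m
    · exact absurd (relIndex_eq_one.1 hm h.xW.1) h.xy
    · rw [hm, zero_add, pow_one]
    · rw [hm, pow_succ, pow_succ] at h2
      nlinarith [hp.1.one_lt, pow_pos hp.1.pos m, Nat.mul_le_mul_right p (pow_pos hp.1.pos m)]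
  have h2 := relIndex_inf_mul_relIndex (𝐂[y]) (pCoreOf p (Ut t) ⊔ (𝐂[y] ⊓ Ut t)) (Ut t)
  rw [inf_eq_left.2 hD, relIndex_eq_of_mul le_sup_left fun g hg => by
    obtain ⟨a, ha, b, hb, rfl⟩ := (mem_sup_iff_of_le_normalizer'
      (inf_le_right.trans (H1.le_normalizer_pCoreOf _))).1 hg
    exact ⟨a, ha, b, hb.1, rfl⟩, h1, ← inf_relIndex_right (_ ⊓ _), inf_assoc, inf_eq_left.2 hD,
    show 𝐂[y] ⊓ (pCoreOf p (Ut t) ⊔ (𝐂[y] ⊓ Ut t)) = 𝐂[y] ⊓ Ut t from le_antisymm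
      (inf_le_inf_left _ hD) (le_inf inf_le_left le_sup_right), inf_relIndex_right] at h2
  have h3 := h.relIndex_U_le
  rw [← h2] at h3
  refine ⟨_, lt_of_le_of_ne (Nat.le_of_mul_le_mul_left h3 hp.1.pos) fun e => ?_, by
    rw [← card_mul_relIndex (inf_le_right (a := 𝐂[y])), inf_relIndex_right, ← h2, h.card_cent]
    ring⟩
  exact (IsSylowIn.of_maximal (H1.pCoreOf_le _) hP fun T hT _ h4 g hg =>
    h.Pmem (h4 hg) (hT.to_le (zpowers_le.2 hg))).not_dvd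
    (e.symm.dvd.trans (relIndex_dvd_of_le_left _ le_sup_left))

theorem false : False := by
  obtain ⟨e, he, he'⟩ := h.exists_e
  refine mixed_false h.hyp (L := L) (P := pCoreOf p (Ut t)) (c := y⁻¹ * (x * y * x⁻¹))
    ⟨h.ed, hp.1, h.xU, h.yU, h.ox, h.oy, by rw [← Nat.card_zpowers, h.zpowers_c, Nat.card_zpowers,
      h.oc], by rw [mul_inv_cancel_left], h.sx,
      zpowers_le.2 h.ck (h.zpowers_c ▸ mem_zpowers _), h.kcent, fun g hg hg1 => ?_,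
      fun g => h.split_M, h.B_eq, H1.pCoreOf_le _, cent_le_norm_pc t p, H1.pCoreOf_isPGroup _,
      fun g => h.Pmem, h.zpowers_c ▸ commutator_le.2 fun a ha b hb => h.comm_mem ha hb, he', he,
      h.W_eq ▸ h.norm_W, fun a ha h1 ho => h.zpowers_c ▸ h.W_eq ▸ h.wcent ha h1 ho⟩
  have hU := (h.k_le hg).1
  refine (h.norm_eq (by simpa using hg1) (zpowers_le.2 hU)
    ((IsComplIn.sup_eq (h.four.isComplIn h.e4)).ge.trans (sup_le ?_ (V_le ?_ ?_)))).le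
  · exact (h.kcent.trans (cent1_le_cent (zpowers_le.2 hg))).trans (cent_le_norm _)
  · exact cent_le_norm _ (by rw [cent_zpowers, mem_cent1_comm]; exact Ut_le t hU)
  · exact (inverts_zpowers (h.ed.psl.inverts g hg)).mem_norm

end T5

theorem T3.false {t s : G} {p : ℕ} [Fact p.Prime] (h : T3 t s p) : False := by
  obtain ⟨c, hc, oc, sc⟩ := h.exists_c
  have h4 : T4 t s c p := ⟨h, hc.1, oc, sc, h.U_le_cent_c hc oc sc⟩
  obtain ⟨x, hx, sx, xc⟩ := h4.exists_x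
  obtain ⟨y, hy, y1⟩ := h4.exists_y
  obtain ⟨L, k, h1, h2, -⟩ := h.exists_ed (X := zpowers y) (by simpa using y1)
    (zpowers_le.2 ⟨hy.1.1, hy.2⟩)
  exact T5.false ⟨h4, hx, sx, xc, hy.1, hy.2, y1, h1, h2⟩

theorem inverts_Ut (hG : Hyp G) {t s : G} (h : Four t s) (hmax : IsCoatom 𝐂[t]) :
    Inverts s (Ut t) := by
  have hs := cent_le_norm_Ut t h.s_cent
  refine inverts_of_inf_cent h.ss (odd_Ut t) hs (B_eq_bot hG.toSimp4 h ?_)
  have h1 : ⁅Ut t, zpowers s⁆ ≤ 𝐂(fittingOf (Ut t)) := LD.le_cent_fit fun q _ => by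
    refine comm_le_cent_of h.ss (H1.le_normalizer_pCoreOf _) ?_
    by_contra hc
    rw [not_or] at hc
    exact T3.false ⟨hG, h, hmax, fun e => hc.2 (inverts_of_inf_cent h.ss
      (odd_card_of_le (odd_Ut t) (H1.pCoreOf_le _)) (cent_le_norm_pc t q h.s_cent) e), hc.1⟩
  have h2 : ⁅Ut t, zpowers s⁆ ≤ Ut t := comm_le_left (zpowers_le.2 hs)
  have h3 := Cop.commutator_inf_centralizer_eq_bot (normalizer_commutator_ge_right _ _)
    (coprime_zpowers_inv h.os (odd_card_of_le (odd_Ut t) h2)) (isMulCommutative_of_le_cent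
      (h1.trans (centralizer_le ((le_inf h2 h1).trans (FT.cent_sub_Fitting (solvable_Ut t))))))
  rwa [Cop.commutator_commutator_eq (zpowers_le.2 hs) (coprime_zpowers_inv h.os (odd_Ut t)),
    cent_zpowers] at h3

end CfsgLib.GW
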