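import Cfsg.Agent.Lib.GW.LocalD
import Cfsg.Agent.Lib.GW.LocalE
import Cfsg.Agent.Lib.BSW.Odd

/-!
# Simple groups with a four-group as Sylow `2`-subgroup
-/

set_option autoImplicit false

namespace CfsgLib.GW

open Subgroup Cfsg CfsgLib.FT.BGN CfsgLib.FT.U4

universe u

section

variable {G : Type u} [Group G] [Finite G] {t s : G}

theorem psl_of_Ut_eq_bot (hG : Simp4 G) (h : Four t s) (hU : Ut t = ⊥) :
    ∃ (F : Type) (_ : Field F) (_ : Fintype F), Fintype.card F = 5 ∧
      Nonempty (G ≃* Matrix.ProjectiveSpecialLinearGroup (Fin 2) F) := by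
  have h60 := card_eq_sixty hG h hU
  have : Fact (Nat.Prime 5) := ⟨by norm_num⟩
  obtain ⟨P⟩ : Nonempty (Sylow 5 G) := inferInstance
  have hP : Nat.card (P : Subgroup G) = 5 := by
    rw [P.card_eq_multiplicity, h60, show 60 = 5 * 12 from rfl, Nat.factorization_mul (by norm_num)
      (by norm_num)]
    simp [Nat.factorization_eq_zero_of_not_dvd (show ¬ 5 ∣ 12 by norm_num),
      this.1.factorization_self]
  have hP' : (Nat.card (P : Subgroup G)).Prime := by rw [hP]; exact this.1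
  have h1 : (𝐍((P : Subgroup G))).index = 6 := by
    have h2 := card_sylow_modEq_one 5 G
    have h3 := P.card_dvd_index
    have h4 := card_mul_index (P : Subgroup G)
    rw [P.card_eq_index_normalizer] at h2 h3
    rw [hP, h60] at h4
    rw [show (P : Subgroup G).index = 12 by omega] at h3
    have h5 : (𝐍((P : Subgroup G))).index ≠ 1 := fun e => hG.norm_ne_top (ne_bot_of_card_prime hP')
      (fun e' => by rw [e', card_top, h60] at hP; omega) (index_eq_one.1 e)
    have h6 := Nat.le_of_dvd (by norm_num) h3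
    unfold Nat.ModEq at h2
    interval_cases (𝐍((P : Subgroup G))).index <;> omega
  have h2 : Nat.card 𝐍((P : Subgroup G)) = 10 := by
    have := card_mul_index 𝐍((P : Subgroup G))
    rw [h1] at this
    omega
  have hcti : BSW.CentTI (P : Subgroup G) := by
    refine ⟨fun x hx hx1 g hg => ?_, fun g => ?_⟩
    · have h3 := cent1_eq_of_card_prime hP' hx hx1
      have h4 : (P : Subgroup G) ≤ 𝐂[x] := h3 ▸ le_cent_of_isCyclic (isCyclic_of_prime_card hP)
      have h5 := card_dvd_of_le (h3.le.trans (cent_le_norm _))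
      have h6 : Odd (Nat.card 𝐂[x]) := odd_card_of_forall fun u hu hu2 => by
        obtain ⟨g, rfl⟩ := hG.exists_conj h.ot hu2
        have h7 := (𝐂[g * t * g⁻¹]).orderOf_dvd_natCard (mem_cent1_comm.1 hu)
        rw [cent1_conj, card_map_conj, h.card_cent hG.e4, hU, card_bot, ← Nat.card_zpowers,
          zpowers_eq_of_card_prime hP' hx hx1, hP] at h7
        omega
      have h7 := card_le_of_le h4
      have h8 := Nat.le_of_dvd (by omega) h5
      rw [h2] at h5 h8
      rw [eq_of_le_of_card_ge h4 (by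
        rw [hP] at h7 ⊢
        obtain ⟨k, hk⟩ := h6
        rw [hk] at h5 h7 h8 ⊢
        have : k ≤ 4 := by omega
        interval_cases k <;> omega)]
      exact mem_cent1.2 hg
    · intro hg x hx hx'
      by_contra hx1
      refine hg (mem_normalizer_of_map_conj_eq ?_)
      rw [← zpowers_eq_of_card_prime hP' hx hx1, ← zpowers_conj,
        zpowers_eq_of_card_prime hP' hx' (conj_ne_one_iff.2 hx1), zpowers_eq_of_card_prime hP' hx hx1]
  obtain ⟨w, hw, hw'⟩ : ∃ w, orderOf w = 2 ∧ w ∉ 𝐍((P : Subgroup G)) := by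
    by_contra hne
    push Not at hne
    have := h.four_dvd (hne t h.ot) (hne s h.os)
    omega
  have h3 := hcti.card_twoPt (by omega) hw'
  have h4 : Nat.card (BSW.twoPt (P : Subgroup G) w) = 2 := by rw [hP] at h3; omega
  obtain ⟨F, i1, i2, h5, h6⟩ := BSW.ZAb.psl (P := (P : Subgroup G)) (w := w)
    ⟨hcti, fun a ha b hb => mem_cent.1 (le_cent_of_isCyclic (isCyclic_of_prime_card hP) hb) a ha,
      ne_bot_of_card_prime hP', by omega, mul_self_of_inv hw, hw', fun d hd => by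
        by_cases hd1 : d = 1
        · simp [hd1]
        have h5 := zpowers_eq_of_card_prime (h4 ▸ Nat.prime_two) hd hd1
        have h6 : orderOf d = 2 := by rw [← Nat.card_zpowers, h5, h4]
        have h7 : w * d * w⁻¹ ∈ zpowers d := h5 ▸ BSW.mem_twoPt.2 ⟨by
          simpa [inv_of_inv hw] using (BSW.mem_twoPt.1 hd).2, by
          simpa [mul_assoc] using (BSW.mem_twoPt.1 hd).1⟩
        rw [inv_of_inv h6]
        exact ((mem_zpowers_inv h6).1 h7).resolve_left (conj_ne_one_iff.2 hd1)⟩ (by omega)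
  exact ⟨F, i1, i2, h5.trans hP, h6⟩

theorem setup_of_inverts (hG : Simp4 G) (h : Four t s) (hU : Ut t ≠ ⊥) (hmax : IsCoatom 𝐂[t])
    (hi : Inverts s (Ut t)) : BSW.Setup (zpowers t ⊔ Ut t) t s ∧
      Nat.card ↥(zpowers t ⊔ Ut t) = 2 * Nat.card (Ut t) := by
  have hn : zpowers t ≤ 𝐍(Ut t) := zpowers_le.2 (cent_le_norm_Ut t (self_mem_cent1 t))
  have hle : zpowers t ⊔ Ut t ≤ 𝐂[t] := sup_le (zpowers_le_cent1 t) (Ut_le t)
  have hc : ∀ a ∈ zpowers t, ∀ u ∈ Ut t, u * a = a * u := fun a ha u hu =>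
    mem_cent1.1 (cent1_le_cent1 ha (Ut_le t hu))
  have ha2 : ∀ a ∈ zpowers t, a * a = 1 := fun a ha => h.mul_self_of_mem (mem_sup_left ha)
  have hcard : Nat.card ↥(zpowers t ⊔ Ut t) = 2 * Nat.card (Ut t) := by
    rw [card_sup_of_disjoint hn (eq_bot_of_forall fun x hx =>
      eq_one_of_odd_of_mul_self (odd_of_mem_Ut hx.2) (ha2 x hx.1)), card_zpowers_inv h.ot]
  have huniq : ∀ x ∈ zpowers t ⊔ Ut t, x * x = 1 → x = 1 ∨ x = t := fun x hx hx2 => by
    obtain ⟨a, ha, u, hu, rfl⟩ := (mem_sup_iff_of_le_normalizer hn).1 hx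
    rw [mul_assoc, ← mul_assoc u, hc a ha u hu, ← mul_assoc, ← mul_assoc, ha2 a ha, one_mul] at hx2
    rw [eq_one_of_odd_of_mul_self (odd_of_mem_Ut hu) hx2, mul_one]
    exact (mem_zpowers_inv h.ot).1 ha
  refine ⟨⟨h.ot, mem_sup_left (mem_zpowers t), fun x hx => mem_cent1.1 (hle hx), huniq, ?_,
    h.comm.symm, fun hs => (huniq s hs h.ss).elim h.s1 h.ne.symm, fun u hu hu' => ?_,
    fun x hx hx1 g hg => ?_, fun u hu => hG.exists_conj h.ot hu⟩, hcard⟩
  · have := (one_lt_card_iff_ne_bot _).2 hU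
    omega
  · obtain ⟨w, hw, v, hv, rfl⟩ := h.exists_mul hG.e4 (mem_cent1.2 hu)
    have h1 : v * w * v⁻¹ = w⁻¹ := by
      rcases h.mem_V.1 hv with rfl | rfl | rfl | rfl
      · exact absurd (mul_mem (mem_sup_right hw) (one_mem _)) hu'
      · exact absurd (mul_mem (mem_sup_right hw) (mem_sup_left (mem_zpowers _))) hu'
      · exact hi w hw
      · rw [show t * s * w * (t * s)⁻¹ = t * (s * w * s⁻¹) * t⁻¹ by group, hi w hw]
        exact conj_eq_of_mem_cent1 (mem_cent1_comm.1 (Ut_le t (inv_mem hw)))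
    calc w * v * (w * v) = w * (v * w * v⁻¹) * (v * v) := by group
      _ = 1 := by rw [h1, h.mul_self_of_mem hv]; group
  · obtain ⟨a, ha, u, hu, rfl⟩ := (mem_sup_iff_of_le_normalizer hn).1 hx
    refine mem_cent1.1 ((hG.norm_eq hmax (X := zpowers (a * u)) (by simpa using hx1)
      (zpowers_le.2 (hle hx)) ((IsComplIn.sup_eq (h.isComplIn hG.e4)).ge.trans
        (sup_le (fun w hw => cent_le_norm _ ?_) (V_le (cent_le_norm _ ?_)
          (inverts_zpowers ?_).mem_norm)))).le (cent_le_norm _ ?_))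
    · rw [cent_zpowers, mem_cent1, ← mul_assoc, hc a ha w hw, mul_assoc, hi.comm hw hu, mul_assoc]
    · rw [cent_zpowers, mem_cent1_comm]
      exact hle hx
    · rw [← _root_.conj_mul, hi u hu, conj_eq_of_mem_cent1 (cent1_le_cent1 ha h.s_cent),
        mul_inv_rev, inv_eq_of_mul_eq_one_right (ha2 a ha), hc a ha _ (inv_mem hu)]
    · rwa [cent_zpowers, mem_cent1]

end

theorem psl_of_e4 (G : Type u) [Group G] [Finite G] (hs : IsSimpleGroup G)
    (hna : ¬ IsMulCommutative G) (hG : E4 G) :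
    ∃ (F : Type) (_ : Field F) (_ : Fintype F), 5 ≤ Fintype.card F ∧
      (Fintype.card F % 8 = 3 ∨ Fintype.card F % 8 = 5) ∧
      Nonempty (G ≃* Matrix.ProjectiveSpecialLinearGroup (Fin 2) F) := by
  induction hn : Nat.card G using Nat.strong_induction_on generalizing G with
  | _ n ih =>
  obtain ⟨h4, h1⟩ := (nilp2_or_oneCl hG ⊤).resolve_left fun h => hna
    ⟨⟨IsSimpleGroup.comm_iff_isSolvable.2 (isSolvable_of_equiv topEquiv (h.solvable hG))⟩⟩
  have hH : Hyp G := ⟨⟨hs, hG, h1⟩, fun X _ _ hlt hX hX' hE => by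
    obtain ⟨F, _, _, -, h8, ⟨e⟩⟩ := ih _ (hn ▸ hlt) X hX hX' hE rfl
    have := (pslIn_PSL2 F h8).map e.symm.toMonoidHom e.symm.injective
    rwa [map_top_of_surjective _ e.symm.surjective] at this⟩
  obtain ⟨t, -, s, -, h⟩ := exists_four' hG h4
  by_cases hU : Ut t = ⊥
  · obtain ⟨F, i1, i2, h5, h6⟩ := psl_of_Ut_eq_bot hH.toSimp4 h hU
    exact ⟨F, i1, i2, h5.ge, by omega, h6⟩
  have hmax := isCoatom_cent hH h hU
  obtain ⟨h2, h3⟩ := setup_of_inverts hH.toSimp4 h hU hmax (inverts_Ut hH h hmax)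
  obtain ⟨F, i1, i2, h5, h6⟩ := h2.psl
  have h7 := (one_lt_card_iff_ne_bot _).2 hU
  obtain ⟨k, hk⟩ := odd_Ut t
  exact ⟨F, i1, i2, by omega, by omega, h6⟩

/-- A non-abelian finite simple group with a Sylow `2`-subgroup of order `4` is `PSL₂(q)` with
`q ≡ ±3 (mod 8)`, `q ≥ 5`. -/
theorem gw_four (G : Type u) [Group G] [Finite G] [IsSimpleGroup G] (hna : ¬ IsMulCommutative G)
    (S : Sylow 2 G) (hS : Nat.card S = 4) :
    ∃ (F : Type) (_ : Field F) (_ : Fintype F), 5 ≤ Fintype.card F ∧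
      (Fintype.card F % 8 = 3 ∨ Fintype.card F % 8 = 5) ∧
      Nonempty (G ≃* Matrix.ProjectiveSpecialLinearGroup (Fin 2) F) := by
  have hs : ¬ Group.IsSolvable G := fun h => hna ⟨⟨IsSimpleGroup.comm_iff_isSolvable.2 h⟩⟩
  refine psl_of_e4 G ‹_› hna ⟨fun h8 => ?_, fun g h4 => hs ?_⟩
  · have := (IsSylowIn.sylow_top S).not_dvd
    have h1 := card_mul_index (S : Subgroup G)
    rw [relIndex_top_right] at this
    rw [hS] at h1
    omega
  · have h1 : orderOf (g ^ (orderOf g / 4)) = 4 := orderOf_pow_orderOf_div (orderOf_pos g).ne' h4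
    obtain ⟨Q, hQ⟩ := (isPGroup_zpowers_iff.2 ⟨2, h1⟩ : IsPGroup 2 _).exists_le_sylow
    refine isSolvable_of_isCyclic_sylow_two Q ?_
    rw [← eq_of_le_of_card_ge hQ (by
      rw [Nat.card_zpowers, h1, ← hS, Nat.card_congr (Sylow.equiv Q S).toEquiv])]
    infer_instance

end CfsgLib.GW
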