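import Cfsg.Agent.Lib.GW.LocalD1

/-!
# Maximal subgroups containing the centralizer of an involution: characteristic `p`
-/

set_option autoImplicit false

namespace CfsgLib.GW.LD

open Subgroup Cfsg CfsgLib.FT CfsgLib.FT.BGN CfsgLib.Cop CfsgLib.H1
open scoped commutatorElement

universe u

section general
variable {X : Type*} [Group X] [Finite X] {p : ℕ} [hp : Fact p.Prime]

theorem le_norm_dSub {M S : Subgroup X} (hs : StableIn p M) (hS : IsSylowIn p S M)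
    (h1 : dSub S ≤ pCoreOf p M) : M ≤ 𝐍(dSub S) := by
  have hQS := pCoreOf_le_sylow hS
  have hD := dFam_dSub S
  set W := conjClosure (dSub S) M with hW
  have hWn : M ≤ normalizer (W : Set X) := le_normalizer_conjClosure _ _
  have h2 : W ≤ dSub (pCoreOf p M) := conjClosure_le (dSub_le_dSub h1 hQS)
    ((le_normalizer_pCoreOf M).trans (normalizer_le_normalizer_dSub _))
  have hWQ : W ≤ pCoreOf p M := h2.trans (dSub_le _)
  have h3 : DFam S W := by
    refine ⟨hWQ.trans hQS, h2.trans ((dSub_le_centralizer _).trans (centralizer_le h2)),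
      hS.le.trans hWn, fun x hx hq => mem_centralizer_conjClosure fun m hm => ?_⟩
    set K := conjClosure (zpowers x) M with hK
    have hKM : K ≤ M := conjClosure_le_of_le (zpowers_le_of_mem (hS.le hx))
    have h4 := hs W (hWQ.trans (pCoreOf_le M)) hWn ((pCoreOf_isPGroup M).to_le hWQ) x (hS.le hx)
      ((hS.isPGroup ⟨x, hx⟩).imp fun _ h => congrArg Subtype.val h) hq
    have hT := hS.inf_of_le_normalizer hKM (hS.le.trans (le_normalizer_conjClosure _ _))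
    have h5 : m * x * m⁻¹ ∈ (S ⊓ K) ⊔ pResidualOf p K := by
      rw [sup_comm, pResidualOf_sup_sylow hT]
      exact map_conj_le_conjClosure _ hm (conj_mem_map_conj (mem_zpowers x))
    obtain ⟨s, hs', c, hc', hsc⟩ := (mem_sup_iff_of_le_normalizer (inf_le_right.trans
      (le_normalizer.trans (normalizer_le_normalizer_pResidualOf K)))).1 h5
    have h6 : Quad s W := Quad.of_mul (hsc ▸ hq.conj (hWn hm)) (hWn (hS.le hs'.1)) (h4 hc')
    rw [← hsc]
    exact mul_mem (hD.2.2.2 s hs'.1 (h6.mono (le_conjClosure _ _)))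
      (centralizer_le (le_conjClosure _ _) (h4 hc'))
  rwa [le_antisymm h3.le_dSub (le_conjClosure _ _ : dSub S ≤ W)] at hWn

theorem sylow_of_fact_le {S H K : Subgroup X} (hS : IsSylowIn p S H) (h1 : S ≤ K)
    (h2 : (Nat.card K).factorization p ≤ (Nat.card H).factorization p) : IsSylowIn p S K := by
  obtain ⟨T, hT⟩ := IsSylowIn.exists_in (p := p) K
  refine hT.of_card_le hS.isPGroup h1 ?_
  rw [hS.card_eq_ordProj, hT.card_eq_ordProj]
  exact Nat.pow_le_pow_right hp.1.pos h2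

theorem fact_le_of_sylow {S H K : Subgroup X} (hS : IsSylowIn p S H) (h1 : S ≤ K) :
    (Nat.card H).factorization p ≤ (Nat.card K).factorization p := by
  obtain ⟨T, hT⟩ := IsSylowIn.exists_in (p := p) K
  have := hT.card_le hS.isPGroup h1
  rwa [hS.card_eq_ordProj, hT.card_eq_ordProj, Nat.pow_le_pow_iff_right hp.1.one_lt] at this

omit hp in
theorem odd_sup {A B : Subgroup X} (hn : A ≤ 𝐍(B)) (hA : Odd (Nat.card A))
    (hB : Odd (Nat.card B)) : Odd (Nat.card ↥(B ⊔ A)) := by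
  have := Fact.mk Nat.prime_two
  have key : ∀ C : Subgroup X, Odd (Nat.card C) ↔ IsPiSubgroup {2}ᶜ C := fun C => by
    rw [← coprime_iff_isPiSubgroup, Nat.coprime_two_right]
  exact (key _).2 (isPi_sup' hn ((key _).1 hB) ((key _).1 hA))

end general

variable {G : Type u} [Group G] [Finite G]

namespace Conf
variable {t s : G} {H Y : Subgroup G} {p : ℕ} [hp : Fact p.Prime] (h : Conf t s H Y p) (hG : Hyp G)
  (h1 : ∀ (q : ℕ) [Fact q.Prime], q ≠ p → pCoreOf q H = ⊥)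
include h hG

theorem stable (M : Subgroup G) : StableIn p M :=
  stableIn_of_abTwo (h.ne_two h.pne) (hG.e4.subgroup M).abTwo

omit hG in
theorem oddp {Q : Subgroup G} (hQ : IsPGroup p Q) : Odd (Nat.card Q) :=
  odd_card_of_isPGroup hp.1 (h.ne_two h.pne) hQ

omit hp in
theorem cent_le_cj {g : G} (hg : V t s ≤ g •ᶜ H) : 𝐂(V t s) ≤ g •ᶜ H := by
  have hV : V t s ≤ H := h.four.V_le_cent1.trans h.le
  obtain ⟨x, hx, e⟩ := h.four.exists_conj_eq hG.e4 (h.four.conj g⁻¹) hV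
    (by rw [V_conj]; exact le_cj_iff.1 hg)
  rw [V_conj] at e
  rw [le_cj_iff, ← centralizer_map_conj, ← cj_le_cj_iff (g := x), ← centralizer_map_conj, e,
    cj_eq_of_mem hx, cent_V]
  exact inf_le_left.trans h.le

theorem ne_top' {Q : Subgroup G} (hQ : IsPGroup p Q) (hY : Y ≤ Q) : 𝐍(Q) ≠ ⊤ :=
  hG.norm_ne_top' h.four (fun e => h.ne (le_bot_iff.1 (e ▸ hY))) (solvable_of_isPGroup hQ)

include h1

theorem norm_dSub {Q : Subgroup G} (hQ : IsSylowIn p Q H) : 𝐍(dSub Q) = H := by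
  have e : fittingOf H = pCoreOf p H := le_antisymm (H1.fittingOf_le_of_forall fun q _ => by
    by_cases hq : q = p
    · exact hq ▸ le_rfl
    · exact (h1 q hq).le.trans bot_le) (pCoreOf_le_fittingOf p H)
  exact hG.norm_eq h.max (dSub_ne_bot hQ.isPGroup fun e =>
    h.pne (le_bot_iff.1 (e ▸ pCoreOf_le_sylow hQ))) ((dSub_le Q).trans hQ.le)
    ((h.stable hG H).le_normalizer_dSub (by simpa only [CharIn, ← e] using h.fitC hG) hQ)

theorem norm_dSub' {Q : Subgroup G} {g : G} (hQ : IsSylowIn p Q (g •ᶜ H)) :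
    𝐍(dSub Q) = g •ᶜ H := by
  have := hQ.map_conj g⁻¹
  rw [map_conj_inv_map_conj] at this
  have := h.norm_dSub hG h1 this
  rwa [dSub_map_conj, normalizer_map_conj, cj_eq_iff, inv_inv] at this

theorem sylow_top {Q : Subgroup G} {g : G} (hQ : IsSylowIn p Q (g •ᶜ H)) : IsSylowIn p Q ⊤ :=
  sylow_of_norm' hQ le_top (inf_le_right.trans
    ((normalizer_le_normalizer_dSub Q).trans (h.norm_dSub' hG h1 hQ).le))

theorem exists_cj {Q : Subgroup G} (hQ : IsSylowIn p Q ⊤) : ∃ g : G, 𝐍(dSub Q) = g •ᶜ H := by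
  obtain ⟨T, hT⟩ := IsSylowIn.exists_in (p := p) H
  obtain ⟨g, -, rfl⟩ := hQ.exists_conj_eq
    (h.sylow_top hG h1 (g := 1) (by rwa [map_conj_one]))
  exact ⟨g, h.norm_dSub' hG h1 (hT.map_conj g)⟩

theorem glob {W : Subgroup G} (hW : W ≠ ⊤) (hS : V t s ≤ W) (hY : Y ≤ W)
    (hT : ∀ X, X ≠ ⊤ → W ≤ X → ∃ T, IsSylowIn p T (Od X) ∧ W ≤ 𝐍(T)) : ∃ g : G, W ≤ g •ᶜ H := by
  obtain ⟨X0, a0, m0⟩ := Set.exists_max_image {X : Subgroup G | X ≠ ⊤ ∧ W ≤ X}
    (fun X => (Nat.card X).factorization p) (Set.toFinite _) ⟨W, hW, le_rfl⟩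
  obtain ⟨X, ⟨⟨a1, a2⟩, a3⟩, m1⟩ := Set.exists_max_image {X : Subgroup G | (X ≠ ⊤ ∧ W ≤ X) ∧
    (Nat.card X0).factorization p ≤ (Nat.card X).factorization p}
    (fun X => (Nat.card (Od X)).factorization p) (Set.toFinite _) ⟨X0, a0, le_rfl⟩
  obtain ⟨T, t1, t2⟩ := hT X a1 a2
  have ht := t_mem_V t s
  have hYT : Y ≤ T := le_sylow_of_norm t1 h.Yp (h.comm ▸ (commutator_mono (le_inf h.YP (hY.trans a2))
    le_rfl).trans (commutator_le_Od hG a1 h.ot (a2 (hS ht)) hp.1 (h.ne_two h.pne)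
      ((pCoreOf_isPGroup H).to_le inf_le_left) inf_le_right (H1.le_normalizer_inf
      ((inf_le_right.trans h.le).trans (le_normalizer_pCoreOf H)) (inf_le_left.trans le_normalizer))))
    (hY.trans t2)
  obtain ⟨Q, q1, q2⟩ := IsSylowIn.exists_ge t1.isPGroup (t1.le.trans (Od_le X))
  have q3 : Q ≤ 𝐍(T) := by
    rw [← t1.eq_of_le (q2.isPGroup.to_le inf_le_left) (le_inf q1 t1.le) inf_le_right]
    exact H1.le_normalizer_inf le_normalizer (q2.le.trans (le_norm_Od X))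
  have n1 := h.ne_top' hG t1.isPGroup hYT
  have key : ∀ K, K ≠ ⊤ → W ≤ K → Q ≤ K → IsSylowIn p Q K := fun K k1 k2 k3 =>
    sylow_of_fact_le q2 k3 ((m0 K ⟨k1, k2⟩).trans a3)
  have q4 := key _ n1 t2 q3
  have t3 : IsSylowIn p T (Od 𝐍(T)) := sylow_of_fact_le t1
    (le_Od le_normalizer le_rfl (h.oddp t1.isPGroup))
    (m1 _ ⟨⟨n1, t2⟩, a3.trans (fact_le_of_sylow q2 q3)⟩)
  have hD := dFam_dSub Q
  have n2 := le_norm_dSub (h.stable hG _) q4 (le_trans (fun x hx => by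
    have hx' := q3 (hD.1 hx)
    have hxp := (q2.isPGroup.to_le hD.1).to_le (zpowers_le_of_mem hx)
    refine le_sylow_of_norm t3 hxp ?_ (zpowers_le_of_mem hx') (mem_zpowers x)
    rcases nilp2_or_oneCl hG.e4 𝐍(T) with e | ⟨-, e⟩
    · exact e.le_Od (zpowers_le_of_mem hx') (h.oddp hxp)
    have k1 := conjClosure_le_of_le (zpowers_le_of_mem hx')
    have k2 := le_normalizer_conjClosure (zpowers x) 𝐍(T)
    by_cases ho : Odd (Nat.card (conjClosure (zpowers x) 𝐍(T)))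
    · exact (le_conjClosure _ _).trans (le_Od k1 k2 ho)
    refine absurd (le_centralizer_comm (zpowers_le_of_mem (centralizer_le hYT (h.stable hG _ T
      le_normalizer le_rfl t1.isPGroup x hx' ((q2.isPGroup ⟨x, hD.1 hx⟩).imp fun _ h =>
        congrArg Subtype.val h) (quad_of_mem_of_comm hD.2.1 (q1.trans hD.2.2.1) hx)
      (mem_pResidualOf (e.mem_of_not_odd k1 k2 ho h.ot (t2 (hS ht))) ?_)))))
      (U4.cent_zpowers t ▸ h.not_cent)
    rw [h.ot]
    exact (Nat.coprime_primes Nat.prime_two hp.1).2 (h.ne_two h.pne).symm)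
    (le_pCoreOf le_normalizer le_rfl t1.isPGroup))
  obtain ⟨g, hg⟩ := h.exists_cj hG h1 (sylow_of_norm' (key _ (hG.norm_ne_top' h.four (dSub_ne_bot
    q2.isPGroup fun e => h.ne (le_bot_iff.1 (e ▸ hYT.trans q1))) (solvable_of_isPGroup
    (q2.isPGroup.to_le hD.1))) (t2.trans n2) hD.2.2.1) le_top
    (inf_le_right.trans (normalizer_le_normalizer_dSub Q)))
  exact ⟨g, hg ▸ t2.trans n2⟩

omit h1 in
theorem exists_R {A X : Subgroup G} (hA : IsPGroup p A) (hS : V t s ≤ 𝐍(A)) (h2 : A ≤ X)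
    (h3 : V t s ≤ X) : ∃ R : Subgroup G, IsPGroup p R ∧ A ≤ R ∧ V t s ≤ 𝐍(R) ∧ R ≤ 𝐍(Od X) ∧
      IsSylowIn p (R ⊓ Od X) (Od X) := by
  have := Fact.mk Nat.prime_two
  have hn := h2.trans (le_norm_Od X)
  obtain ⟨R, r1, r2, r3⟩ := exists_inv_sylow_ge (H1.le_normalizer_sup (h3.trans (le_norm_Od X)) hS)
    (h.four.coprime_V (odd_sup hn (h.oddp hA) (odd_Od X)))
    (Or.inl (solvable_of_isPGroup h.four.isPGroup_V)) hA le_sup_right hS
  have r4 := r1.le.trans (sup_le le_normalizer hn)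
  exact ⟨R, r1.isPGroup, r3, r2, r4, r1.inf_of_le_normalizer le_sup_left r4⟩

theorem exists_ge {R : Subgroup G} (hR : IsPGroup p R) (hS : V t s ≤ 𝐍(R)) (hY : Y ≤ R) :
    ∃ g : G, R ⊔ V t s ≤ g •ᶜ H :=
  h.glob hG h1 (fun e => h.ne_top' hG hR hY (top_le_iff.1 (e ▸ sup_le le_normalizer hS)))
    le_sup_right (hY.trans le_sup_left) fun X _ hX =>
    let ⟨T, _, b, c, d, e⟩ := h.exists_R hG hR hS (le_sup_left.trans hX) (le_sup_right.trans hX)
    ⟨_, e, H1.le_normalizer_inf (sup_le (b.trans le_normalizer) c) (hX.trans (le_norm_Od X))⟩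

theorem not_one : False := by
  have := Fact.mk Nat.prime_two
  have h4 := h.four
  obtain ⟨d, hd, hs, hne⟩ := h.exists_conj hG (s_mem_V t s) h4.s1 h4.ne.symm
  obtain ⟨D, hYD, ⟨d1, d2, a, b, hab, ha, hb⟩, hmax⟩ := Finite.exists_le_maximal
    (p := fun D : Subgroup G => IsPGroup p D ∧ V t s ≤ 𝐍(D) ∧ ∃ a b : G, a •ᶜ H ≠ b •ᶜ H ∧
      D ⊔ V t s ≤ a •ᶜ H ∧ D ⊔ V t s ≤ b •ᶜ H) (a := Y) ⟨h.Yp, h.nS, d, 1, by rwa [map_conj_one],
      sup_le ((h.Yle.trans inf_le_right).trans hs.le) (V_comm t s ▸ h4.symm.V_le_cent1.trans hs.le),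
      by rw [map_conj_one]
         exact sup_le (h.YP.trans (pCoreOf_le H)) (h4.V_le_cent1.trans h.le)⟩
  have hsol : Group.IsSolvable (V t s) := solvable_of_isPGroup h4.isPGroup_V
  -- a larger invariant `p`-subgroup lies in at most one conjugate
  have uniq : ∀ {A : Subgroup G} {x y : G}, IsPGroup p A → V t s ≤ 𝐍(A) → D < A →
      A ⊔ V t s ≤ x •ᶜ H → A ⊔ V t s ≤ y •ᶜ H → x •ᶜ H = y •ᶜ H := fun a1 a2 a3 a4 a5 => by
    by_contra e
    exact a3.not_ge (hmax ⟨a1, a2, _, _, e, a4, a5⟩ a3.le)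
  have big : ∀ {x y : G}, x •ᶜ H ≠ y •ᶜ H → D ⊔ V t s ≤ x •ᶜ H → D ⊔ V t s ≤ y •ᶜ H →
      ∃ A : Subgroup G, IsPGroup p A ∧ V t s ≤ 𝐍(A) ∧ D < A ∧ A ⊔ V t s ≤ x •ᶜ H ∧ A ≤ 𝐍(D) :=
    fun {x y} e hx hy => by
    have n := h.nil.conj x
    obtain ⟨P, p1, p2, p3⟩ := exists_inv_sylow_ge ((le_sup_right.trans hx).trans (le_norm_Od _))
      (h4.coprime_V (odd_Od _)) (Or.inl hsol) d1 (n.le_Od (le_sup_left.trans hx) (h.oddp d1)) d2
    have p4 : IsSylowIn p P (x •ᶜ H) := by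
      obtain ⟨T, b1, b2⟩ := IsSylowIn.exists_ge p1.isPGroup (p1.le.trans (Od_le _))
      rwa [p1.eq_of_le b2.isPGroup b1 (n.le_Od b2.le (h.oddp b2.isPGroup))] at b2
    refine ⟨P ⊓ 𝐍(D), p1.isPGroup.to_le inf_le_left, H1.le_normalizer_inf p2 (d2.trans le_normalizer),
      lt_inf_normalizer_of_isPGroup p1.isPGroup (lt_of_le_of_ne p3 fun e' => e ?_),
      sup_le (inf_le_left.trans p4.le) (le_sup_right.trans hx), inf_le_right⟩
    subst e'
    exact (h.norm_dSub' hG h1 p4).symm.trans (h.norm_dSub' hG h1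
      ((h.sylow_top hG h1 p4).mono (le_sup_left.trans hy) le_top))
  obtain ⟨A, a1, a2, a3, a4, a5⟩ := big hab ha hb
  obtain ⟨B, b1, b2, b3, b4, b5⟩ := big hab.symm hb ha
  have hW : A ⊔ B ⊔ V t s ≤ 𝐍(D) := sup_le (sup_le a5 b5) d2
  have lA : A ≤ A ⊔ B ⊔ V t s := le_sup_left.trans le_sup_left
  have lB : B ≤ A ⊔ B ⊔ V t s := le_sup_right.trans le_sup_left
  obtain ⟨g, hg⟩ := h.glob hG h1 (W := A ⊔ B ⊔ V t s)
    (fun e => h.ne_top' hG d1 hYD (top_le_iff.1 (e ▸ hW))) le_sup_right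
    ((hYD.trans a3.le).trans lA) fun X _ hX => by
    have hSX := le_sup_right.trans hX
    obtain ⟨R, r1, r2, r3, r4, r5⟩ := h.exists_R hG a1 a2 (lA.trans hX) hSX
    obtain ⟨R', s1, s2, s3, s4, s5⟩ := h.exists_R hG b1 b2 (lB.trans hX) hSX
    obtain ⟨x, hx⟩ := h.exists_ge hG h1 r1 r3 ((hYD.trans a3.le).trans r2)
    obtain ⟨y, hy⟩ := h.exists_ge hG h1 s1 s3 ((hYD.trans b3.le).trans s2)
    rw [uniq a1 a2 a3 ((sup_le_sup_right r2 _).trans hx) a4] at hx
    rw [uniq b1 b2 b3 ((sup_le_sup_right s2 _).trans hy) b4] at hy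
    have hSO := hSX.trans (le_norm_Od X)
    obtain ⟨c, hc, e⟩ := conj_invariant_sylowOf hSO (h4.coprime_V (odd_Od X)) (Or.inl hsol)
      (sylow_iff_hall.1 s5) (sylow_iff_hall.1 r5) (H1.le_normalizer_inf s3 hSO)
      (H1.le_normalizer_inf r3 hSO)
    have hDR := a3.le.trans r2
    have e1 : R ⊓ Od X ≤ b •ᶜ H := e ▸ cj_le_of_norm (inf_le_left.trans (le_sup_left.trans hy))
      (le_normalizer (h.cent_le_cj hG (le_sup_right.trans hb) hc.2))
    have e2 : D ⊔ R ⊓ Od X ≤ D := hmax ⟨r1.to_le (sup_le hDR inf_le_left), H1.le_normalizer_sup d2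
      (H1.le_normalizer_inf r3 hSO), a, b, hab, (sup_le_sup_right (sup_le hDR inf_le_left) _).trans hx,
      sup_le (sup_le (le_sup_left.trans hb) e1) (le_sup_right.trans hb)⟩ le_sup_left
    refine ⟨_, r5, ?_⟩
    rw [le_antisymm (le_inf (le_sup_right.trans e2) inf_le_right) (inf_le_inf_right _ hDR)]
    exact H1.le_normalizer_inf hW (hX.trans (le_norm_Od X))
  exact hab ((uniq a1 a2 a3 a4 ((sup_le lA le_sup_right).trans hg)).trans
    (uniq b1 b2 b3 ((sup_le lB le_sup_right).trans hg) b4))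

end Conf

end CfsgLib.GW.LD
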