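import Cfsg.Agent.Lib.GW.CountC

/-!
# The configuration `Mixed`: the subgroups `T`, `C(T)` and `O`
-/

set_option autoImplicit false

namespace CfsgLib.GW

open Subgroup Cfsg CfsgLib.FT.BGN CfsgLib.FT.U4
open scoped commutatorElement

variable {G : Type*} [Group G]

/-- The properties of the subgroup `R` given by `PslAt.rad`. -/
structure Rad (L R : Subgroup G) (t s k : G) : Prop where
  le : R ≤ L
  inv : Inverts t R
  norm : k ∈ 𝐍(R)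
  cop : (Nat.card R).Coprime (2 * orderOf k)
  cent : ∀ g ∈ R, g ≠ 1 → L ⊓ 𝐂[g] = R
  tr : ∀ c ∈ zpowers k, c ≠ 1 → ∀ (l : ℕ) (T : Subgroup G), l.Prime → l ≠ 2 → T ≤ L →
    IsPGroup l T → c ∈ 𝐍(T) → T ⊓ 𝐂[c] = ⊥ → T ≤ R ∨ T ≤ s •ᶜ R

theorem PslAt.exists_rad {L : Subgroup G} {t s k : G} (h : PslAt L t s k) : ∃ R, Rad L R t s k := by
  obtain ⟨R, h1, h2, h3, h4, h5, h6⟩ := h.rad
  exact ⟨R, h1, h2, h3, h4, h5, h6⟩

theorem Rad.odd {L R : Subgroup G} {t s k : G} (h : Rad L R t s k) : Odd (Nat.card R) :=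
  Nat.coprime_two_right.1 (Nat.Coprime.coprime_mul_right_right h.cop)

/-- An element `y'` of order `p` not commuting with `y` and centralizing `y c₁ ≠ y c₂`. -/
structure Pair (L : Subgroup G) (y y' c₁ c₂ : G) (p : ℕ) : Prop where
  oy : orderOf y' = p
  notMem : y' ∉ 𝐂[y]
  m1 : c₁ ∈ L
  m2 : c₂ ∈ L
  o1 : orderOf c₁ = p
  ne : c₁ ≠ c₂
  c1 : y' ∈ 𝐂[y * c₁]
  c2 : y' ∈ 𝐂[y * c₂]

theorem Pair.conj {L : Subgroup G} {y y' c₁ c₂ : G} {p : ℕ} (h : Pair L y y' c₁ c₂ p)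
    (hL : L ≤ 𝐂[y]) {a : G} (ha : a ∈ L) :
    Pair L y (a * y' * a⁻¹) (a * c₁ * a⁻¹) (a * c₂ * a⁻¹) p := by
  have h1 := conj_eq_of_mem_cent1 (hL ha)
  have h2 : ∀ b, y * (a * b * a⁻¹) = a * (y * b) * a⁻¹ := fun b => by
    conv_lhs => rw [← h1]
    group
  refine ⟨by rw [orderOf_conj, h.oy], ?_, mul_mem (mul_mem ha h.m1) (inv_mem ha),
    mul_mem (mul_mem ha h.m2) (inv_mem ha), by rw [orderOf_conj, h.o1], by simpa using h.ne, ?_, ?_⟩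
  · rw [← h1, cent1_conj, conj_mem_conj_iff]; exact h.notMem
  · rw [h2, cent1_conj, conj_mem_conj_iff]; exact h.c1
  · rw [h2, cent1_conj, conj_mem_conj_iff]; exact h.c2

variable [Finite G]

theorem burnside_amb {p : ℕ} [Fact p.Prime] {S X : Subgroup G} (hS : IsSylowIn p S X)
    (h : X ⊓ 𝐍(S) ≤ 𝐂(S)) : (∀ g ∈ X, (orderOf g).Coprime p → g ∈ piCoreOf {p}ᶜ X) ∧
      piCoreOf {p}ᶜ X ⊔ S = X := by
  obtain ⟨P, hP⟩ := hS.exists_sylow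
  have hn : HasNormalPComplement p X := by
    refine PCompl.hnpc_of_normalizer_le_centralizer P fun g hg => ?_
    rw [hP] at hg ⊢
    have h1 : (g : G) ∈ 𝐍(S) := mem_normalizer_of_conj_mem fun x hx =>
      conj_mem_of_mem_normalizer (x := ⟨x, hS.le hx⟩) hg hx
    exact mem_cent.2 fun x hx => Subtype.ext (mem_cent.1 (h ⟨g.2, h1⟩) x hx)
  rw [← H1.map_pPrimeCore_eq_piCoreOf, PCompl.hnpc_pPrimeCore_eq_pResidual hn]
  refine ⟨fun g hg hc => ⟨⟨g, hg⟩, ?_, rfl⟩, ?_⟩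
  · rw [SetLike.mem_coe, PCompl.hnpc_mem_pResidual_iff hn, ← orderOf_coe]
    exact hc
  · have h1 := (PCompl.hnpc_isComplement' hn P).sup_eq_top
    rw [← H1.map_subtype_subgroupOf hS.le, ← hP, ← Subgroup.map_sup, h1, ← MonoidHom.range_eq_map,
      range_subtype]

namespace Mixed

variable {L P : Subgroup G} {t s k x y c : G} {p e : ℕ} (h : Mixed L P t s k x y c p e)
include h

theorem pair_notMem (hE : E4 G) {y' c₁ c₂ : G} (hp : Pair L y y' c₁ c₂ p) : y' ∉ 𝐂[t] := by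
  intro ht
  have hU : y' ∈ Ut t := (mem_Ut hE h.ed.four.ot).2 ⟨mem_cent1.1 ht, hp.oy ▸ h.odd_p⟩
  have h1 : ⁅y, y'⁆ ∈ zpowers c :=
    h.Pder (commutator_mem_commutator (h.mem_P h.yU h.oy) (h.mem_P hU hp.oy))
  have h2 : ⁅y, y'⁆ ≠ 1 := fun e1 =>
    hp.notMem (mem_cent1'.2 (commutatorElement_eq_one_iff_mul_comm.1 e1))
  have hk := zpowers_le.2 h.cmem h1
  have h3 : y ∈ 𝐂[y * c₁] := by
    rw [mem_cent1_comm]; exact mul_mem (self_mem_cent1 y) (h.L_le hp.m1)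
  have h4 : y * c₁ ∈ 𝐂[⁅y, y'⁆] := by
    rw [mem_cent1_comm, commutatorElement_def]
    exact mul_mem (mul_mem (mul_mem h3 hp.c1) (inv_mem h3)) (inv_mem hp.c1)
  have h5 : c₁ ∈ 𝐂[t] := h.cent_k hk h2 ((Subgroup.mul_mem_cancel_left _ (h.U_le hk h.yU)).1 h4)
  have h6 : c₁ ∈ zpowers k := (h.ed.psl.mem _).2 ⟨hp.m1, mem_cent1.1 h5, hp.o1 ▸ h.odd_p⟩
  refine hp.notMem ?_
  rw [mem_cent1_comm]
  exact (Subgroup.mul_mem_cancel_right _ (mem_cent1_comm.1 (h.U_le h6 hU))).1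
    (mem_cent1_comm.1 hp.c1)

theorem pair_coprime (hE : E4 G) {y' c₁ c₂ : G} (hp : Pair L y y' c₁ c₂ p) {r : ℕ} (hr : r.Prime)
    (hd : r ∣ Nat.card ↥(L ⊓ 𝐂[y'])) : r ≠ 2 ∧ ¬ r ∣ orderOf k := by
  have := Fact.mk hr
  obtain ⟨d, hd⟩ := exists_prime_orderOf_dvd_card' (G := ↥(L ⊓ 𝐂[y'])) r hd
  rw [← orderOf_coe] at hd
  constructor
  · rintro rfl
    obtain ⟨g, hg, e1⟩ := h.ed.one d d.2.1 t h.ed.tmem hd h.ed.four.ot
    refine h.pair_notMem hE (hp.conj h.L_le hg) ?_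
    rw [← e1, cent1_conj, conj_mem_conj_iff, mem_cent1_comm]
    exact d.2.2
  · intro hz
    obtain ⟨g, hg, h1⟩ := h.ed.exists_conj_mem hE hr hz d.2.1 hd
    refine h.pair_notMem hE (hp.conj h.L_le hg) (h.cent_k h1 (fun e1 => hr.one_lt.ne' ?_) ?_)
    · rw [← hd, ← orderOf_conj g, e1, orderOf_one]
    · rw [cent1_conj, conj_mem_conj_iff, mem_cent1_comm]
      exact d.2.2

omit [Finite G] in
theorem c_mem_norm_conj {T : Subgroup G} (hT : c ∈ 𝐍(T)) : c ∈ 𝐍(s⁻¹ •ᶜ T) := by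
  rw [norm_conj, mem_map_conj_iff, inv_inv, h.sc]
  exact inv_mem hT

theorem exists_T (hG : Simp4 G) {R : Subgroup G} (hR : Rad L R t s k) :
    ∃ (y' : G) (T : Subgroup G), y' ∉ 𝐂[y] ∧ T ≠ ⊥ ∧ T ≤ R ∧ c ∈ 𝐍(T) ∧ y' ∈ 𝐂(T) := by
  have hE := hG.e4
  obtain ⟨y₀, h1, h2, d₁, h3, d₂, h4, h5, -, h6, h7, h8⟩ := h.exists_pair hG
  obtain ⟨a, ha, hc₁⟩ := h.exists_conj_c hE h3 h5
  have hp := Pair.conj ⟨h1, h2, h3, h4, h5, h6, h7, h8⟩ h.L_le ha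
  generalize a * y₀ * a⁻¹ = y' at hp
  generalize a * d₁ * a⁻¹ = c₁ at hp hc₁
  generalize a * d₂ * a⁻¹ = c₂ at hp
  have hc1 : c₁ ≠ 1 := fun e1 => h.prime.one_lt.ne' (by rw [← hp.o1, e1, orderOf_one])
  have hD : L ⊓ 𝐂[y'] ≠ ⊥ := by
    refine ne_bot_of_mem (x := c₁⁻¹ * c₂) (mem_inf.2 ⟨mul_mem (inv_mem hp.m1) hp.m2, ?_⟩)
      fun e1 => hp.ne (inv_mul_eq_one.1 e1)
    have e1 : c₁⁻¹ * c₂ = (y * c₁)⁻¹ * (y * c₂) := by group
    rw [e1]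
    exact mul_mem (inv_mem (mem_cent1_comm.1 hp.c1)) (mem_cent1_comm.1 hp.c2)
  have hn : zpowers c ≤ 𝐍(L ⊓ 𝐂[y']) := by
    rw [← h.zpowers_eq_c hc₁ hc1, zpowers_le]
    have h9 : y ∈ 𝐍(L ⊓ 𝐂[y']) := cent_le_norm _
      (mem_cent.2 fun g hg => mem_cent1.1 (h.L_le hg.1))
    refine (Subgroup.mul_mem_cancel_left _ h9).1 (mem_norm_inf (h.cent_le_norm_L ?_)
      (mem_norm_cent1 (mem_cent1_comm.1 hp.c1)))
    exact mul_mem (self_mem_cent1 y) (h.L_le hp.m1)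
  obtain ⟨l, hl, hld⟩ := exists_prime_dvd_card hD
  have := Fact.mk hl
  have hcop : (Nat.card ↥(L ⊓ 𝐂[y'])).Coprime (4 * orderOf k) := by
    refine Nat.coprime_of_dvd fun r hr h9 h10 => ?_
    obtain ⟨h11, h12⟩ := h.pair_coprime hE hp hr h9
    rcases (Nat.Prime.dvd_mul hr).1 h10 with h13 | h13
    · exact h11 ((Nat.prime_dvd_prime_iff_eq hr Nat.prime_two).1
        (hr.dvd_of_dvd_pow (n := 2) (by simpa using h13)))
    · exact h12 h13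
  obtain ⟨T, hT, hcT⟩ := Cop.exists_invariant_sylowOf l hn (by
    rw [Nat.card_zpowers, h.oc]
    exact (Nat.Coprime.coprime_dvd_right (h.p_dvd.mul_left 4) hcop).symm)
    (Or.inl (isSolvable_of_comm fun a b => mul_comm' a b))
  have hT' := sylow_of_hallOf hT
  have hT1 := hT'.ne_bot hld
  have hcT' : c ∈ 𝐍(T) := hcT (mem_zpowers c)
  have hTc : T ⊓ 𝐂[c] = ⊥ := by
    refine eq_bot_of_forall fun g hg => orderOf_eq_one_iff.1 (Nat.eq_one_of_dvd_coprimes hcop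
      (orderOf_dvd_natCard _ (hT'.le hg.1)) ?_)
    rw [← h.ed.card_cent_L hE]
    exact orderOf_dvd_natCard _ ⟨h.cent_k h.cmem h.c1 hg.2, (hT'.le hg.1).1⟩
  have hyT : y' ∈ 𝐂(T) := mem_cent.2 fun g hg => mem_cent1.1 (hT'.le hg).2
  rcases hR.tr c h.cmem h.c1 l T hl (h.pair_coprime hE hp hl hld).1 (hT'.le.trans inf_le_left)
    hT'.isPGroup hcT' hTc with h9 | h9
  · exact ⟨y', T, hp.notMem, hT1, h9, hcT', hyT⟩
  · refine ⟨_, s⁻¹ •ᶜ T, (hp.conj h.L_le (inv_mem h.ed.smem)).notMem,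
      by rwa [Ne, conj_eq_bot_iff], le_conj_iff.1 h9, h.c_mem_norm_conj hcT', ?_⟩
    rw [cent_conj]
    exact conj_mem_map_conj hyT

section K

variable (hG : Simp4 G) {R T : Subgroup G} (hR : Rad L R t s k) (hT1 : T ≠ ⊥) (hT : T ≤ R)
  (hc : c ∈ 𝐍(T))

include hR hT in
theorem T_inf_cent {g : G} (hg : g ∈ zpowers k) (h1 : g ≠ 1) : T ⊓ 𝐂[g] = ⊥ := by
  rw [eq_bot_iff, ← hR.inv.inf_cent hR.odd]
  exact inf_le_inf hT (h.cent_k hg h1)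

include hG hR hT1 hT hc in
theorem odd_cent : Odd (Nat.card 𝐂(T)) := by
  by_contra hno
  have hE := hG.e4
  have h4 := h.ed.four
  have ht : t ∈ 𝐍(T) := (hR.inv.mono hT).mem_norm
  have ht' : t ∉ 𝐂(T) := fun h1 => hT1 (by
    rw [eq_bot_iff, ← hR.inv.inf_cent hR.odd]
    exact le_inf hT fun g hg => mem_cent1.2 (mem_cent.1 h1 g hg))
  have h1 : 4 ∣ Nat.card 𝐍(T) := by
    refine dvd_trans ?_ (card_dvd_of_le (H := zpowers t ⊔ 𝐂(T))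
      (sup_le (zpowers_le.2 ht) (cent_le_norm T)))
    rw [card_sup_of_disjoint (zpowers_le.2 (norm_le_norm_cent T ht)), card_zpowers_inv h4.ot]
    · exact mul_dvd_mul_left 2 (even_iff_two_dvd.1 (Nat.not_odd_iff_even.1 hno))
    · refine eq_bot_of_forall fun g hg => ?_
      rcases (mem_zpowers_inv h4.ot).1 hg.1 with rfl | rfl
      · rfl
      · exact absurd hg.2 ht'
  obtain ⟨s', hs', h4'⟩ := exists_four hE h4.ot ht h1
  obtain ⟨q, hq, hd⟩ := exists_prime_dvd_card hT1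
  have := Fact.mk hq
  have hq' : ¬ q ∣ 2 * orderOf k := fun h2 =>
    hq.one_lt.ne' (Nat.eq_one_of_dvd_coprimes hR.cop (hd.trans (card_dvd_of_le hT)) h2)
  have hnil : Group.IsNilpotent T := isNilpotent_of_comm (hR.inv.mono hT).isMulCommutative
  have hS := sylow_pcore_of_nil hnil q
  have hn := norm_le_norm_pcore {q} T
  refine hS.ne_bot hd (h.lemmaR hG hq (fun e1 => hq' (e1 ▸ dvd_mul_right _ _))
    (fun h2 => hq' (h2.mul_left 2)) hS.isPGroup h4' (hn ht) (hn hs') (hn hc) ?_)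
  exact h.T_inf_cent hR (hS.le.trans hT) h.cmem h.c1

omit [Finite G] in
include hR hT in
theorem y_mem_cent : y ∈ 𝐂(T) := mem_cent.2 fun _ hg => mem_cent1.1 (h.L_le (hR.le (hT hg)))

include hG hR hT1 hT in
theorem cent_U : 𝐂(T) ⊓ Ut t ≤ zpowers y := by
  have hE := hG.e4
  have hy := h.y_mem_cent hR hT
  have h1 : ∀ g ∈ zpowers k, g ∈ 𝐂(T) → g = 1 := fun g hg hg' => by
    by_contra h1
    refine hT1 ?_
    rw [← h.T_inf_cent hR hT hg h1]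
    exact (inf_eq_left.2 fun a ha => mem_cent1.2 (mem_cent.1 hg' a ha)).symm
  have h2 : ∀ g ∈ 𝐂(T) ⊓ Ut t, g ∈ 𝐂[y] → g ∈ zpowers y := fun g hg hgy => by
    obtain ⟨a, ha, l, hl, rfl⟩ := h.split_U hE hg.2 hgy
    rw [h1 l hl ((Subgroup.mul_mem_cancel_left _ (zpowers_le.2 hy ha)).1 hg.1), mul_one]
    exact ha
  intro g hg
  refine h2 g hg (h.norm_y ?_)
  have h3 : g * y * g⁻¹ ∈ 𝐂(T) ⊓ Ut t :=
    mul_mem (mul_mem hg ⟨hy, h.yU⟩) (inv_mem hg)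
  have h4 : g * y * g⁻¹ ∈ 𝐂[y] := by
    rw [mem_cent1, ← commutatorElement_eq_one_iff_mul_comm]
    refine h1 _ (zpowers_le.2 h.cmem (h.Pder (commutator_mem_commutator
      (h.mem_P h3.2 (by rw [orderOf_conj, h.oy])) (h.mem_P h.yU h.oy)))) ?_
    rw [commutatorElement_def]
    exact mul_mem (mul_mem (mul_mem h3.1 hy) (inv_mem h3.1)) (inv_mem hy)
  refine mem_normalizer_of_conj_mem fun a ha => ?_
  have h5 : g •ᶜ zpowers y ≤ zpowers y := by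
    rw [← zpowers_conj]; exact zpowers_le.2 (h2 _ h3 h4)
  exact h5 (conj_mem_map_conj ha)

include hG hR hT1 hT hc in
theorem cent_t : 𝐂(T) ⊓ 𝐂[t] ≤ zpowers y :=
  le_trans (le_inf inf_le_left (le_Ut hG.e4 h.ed.four.ot inf_le_right
    (odd_card_of_le (h.odd_cent hG hR hT1 hT hc) inf_le_left))) (h.cent_U hG hR hT1 hT)

omit [Finite G] in
include hR hT1 hT in
theorem cent_y {g : G} (hg : g ∈ 𝐂(T)) (hy : g ∈ 𝐂[y]) : ∃ a ∈ zpowers y, ∃ l ∈ R, g = a * l := by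
  obtain ⟨a, ha, l, hl, rfl⟩ := h.split' hy
  obtain ⟨b, hb, hb1⟩ := exists_ne_one hT1
  refine ⟨a, ha, l, ?_, rfl⟩
  rw [← hR.cent b (hT hb) hb1]
  exact ⟨hl, cent_le_cent1 hb
    ((Subgroup.mul_mem_cancel_left _ (zpowers_le.2 (h.y_mem_cent hR hT) ha)).1 hg)⟩

include hR in
theorem R_coprime : (Nat.card R).Coprime p :=
  Nat.Coprime.coprime_dvd_right (h.p_dvd.mul_left 2) hR.cop

include hR hT1 hT in
theorem sylow_y : IsSylowIn p (zpowers y) 𝐂(T) := by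
  have := Fact.mk h.prime
  have hp : IsPGroup p (zpowers y) := isPGroup_of_card_eq (by rw [Nat.card_zpowers, h.oy])
  refine IsSylowIn.of_maximal (zpowers_le.2 (h.y_mem_cent hR hT)) hp fun S hS h1 h2 => ?_
  by_contra h3
  obtain ⟨g, hg, hg'⟩ := SetLike.exists_of_lt
    (lt_inf_normalizer_of_isPGroup hS (lt_of_le_of_ne h1 fun e1 => h3 e1.ge))
  obtain ⟨a, ha, l, hl, rfl⟩ := h.cent_y hR hT1 hT (h2 hg.1) (h.norm_y hg.2)
  have h4 : l ∈ S := (Subgroup.mul_mem_cancel_left _ (h1 ha)).1 hg.1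
  have h5 : l = 1 := by
    obtain ⟨n, hn⟩ := hS ⟨l, h4⟩
    refine orderOf_eq_one_iff.1 (Nat.eq_one_of_dvd_coprimes ((h.R_coprime hR).pow_right n)
      (orderOf_dvd_natCard _ hl) (orderOf_dvd_of_pow_eq_one ?_))
    simpa using congrArg Subtype.val hn
  exact hg' (by rwa [h5, mul_one])

include hR hT1 hT in
theorem burnside_cent : (∀ g ∈ 𝐂(T), (orderOf g).Coprime p → g ∈ piCoreOf {p}ᶜ 𝐂(T)) ∧
      piCoreOf {p}ᶜ 𝐂(T) ⊔ zpowers y = 𝐂(T) := by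
  have := Fact.mk h.prime
  exact burnside_amb (h.sylow_y hR hT1 hT) (by rw [cent_zpowers]; exact inf_le_right.trans h.norm_y)

include hG hR hT1 hT hc in
theorem O_inf_cent : piCoreOf {p}ᶜ 𝐂(T) ⊓ 𝐂[t] = ⊥ := by
  have := Fact.mk h.prime
  refine eq_bot_of_forall fun g hg => orderOf_eq_one_iff.1 (Nat.eq_one_of_dvd_coprimes
    (H1.piCoreOf_compl_coprime p 𝐂(T)) (orderOf_dvd_natCard _ hg.1) ?_)
  exact h.oy ▸ orderOf_dvd_of_mem_zpowers (h.cent_t hG hR hT1 hT hc ⟨pcore_le _ _ hg.1, hg.2⟩)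

include hG hR hT1 hT hc in
theorem inverts_O : Inverts t (piCoreOf {p}ᶜ 𝐂(T)) :=
  inverts_of_inf_cent h.ed.four.tt (odd_card_of_le (h.odd_cent hG hR hT1 hT hc) (pcore_le _ _))
    (norm_le_norm_pcore _ _ (norm_le_norm_cent T (hR.inv.mono hT).mem_norm))
    (h.O_inf_cent hG hR hT1 hT hc)

include hR hT1 hT in
theorem R_le_O : R ≤ piCoreOf {p}ᶜ 𝐂(T) := fun g hg =>
  (h.burnside_cent hR hT1 hT).1 g (centralizer_le hT (hR.inv.le_cent hg))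
    (Nat.Coprime.coprime_dvd_left (orderOf_dvd_natCard _ hg) (h.R_coprime hR))

include hG hR hT1 hT hc in
theorem O_le : piCoreOf {p}ᶜ 𝐂(T) ≤ piCoreOf {p}ᶜ 𝐂(R) := by
  have := Fact.mk h.prime
  intro g hg
  refine (h.burnside_cent hR (fun e1 => hT1 (le_bot_iff.1 (e1 ▸ hT))) le_rfl).1 g
    (centralizer_le (h.R_le_O hR hT1 hT) ((h.inverts_O hG hR hT1 hT hc).le_cent hg))
    (Nat.Coprime.coprime_dvd_left (orderOf_dvd_natCard _ hg) (H1.piCoreOf_compl_coprime p 𝐂(T)))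

end K

/-- The statement (K). -/
theorem exists_O (hG : Simp4 G) {R : Subgroup G} (hR : Rad L R t s k) (hR1 : R ≠ ⊥) :
    ∃ O : Subgroup G, R ≤ O ∧ Odd (Nat.card O) ∧ (Nat.card O).Coprime p ∧ Inverts t O ∧
      O ⊓ 𝐂[c] = ⊥ ∧ c ∈ 𝐍(O) ∧ y ∈ 𝐍(O) ∧ ∀ T, T ≠ ⊥ → T ≤ R → c ∈ 𝐍(T) →
        (∀ g ∈ 𝐂(T), (orderOf g).Coprime p → g ∈ O) ∧ 𝐂(T) ≤ O ⊔ zpowers y := by
  have := Fact.mk h.prime
  have hc : c ∈ 𝐍(R) := zpowers_le.2 hR.norm h.cmem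
  refine ⟨piCoreOf {p}ᶜ 𝐂(R), h.R_le_O hR hR1 le_rfl,
    odd_card_of_le (h.odd_cent hG hR hR1 le_rfl hc) (pcore_le _ _),
    H1.piCoreOf_compl_coprime p _, h.inverts_O hG hR hR1 le_rfl hc, ?_,
    norm_le_norm_pcore _ _ (norm_le_norm_cent R hc),
    pcore_normal _ _ (h.y_mem_cent hR le_rfl), fun T hT1 hT hcT => ⟨fun g hg ho => ?_, ?_⟩⟩
  · rw [eq_bot_iff, ← h.O_inf_cent hG hR hR1 le_rfl hc]
    exact inf_le_inf_left _ (h.cent_k h.cmem h.c1)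
  · exact h.O_le hG hR hT1 hT hcT ((h.burnside_cent hR hT1 hT).1 g hg ho)
  · conv_lhs => rw [← (h.burnside_cent hR hT1 hT).2]
    exact sup_le_sup_right (h.O_le hG hR hT1 hT hcT) _

end Mixed

end CfsgLib.GW
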