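import Cfsg.Agent.Lib.GW.Four

/-!
# Normal subgroups with a four-group as Sylow `2`-subgroup
-/

set_option autoImplicit false

namespace CfsgLib.GW

open Subgroup Cfsg CfsgLib.FT.BGN CfsgLib.FT.U4
open scoped commutatorElement

variable {G : Type*} [Group G] [Finite G]

instance Jv_normal (D : Subgroup G) [hD : D.Normal] : (Jv D).Normal :=
  ⟨fun _ hx g => Jv_le_of (K := (Jv D).comap (MulAut.conj g).toMonoidHom)
    (fun u hu h2 => mem_Jv (hD.conj_mem u hu g) (by rw [← h2]; exact orderOf_conj g u)) hx⟩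

theorem eq_bot_of_normal_odd (hO : Od (⊤ : Subgroup G) = ⊥) {N : Subgroup G} (hN : N.Normal)
    (ho : Odd (Nat.card N)) : N = ⊥ :=
  le_bot_iff.1 (hO ▸ le_Od le_top le_normalizer_of_normal ho)

theorem Od_eq_bot_of_normal (hO : Od (⊤ : Subgroup G) = ⊥) (N : Subgroup G) [N.Normal] :
    Od N = ⊥ :=
  le_bot_iff.1 (hO ▸ Od_le_Od le_top le_normalizer_of_normal)

theorem Od_top_eq_bot_of_normal (hO : Od (⊤ : Subgroup G) = ⊥) (N : Subgroup G) [N.Normal] :
    Od (⊤ : Subgroup N) = ⊥ :=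
  eq_bot_iff.2 fun x hx => by
    rw [mem_Od_top, Od_eq_bot_of_normal hO N, mem_bot] at hx
    exact Subtype.ext hx

theorem e4_of_sylow {D : Subgroup G} {a b : G} (h4 : Four a b) (h : IsSylowIn 2 (V a b) D) :
    E4 D := by
  refine ⟨fun h8 => ?_, fun g hg => ?_⟩
  · have h1 := h.card_eq_ordProj
    rw [h4.card_V] at h1
    have h2 : 3 ≤ (Nat.card D).factorization 2 :=
      (Nat.prime_two.pow_dvd_iff_le_factorization Nat.card_pos.ne').1 h8
    have := Nat.pow_le_pow_right (show 0 < 2 by norm_num) h2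
    omega
  · obtain ⟨m, hm⟩ := hg
    have hm0 : m ≠ 0 := fun h0 => (orderOf_pos g).ne' (by rw [hm, h0])
    have h1 : orderOf ((g : G) ^ m) = 4 := by
      rw [orderOf_pow_of_dvd hm0 (by rw [orderOf_coe, hm]; exact dvd_mul_left _ _), orderOf_coe, hm,
        Nat.mul_div_cancel _ (Nat.pos_of_ne_zero hm0)]
    obtain ⟨x, -, hx⟩ := h.exists_conj_le (Q := zpowers ((g : G) ^ m))
      (IsPGroup.of_card (n := 2) (by rw [Nat.card_zpowers, h1]; rfl)) (zpowers_le.2 (pow_mem g.2 m))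
    have h2 := h4.mul_self_of_mem (hx ⟨_, mem_zpowers _, rfl⟩)
    rw [← sq] at h2
    have h3 := orderOf_dvd_of_pow_eq_one h2
    change orderOf (x * (g : G) ^ m * x⁻¹) ∣ 2 at h3
    rw [orderOf_conj, h1] at h3
    omega

theorem isPGroup_two_of_forall_odd {H : Subgroup G} (h : ∀ x ∈ H, Odd (orderOf x) → x = 1) :
    IsPGroup 2 H := by
  intro g
  obtain ⟨k, m, hm, e⟩ := Nat.exists_eq_two_pow_mul_odd (orderOf_pos (g : G)).ne'
  refine ⟨k, Subtype.ext (h _ (g ^ 2 ^ k).2 ?_)⟩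
  rw [SubmonoidClass.coe_pow, orderOf_pow_of_dvd (by positivity) (e ▸ dvd_mul_right _ _), e,
    Nat.mul_div_cancel_left _ (by positivity)]
  exact hm

/-- A normal subgroup with a four-group as Sylow `2`-subgroup in a group with `O(G) = 1`. -/
theorem struct_Jv (hO : Od (⊤ : Subgroup G) = ⊥) {D : Subgroup G} [D.Normal] {a b : G}
    (h4 : Four a b) (h : IsSylowIn 2 (V a b) D) :
    Jv D = V a b ∨ (IsSimpleGroup (Jv D) ∧ ¬ IsMulCommutative (Jv D) ∧
      ∃ (F : Type) (_ : Field F) (_ : Fintype F), 5 ≤ Fintype.card F ∧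
        (Fintype.card F % 8 = 3 ∨ Fintype.card F % 8 = 5) ∧
        Nonempty (Jv D ≃* Matrix.ProjectiveSpecialLinearGroup (Fin 2) F)) := by
  have hV : V a b ≤ Jv D := V_le (mem_Jv (h.le (t_mem_V a b)) h4.ot)
    (mem_Jv (h.le (s_mem_V a b)) h4.os)
  have h' := h.mono hV (Jv_le D)
  have hE := e4_of_sylow h4 h'
  have hO' := Od_top_eq_bot_of_normal hO (Jv D)
  rcases nilp2_or_oneCl hE ⊤ with h1 | ⟨h1, h2⟩
  · left
    refine h'.eq_of_le (isPGroup_two_of_forall_odd fun x hx ho => ?_) hV le_rfl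
    have := h1 ⟨x, hx⟩ trivial (by rwa [← orderOf_coe])
    rw [hO', mem_bot] at this
    exact congrArg Subtype.val this
  · right
    obtain ⟨h3, h5⟩ := isSimpleGroup_of_Jv hE h2 (by rwa [card_top] at h1) hO' (Jv_top (Jv_Jv D))
    exact ⟨h3, h5, psl_of_e4 _ h3 h5 hE⟩

end CfsgLib.GW
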