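import Cfsg.Agent.Lib.GW.Order
import Cfsg.Agent.Lib.H5Small
import Cfsg.Agent.Lib.FT.PF6
import Cfsg.Agent.Lib.Blk.BSb

/-!
# Character theory of groups with a four-group as Sylow `2`-subgroup
-/

set_option autoImplicit false

namespace CfsgLib.GW

open Subgroup Cfsg CfsgLib.FT CfsgLib.FT.BGN CfsgLib.Blk
open scoped commutatorElement ComplexConjugate

universe u

section Order

variable {G : Type*} [Group G] [Finite G] {t s : G}

/-- `|G : C(t)| ≤ 15 |C(t) : C(S)| ^ 2`. -/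
theorem index_le (hG : Simp4 G) (h : Four t s) :
    (𝐂[t]).index ≤ 15 * (𝐂[s]).relIndex (Ut t) ^ 2 := by
  letI := Fintype.ofFinite G
  obtain ⟨α, β, γ, a, b, c, ha, hb, hc, -, -, -, h1, -, h2⟩ := exists_order hG.e4 h le_top hG.one
  have h3 := num_lower ha.mod hb.mod hc.mod h1 (ha.ne_one hG h) (hb.ne_one hG h) (hc.ne_one hG h)
  rw [relIndex_top_right] at h2
  have h4 : ((𝐂[t]).index : ℚ) * (8 / 15) ≤ 8 * ((𝐂[s]).relIndex (Ut t) : ℚ) ^ 2 :=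
    h2 ▸ mul_le_mul_of_nonneg_left h3 (Nat.cast_nonneg _)
  have h5 : ((𝐂[t]).index : ℚ) ≤ 15 * ((𝐂[s]).relIndex (Ut t) : ℚ) ^ 2 := by linarith
  exact_mod_cast h5

theorem le_relIndex (hG : E4 G) (h : Four t s) {H : Subgroup G} (hle : 𝐂[t] ≤ H) (h1 : OneCl H) :
    3 * (𝐂[s]).relIndex (Ut t) ^ 2 ≤ (𝐂[t]).relIndex H := by
  letI := Fintype.ofFinite G
  obtain ⟨α, β, γ, a, b, c, ha, hb, hc, -, -, -, h1, -, h2⟩ := exists_order hG h hle h1
  have h3 := num_upper ha.mod hb.mod hc.mod h1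
  have h4 : 8 * ((𝐂[s]).relIndex (Ut t) : ℚ) ^ 2 ≤ ((𝐂[t]).relIndex H : ℚ) * (8 / 3) :=
    h2 ▸ mul_le_mul_of_nonneg_left h3 (Nat.cast_nonneg _)
  have h5 : 3 * ((𝐂[s]).relIndex (Ut t) : ℚ) ^ 2 ≤ ((𝐂[t]).relIndex H : ℚ) := by linarith
  exact_mod_cast h5

theorem Four.card_eq (hG : E4 G) (h : Four t s) :
    Nat.card G = 4 * Nat.card (Ut t) * (𝐂[t]).index := by
  rw [← h.card_cent hG, card_mul_index]

theorem Ut_eq_bot_of_card_le (hG : Simp4 G) (h : Four t s) (h60 : Nat.card G ≤ 60) : Ut t = ⊥ := by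
  letI := Fintype.ofFinite G
  have h1 := h.card_eq hG.e4
  have hm : (𝐂[s]).relIndex (Ut t) ≠ 0 := H1.relIndex_ne_zero' _ _
  obtain ⟨k, hk⟩ := odd_Ut t
  rw [← card_eq_one]
  by_contra hU
  by_cases hB : Ut t ⊓ 𝐂[s] = ⊥
  · have h2 := le_relIndex hG.e4 h le_top hG.one
    rw [relIndex_top_right, ← inf_relIndex_right, inf_comm, hB, relIndex_bot_left] at h2
    have h3 : 3 ≤ Nat.card (Ut t) := by omega
    have h4 : 27 ≤ (𝐂[t]).index := by nlinarith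
    nlinarith
  · obtain ⟨σ, h2, -, h3, -⟩ := exists_sigma hG h hB
    rw [relIndex_top_right] at h2
    have h4 : (1 : ℚ) ≤ ((𝐂[s]).relIndex (Ut t) : ℚ) := by
      exact_mod_cast Nat.one_le_iff_ne_zero.2 hm
    have h5 : (0 : ℚ) < (𝐂[t]).index := by
      exact_mod_cast Nat.pos_of_ne_zero index_ne_zero_of_finite
    have h6 : (5 : ℚ) < (𝐂[t]).index := by nlinarith
    have h7 : 5 < (𝐂[t]).index := by exact_mod_cast h6
    have h3 : 3 ≤ Nat.card (Ut t) := by omega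
    nlinarith

theorem Ut_eq_bot_of_oneCl (hG : Simp4 G) (h : Four t s) {H : Subgroup G} (hH : H ≠ ⊤)
    (hle : 𝐂[t] ≤ H) (h1 : OneCl H) : Ut t = ⊥ := by
  have h2 := le_relIndex hG.e4 h hle h1
  have h3 := index_le hG h
  have hm : (𝐂[s]).relIndex (Ut t) ≠ 0 := H1.relIndex_ne_zero' _ _
  have h4 := relIndex_mul_index hle
  have h5 : H.index ≤ 5 := by
    by_contra h5
    have : 0 < (𝐂[s]).relIndex (Ut t) ^ 2 := by positivity
    nlinarith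
  have := hG.simple
  obtain ⟨f, hf⟩ := H5.exists_injective_perm_of_normalCore (H := H)
    ((normalCore_normal H).eq_bot_or_eq_top.resolve_right fun e =>
      hH (top_le_iff.1 (e ▸ normalCore_le H))) index_ne_zero_of_finite rfl
  have h6 := card_dvd_of_injective f hf
  rw [Nat.card_perm, Nat.card_fin] at h6
  have h7 : Nat.card G ∣ 120 := h6.trans (Nat.factorial_dvd_factorial h5)
  refine Ut_eq_bot_of_card_le hG h ?_
  have h8 := hG.e4.not8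
  obtain ⟨k, hk⟩ := h7
  rcases (by omega : k = 0 ∨ k = 1 ∨ 2 ≤ k) with rfl | rfl | h9
  · omega
  · omega
  · nlinarith

theorem card_eq_sixty (hG : Simp4 G) (h : Four t s) (hU : Ut t = ⊥) : Nat.card G = 60 := by
  classical
  letI := Fintype.ofFinite G
  have h1 := h.card_eq hG.e4
  have h2 := index_le hG h
  obtain ⟨α, β, γ, a, b, c, ha, hb, hc, hab, hac, hbc, h3, -, h4⟩ :=
    exists_order hG.e4 h le_top hG.one
  rw [hU, relIndex_bot_right] at h2 h4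
  rw [hU, card_bot] at h1
  have key : ∀ δ y, Blk0 ⊤ t δ y → ∃ χ : Irr (⊤ : Subgroup G), (δ = χ ∨ δ = -χ) ∧
      χ 1 ^ 2 = (y ^ 2 : ℤ) := fun δ y hy => by
    rcases hy.dirr with e | e
    · exact ⟨⟨δ, e⟩, Or.inl rfl, by push_cast; rw [← hy.deg]⟩
    · exact ⟨⟨-δ, e⟩, Or.inr (neg_neg δ).symm, by
        push_cast; rw [← hy.deg]; exact neg_sq _⟩
  have hne : ∀ (δ ε : G → ℂ) (χ ψ : Irr (⊤ : Subgroup G)), cfdot ⊤ δ ε = 0 → (δ = χ ∨ δ = -χ) →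
      (ε = ψ ∨ ε = -ψ) → χ ≠ ψ := by
    rintro δ ε χ ψ h0 (rfl | rfl) (rfl | rfl) rfl <;>
      simp [cfdot_neg_left, cfdot_neg_right, χ.irr.cfdot_self] at h0
  obtain ⟨x, hx, hx'⟩ := key _ _ ha
  obtain ⟨y, hy, hy'⟩ := key _ _ hb
  obtain ⟨z, hz, hz'⟩ := key _ _ hc
  have h5 := sum_irr_one_sq' (L := (⊤ : Subgroup G))
  have hxy := hne _ _ _ _ hab hx hy
  have hxz := hne _ _ _ _ hac hx hz
  have hyz := hne _ _ _ _ hbc hy hz
  have h6 : ∑ χ ∈ ({x, y, z} : Finset (Irr (⊤ : Subgroup G))), (χ 1 ^ 2).re ≤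
      ∑ χ : Irr (⊤ : Subgroup G), (χ 1 ^ 2).re :=
    Finset.sum_le_sum_of_subset_of_nonneg (Finset.subset_univ _) fun χ _ _ => by
      obtain ⟨n, hn⟩ := ZIrr_one_int χ.irr.mem_ZIrr
      rw [hn]
      exact_mod_cast sq_nonneg n
  rw [← Complex.re_sum, ← Complex.re_sum, h5, Finset.sum_insert (by simp [hxy, hxz]),
    Finset.sum_pair hyz, hx', hy', hz', card_top] at h6
  have h7 : a ^ 2 + (b ^ 2 + c ^ 2) ≤ (Nat.card G : ℤ) := by exact_mod_cast h6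
  have h8 : a ^ 2 + (b ^ 2 + c ^ 2) ≤ 60 := by omega
  have ha1 := ha.ne_one hG h
  have hb1 := hb.ne_one hG h
  have hc1 := hc.ne_one hG h
  have ha2 := ha.mod
  have hb2 := hb.mod
  have hc2 := hc.mod
  have ha3 : -8 < a ∧ a < 8 := by constructor <;> nlinarith
  have hb3 : -8 < b ∧ b < 8 := by constructor <;> nlinarith
  have hc3 : -8 < c ∧ c < 8 := by constructor <;> nlinarith
  have h9 : (1 + 1 / a + 1 / b + 1 / c : ℚ) = 8 / 15 := by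
    rcases (by omega : (a = 5 ∧ b = -3 ∧ c = -3) ∨ (a = -3 ∧ b = 5 ∧ c = -3) ∨
      (a = -3 ∧ b = -3 ∧ c = 5)) with ⟨rfl, rfl, rfl⟩ | ⟨rfl, rfl, rfl⟩ | ⟨rfl, rfl, rfl⟩ <;>
      norm_num
  rw [h9, relIndex_top_right] at h4
  have h10 : ((𝐂[t]).index : ℚ) = 15 := by push_cast at h4; linarith
  have h11 : (𝐂[t]).index = 15 := by exact_mod_cast h10
  omega

theorem exists_conj_of_not_four_dvd {M : Subgroup G} (h4 : ¬ 4 ∣ Nat.card M) {a b : G}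
    (ha : orderOf a = 2) (hb : orderOf b = 2) (haM : a ∈ M) (hbM : b ∈ M) :
    ∃ c ∈ M, c * a * c⁻¹ = b := by
  have h1 : IsSylowIn 2 (zpowers b) M := ⟨zpowers_le.2 hbM, isPGroup_zpowers_inv hb, fun h2 => by
    have := card_mul_relIndex (zpowers_le.2 hbM)
    rw [card_zpowers_inv hb] at this
    omega⟩
  obtain ⟨c, hc, hle⟩ := h1.exists_conj_le (isPGroup_zpowers_inv ha) (zpowers_le.2 haM)
  exact ⟨c, hc, ((mem_zpowers_inv hb).1 (hle (conj_mem_map_conj (mem_zpowers a)))).resolve_left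
    (U4.conj_ne_one_iff.2 (ne_one_of_inv ha))⟩

theorem fusion_U (hG : E4 G) (h : Four t s) {β : Type*} {φ : G → β}
    (h1 : ∀ n ∈ 𝐂[t], ∀ u, φ (n * u * n⁻¹) = φ u)
    (h2 : ∀ n ∈ 𝐍(V t s), ∀ b ∈ Ut t ⊓ 𝐂[s], φ (n * b * n⁻¹) = φ b) {u g : G} (hu : u ∈ Ut t)
    (hu' : g * u * g⁻¹ ∈ Ut t) : φ (g * u * g⁻¹) = φ u := by
  have ht : ∀ w ∈ Ut t, t ∈ 𝐂[w] := fun w hw => U4.mem_cent1_comm.1 (Ut_le t hw)
  by_cases h4 : 4 ∣ Nat.card 𝐂[g * u * g⁻¹]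
  · have key : ∀ w ∈ Ut t, 4 ∣ Nat.card 𝐂[w] → ∃ n ∈ 𝐂[t], n * w * n⁻¹ ∈ Ut t ⊓ 𝐂[s] := by
      intro w hw h4
      obtain ⟨a, ha, h5⟩ := exists_four hG h.ot (ht w hw) h4
      obtain ⟨n, hn, e⟩ := h.exists_conj_cases hG h5
      have h6 := conj_mem_of_mem_normalizer (cent_le_norm_Ut t hn) hw
      have h7 : n * a * n⁻¹ ∈ 𝐂[n * w * n⁻¹] := by
        rw [U4.cent1_conj]; exact conj_mem_map_conj ha
      refine ⟨n, hn, h6, U4.mem_cent1_comm.1 ?_⟩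
      rcases e with e | e <;> rw [e] at h7
      · exact h7
      · simpa using mul_mem (inv_mem (ht _ h6)) h7
    obtain ⟨n, hn, hb⟩ := key u hu (by rwa [U4.cent1_conj, card_map_conj] at h4)
    obtain ⟨n', hn', hb'⟩ := key _ hu' h4
    have e : n' * (g * u * g⁻¹) * n'⁻¹ = (n' * g * n⁻¹) * (n * u * n⁻¹) * (n' * g * n⁻¹)⁻¹ := by
      group
    have hV : ∀ b ∈ Ut t ⊓ 𝐂[s], V t s ≤ 𝐂[b] := fun b hb =>
      V_le (ht b hb.1) (U4.mem_cent1_comm.1 hb.2)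
    obtain ⟨c, hc, e'⟩ := h.exists_conj_eq hG (h.conj (n' * g * n⁻¹)) (hV _ hb') (by
      rw [V_conj, e, U4.cent1_conj]; exact map_mono (hV _ hb))
    rw [V_conj, ← map_conj_mul] at e'
    rw [← h1 n' hn', ← h1 n hn u, ← h2 _ (mem_normalizer_of_map_conj_eq e') _ hb,
      ← U4.conj_eq_of_mem_cent1 hc, e]
    congr 1
    group
  · obtain ⟨c, hc, e⟩ := exists_conj_of_not_four_dvd h4 (h.conj g).ot h.ot
      (by rw [U4.cent1_conj]; exact conj_mem_map_conj (ht u hu)) (ht _ hu')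
    rw [← h1 (c * g) (U4.mem_cent1_of_conj_eq (Eq.trans (by group) e)) u,
      ← U4.conj_eq_of_mem_cent1 hc]
    congr 1
    group

end Order

variable {G : Type*} [Group G] [Fintype G] {t s : G}

theorem exists_ext (hG : E4 G) (h : Four t s) {φ : G → ℂ} (h0 : ∀ g, g ∉ Ut t → φ g = 0)
    (h1 : ∀ n ∈ 𝐂[t], ∀ u, φ (n * u * n⁻¹) = φ u)
    (h2 : ∀ n ∈ 𝐍(V t s), ∀ b ∈ Ut t ⊓ 𝐂[s], φ (n * b * n⁻¹) = φ b) :
    ∃ y ∈ CF (⊤ : Subgroup G), (∀ g, ∃ u, y g = φ u) ∧ ∀ g ∈ 𝐂[t], y g = φ g := by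
  classical
  set y : G → ℂ := fun g => if h : ∃ x, x * g * x⁻¹ ∈ Ut t then φ (h.choose * g * h.choose⁻¹) else 0
    with hy
  have key : ∀ g x, x * g * x⁻¹ ∈ Ut t → y g = φ (x * g * x⁻¹) := fun g x hx => by
    have h3 : ∃ x, x * g * x⁻¹ ∈ Ut t := ⟨x, hx⟩
    have e : h3.choose * g * h3.choose⁻¹ = h3.choose * x⁻¹ * (x * g * x⁻¹) * (h3.choose * x⁻¹)⁻¹ := by
      group
    rw [hy]
    simp only [dif_pos h3]
    rw [e]
    exact fusion_U hG h h1 h2 hx (e ▸ h3.choose_spec)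
  have key' : ∀ g, (¬ ∃ x, x * g * x⁻¹ ∈ Ut t) → y g = 0 := fun g hg => by
    rw [hy]
    simp only [dif_neg hg]
  refine ⟨y, ⟨fun x hx => absurd trivial hx, fun x _ g => ?_⟩, fun g => ?_, fun g hg => ?_⟩
  · by_cases hg : ∃ x, x * g * x⁻¹ ∈ Ut t
    · obtain ⟨z, hz⟩ := hg
      have e : z * g * z⁻¹ = z * x⁻¹ * (x * g * x⁻¹) * (z * x⁻¹)⁻¹ := by group
      rw [key g z hz, key _ _ (e ▸ hz), ← e]
    · rw [key' g hg, key' _ fun ⟨z, hz⟩ => hg ⟨z * x, by simpa [mul_assoc] using hz⟩]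
  · by_cases hg : ∃ x, x * g * x⁻¹ ∈ Ut t
    · obtain ⟨z, hz⟩ := hg
      exact ⟨_, key g z hz⟩
    · exact ⟨t, by rw [key' g hg, h0 t (notMem_Od h.ot)]⟩
  · by_cases hu : g ∈ Ut t
    · simpa using key g 1 (by simpa using hu)
    · rw [h0 g hu, key' g fun ⟨z, hz⟩ => hu ((mem_Ut hG h.ot).2 ⟨U4.mem_cent1.1 hg, by
        simpa [U4.orderOf_conj] using odd_of_mem_Ut hz⟩)]

/-- The values on the section of `t` of a constituent of `Θ_λ`. -/
theorem val_of_invariant (hG : E4 G) (h : Four t s) {ι : Type*} [Fintype ι] {l : ι → G → ℂ}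
    (hl : ∀ i, GoodLin t s (l i)) (hinj : Function.Injective l)
    (h2 : ∀ n ∈ 𝐍(V t s), ∀ b ∈ Ut t ⊓ 𝐂[s], ∑ i, l i (n * b * n⁻¹) = ∑ i, l i b)
    {α : G → ℂ} (hα : IsDirr ⊤ α) {j : ι} (h0 : cfdot ⊤ α (Theta ⊤ t (l j)) ≠ 0) {u : G}
    (hu : u ∈ Ut t) : α (t * u) = ∑ i, cfdot ⊤ α (Theta ⊤ t (l i)) * l i u := by
  obtain ⟨y, hy, h3, h4⟩ := exists_ext hG h (φ := fun g => ∑ i, l i g)
    (fun g hg => Finset.sum_eq_zero fun i _ => (hl i).lin.mem_CF.1 g hg)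
    (fun n hn u => Finset.sum_congr rfl fun i _ => ((hl i).mem_CF hG h).2 n hn u) h2
  let f : ι ↪ Irr (Ut t) := ⟨fun i => ⟨l i, (hl i).lin.isIrr⟩, fun i j e =>
    hinj (congrArg Subtype.val e)⟩
  rcases exists_lift_U hG h le_top (Finset.univ.map f) hy (fun g => by
    obtain ⟨u, e⟩ := h3 g
    rw [e]
    exact IsIntegral.sum _ fun i _ => (hl i).lin.isChar.isIntegral u)
    (fun β hβ => by
      obtain ⟨i, -, rfl⟩ := Finset.mem_map.1 hβ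
      exact (hl i).lin.one)
    (fun g hg => by rw [h4 g hg, Finset.sum_map]; rfl) hα with h5 | h5
  · rw [h5 u hu, Finset.sum_map]
    exact Finset.sum_congr rfl fun i _ => by rw [(hl i).cfdot_Theta hG h le_top hα.mem_CF]; rfl
  · exact absurd (((hl j).cfdot_Theta hG h le_top hα.mem_CF).trans
      (h5 _ (Finset.mem_map_of_mem f (Finset.mem_univ j)))) h0

theorem GoodLin.eq_of_eq_on_B (h : Four t s) {l l' : G → ℂ} (hl : GoodLin t s l)
    (hl' : GoodLin t s l') (e : ∀ b ∈ Ut t ⊓ 𝐂[s], l b = l' b) : l = l' := by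
  ext u
  by_cases hu : u ∈ Ut t
  · obtain ⟨c, hc, i, hi, h1, rfl⟩ :=
      exists_cent_mul_inv h.ss (odd_Ut t) (cent_le_norm_Ut t h.s_cent) hu
    have h2 := mem_commutator_of_inverted (odd_of_mem_Ut hi) h1 hi
    rw [cfker_mul_right hl.lin.mem_CF (hl.ker h2), cfker_mul_right hl'.lin.mem_CF (hl'.ker h2),
      e c hc]
  · rw [hl.lin.mem_CF.1 u hu, hl'.lin.mem_CF.1 u hu]

theorem GoodLin.B_ne_bot (h : Four t s) {l l' : G → ℂ} (hl : GoodLin t s l)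
    (hl' : GoodLin t s l') (hne : l ≠ l') : Ut t ⊓ 𝐂[s] ≠ ⊥ := fun e =>
  hne (hl.eq_of_eq_on_B h hl' fun b hb => by
    rw [e, mem_bot] at hb
    rw [hb, hl.lin.one, hl'.lin.one])

theorem cfdot_of_mem_decomp {L : Subgroup G} {E : Finset (G → ℂ)} (h : Orthonormal' L E)
    {α : G → ℂ} (hα : α ∈ E) : cfdot L α (∑ β ∈ E, β) = 1 := by
  rw [cfdot_sum_right, Finset.sum_eq_single α (fun β hβ hne => h.ne hα hβ hne.symm)
    (fun h => absurd hα h), h.self hα]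

theorem exists_of_card_four {X : Type*} {E : Finset X} (h : E.card = 4) :
    ∃ a ∈ E, ∃ b ∈ E, ∃ c ∈ E, ∃ d ∈ E, ∀ f : X → ℂ, ∑ x ∈ E, f x = f a + f b + f c + f d := by
  classical
  obtain ⟨a, E', ha, rfl, h'⟩ := Finset.card_eq_succ.1 h
  obtain ⟨b, c, d, h1, h2, h3, rfl⟩ := Finset.card_eq_three.1 h'
  refine ⟨a, by simp, b, by simp, c, by simp, d, by simp, fun f => ?_⟩
  rw [Finset.sum_insert ha, Finset.sum_insert (by simp [h1, h2]), Finset.sum_pair h3]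
  ring

theorem GoodLin.eq_one_of_invariant (hG : Simp4 G) (h : Four t s) {l : G → ℂ}
    (hl : GoodLin t s l) (h2 : ∀ n ∈ 𝐍(V t s), ∀ b ∈ Ut t ⊓ 𝐂[s], l (n * b * n⁻¹) = l b) :
    l = cf1 (Ut t) := by
  by_contra hne
  obtain ⟨E, h3, h4, h5, h6, h7⟩ := hl.exists_decomp hG.e4 h le_top hG.one
  have hval : ∀ α ∈ E, ∀ u ∈ Ut t, α (t * u) = l u := fun α hα u hu => by
    have h8 := cfdot_of_mem_decomp h5 hα
    rw [← h6] at h8
    have := val_of_invariant hG.e4 h (l := fun _ : Unit => l) (fun _ => hl)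
      (fun _ _ _ => rfl) (fun n hn b hb => by rw [h2 n hn b hb]) (h4 α hα) (j := ())
      (by rw [h8]; exact one_ne_zero) hu
    rwa [Fintype.sum_unique, h8, one_mul] at this
  have ht : ∀ α ∈ E, α t = 1 := fun α hα => by
    simpa [hl.lin.one] using hval α hα 1 (one_mem _)
  have hdeg : ∀ α ∈ E, ∃ y : ℤ, α 1 = y ∧ y % 4 = 1 ∧ y ≠ 1 := fun α hα => by
    obtain ⟨y, h8, h9⟩ := exists_deg h le_top hG.one (h4 α hα) (ht α hα)
    refine ⟨y, h8, h9, ?_⟩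
    rintro rfl
    refine hG.deg_ne_one h (h4 α hα) ?_ (by exact_mod_cast h8)
    rcases (h4 α hα).cfdot_cases (isIrr_cf1 ⊤).isDirr with e | e | e
    · refine absurd (funext fun u => ?_) hne
      by_cases hu : u ∈ Ut t
      · rw [← hval α hα u hu, e.1, cf1_apply hu, cf1_apply (mem_top _)]
      · rw [hl.lin.mem_CF.1 u hu, cf1_apply_of_notMem hu]
    · have := ht α hα
      rw [e.1, Pi.neg_apply, cf1_apply (mem_top _)] at this
      norm_num at this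
    · exact e.2.2
  obtain ⟨a, ha, b, hb, c, hc, d, hd, hs⟩ := exists_of_card_four h3
  obtain ⟨a', a1, a2, a3⟩ := hdeg a ha
  obtain ⟨b', b1, b2, b3⟩ := hdeg b hb
  obtain ⟨c', c1, c2, c3⟩ := hdeg c hc
  obtain ⟨d', d1, d2, d3⟩ := hdeg d hd
  have h8 := hl.Theta_odd (L := ⊤) hG.e4 h (g := 1) (by simp)
  rw [h6, Finset.sum_apply, hs, a1, b1, c1, d1] at h8
  rw [hs, ht a ha, ht b hb, ht c hc, ht d hd, a1, b1, c1, d1, one_pow] at h7
  have h9 := num_four a2 b2 c2 d2 (by exact_mod_cast h8) a3 b3 c3 d3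
  obtain ⟨σ, h10, h11, -⟩ := exists_sigma hG h (hl.B_ne_bot h h.goodLin_one hne)
  have h12 : ((𝐂[t]).relIndex ⊤ : ℚ) * (1 / a' + 1 / b' + 1 / c' + 1 / d') =
      8 * ((𝐂[s]).relIndex (Ut t) : ℚ) ^ 2 := by exact_mod_cast h7
  have h13 := mul_left_cancel₀ (Nat.cast_ne_zero.2 (relIndex_ne_zero' _ _)) (h10.trans h12.symm)
  linarith

omit [Fintype G] in
/-- If `N(S)` induces no outer fusion on `B = O(C(S))`, then `U = [U, s]`. -/
theorem commutator_eq_of_fusion [Finite G] (hG : Simp4 G) (h : Four t s)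
    (hf : ∀ n ∈ 𝐍(V t s), ∀ b ∈ Ut t ⊓ 𝐂[s], ∃ c ∈ Ut t ⊓ 𝐂[s], n * b * n⁻¹ = c * b * c⁻¹) :
    ⁅Ut t, zpowers s⁆ = Ut t := by
  letI := Fintype.ofFinite G
  by_contra hne
  have h1 : ⁅Ut t, zpowers s⁆ < Ut t :=
    lt_of_le_of_ne (U4.comm_le_left (zpowers_le.2 (cent_le_norm_Ut t h.s_cent))) hne
  obtain ⟨l, h2, h3, h4⟩ := exists_lin_ne_one (commutator_sup_lt_of_solvable (solvable_Ut t) h1
    (normalizer_commutator_ge_left _ _)) le_sup_left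
  refine h3 (GoodLin.eq_one_of_invariant hG h ⟨h2, le_sup_right.trans h4⟩ fun n hn b hb => ?_)
  obtain ⟨c, hc, e⟩ := hf n hn b hb
  rw [e, h2.mem_CF.2 c hc.1]

theorem num_sign {b1 b2 b3 b4 c1 c2 c3 c4 w1 w2 w3 w4 : ℤ} (hb1 : b1 = 1 ∨ b1 = -1)
    (hb2 : b2 = 1 ∨ b2 = -1) (hb3 : b3 = 1 ∨ b3 = -1) (hb4 : b4 = 1 ∨ b4 = -1)
    (hc1 : c1 = 1 ∨ c1 = -1) (hc2 : c2 = 1 ∨ c2 = -1) (hc3 : c3 = 1 ∨ c3 = -1)
    (hc4 : c4 = 1 ∨ c4 = -1) (hb : b1 + b2 + b3 + b4 = 0) (hc : c1 + c2 + c3 + c4 = 0)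
    (hbc : b1 * c1 + b2 * c2 + b3 * c3 + b4 * c4 = 0) (hw : w1 + w2 + w3 + w4 = 0)
    (hbw : b1 * w1 + b2 * w2 + b3 * w3 + b4 * w4 = 0)
    (hcw : c1 * w1 + c2 * w2 + c3 * w3 + c4 * w4 = 0) (hm : (w1 + 3 * (1 + b1 + c1)) % 4 = 0) :
    ∃ z : ℤ, z % 4 = 3 ∧ ((1 + b1 + c1) ^ 2 / w1 + (1 + b2 + c2) ^ 2 / w2 + (1 + b3 + c3) ^ 2 / w3 +
      (1 + b4 + c4) ^ 2 / w4 : ℚ) = 8 / z := by
  refine ⟨b1 * c1 * w1, ?_, ?_⟩
  · rcases hb1 with rfl | rfl <;> rcases hc1 with rfl | rfl <;> omega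
  have key : w2 = b1 * c1 * b2 * c2 * w1 ∧ w3 = b1 * c1 * b3 * c3 * w1 ∧
      w4 = b1 * c1 * b4 * c4 * w1 := by
    rcases hb1 with rfl | rfl <;> rcases hb2 with rfl | rfl <;> rcases hb3 with rfl | rfl <;>
      rcases hb4 with rfl | rfl <;> rcases hc1 with rfl | rfl <;> rcases hc2 with rfl | rfl <;>
      rcases hc3 with rfl | rfl <;> rcases hc4 with rfl | rfl <;> omega
  obtain ⟨rfl, rfl, rfl⟩ := key
  clear hw hbw hcw hm
  rcases hb1 with rfl | rfl <;> rcases hb2 with rfl | rfl <;> rcases hb3 with rfl | rfl <;>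
    rcases hb4 with rfl | rfl <;> rcases hc1 with rfl | rfl <;> rcases hc2 with rfl | rfl <;>
    rcases hc3 with rfl | rfl <;> rcases hc4 with rfl | rfl <;>
    first | omega | (push_cast; ring)

omit [Fintype G] in
theorem Four.conj_s [Finite G] (hG : E4 G) (h : Four t s) {d : G} (hd : d ∈ 𝐍(V t s))
    (e : d * t * d⁻¹ = s) : d * s * d⁻¹ = t * s := by
  rcases h.mem_V.1 (conj_mem_of_mem_normalizer hd (s_mem_V t s)) with e' | e' | e' | e'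
  · exact absurd e' (U4.conj_ne_one_iff.2 h.s1)
  · have h1 : V (s * t) s = V t s := by rw [V_comm, h.symm.V_mul, V_comm]
    have h2 := h.symm.mul.symm.mem_cent_of_norm hG (h1 ▸ hd) (by rw [← conj_mul, e, e', h.comm])
    rw [h1] at h2
    exact absurd (((U4.conj_eq_of_mem_cent1 (U4.cent_le_cent1 (t_mem_V t s) h2))).symm.trans e) h.ne
  · exact absurd (by simpa using e.trans e'.symm) h.ne
  · exact e'

omit [Fintype G] in
theorem Four.norm_induction [Finite G] (hG : E4 G) (h : Four t s) {d : G} (hd : d ∈ 𝐍(V t s))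
    (e : d * t * d⁻¹ = s) {P : G → Prop} (h1 : ∀ c ∈ 𝐂[t], P c)
    (h2 : ∀ n ∈ 𝐍(V t s), P n → P (d * n)) {n : G} (hn : n ∈ 𝐍(V t s)) : P n := by
  have h3 : ∀ n ∈ 𝐍(V t s), n * t * n⁻¹ = s → P n := fun n hn e' => by
    have := h2 _ (mul_mem (inv_mem hd) hn) (h1 _ (U4.mem_cent1_of_conj_eq (by
      rw [show d⁻¹ * n * t * (d⁻¹ * n)⁻¹ = d⁻¹ * (n * t * n⁻¹) * d by group, e', ← e]; group)))
    rwa [mul_inv_cancel_left] at this
  rcases h.mem_V.1 (conj_mem_of_mem_normalizer hn (t_mem_V t s)) with e' | e' | e' | e'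
  · exact absurd e' (U4.conj_ne_one_iff.2 h.t1)
  · exact h1 n (U4.mem_cent1_of_conj_eq e')
  · exact h3 n hn e'
  · have := h2 _ (mul_mem (inv_mem hd) hn) (h3 _ (mul_mem (inv_mem hd) hn) (by
      rw [show d⁻¹ * n * t * (d⁻¹ * n)⁻¹ = d⁻¹ * (n * t * n⁻¹) * d by group, e',
        ← h.conj_s hG hd e]; group))
    rwa [mul_inv_cancel_left] at this

theorem eq_sum_of_odd {E : Finset (G → ℂ)} (hE : Orthonormal' ⊤ E) {θ : G → ℂ}
    (hθ : cfnorm ⊤ θ = E.card) {n : (G → ℂ) → ℤ} (hn : ∀ α ∈ E, cfdot ⊤ θ α = n α)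
    (ho : ∀ α ∈ E, Odd (n α)) :
    (∀ α ∈ E, n α = 1 ∨ n α = -1) ∧ θ = ∑ α ∈ E, (n α : ℂ) • α := by
  have h1 := hE.sum_norm_sq_le θ
  have h2 : ∀ α ∈ E, ‖cfdot ⊤ θ α‖ ^ 2 = (n α ^ 2 : ℤ) := fun α hα => by
    rw [hn α hα, Complex.norm_intCast, sq_abs]; push_cast; rfl
  have h3 : ∀ α ∈ E, (1 : ℝ) ≤ ‖cfdot ⊤ θ α‖ ^ 2 := fun α hα => by
    rw [h2 α hα]
    obtain ⟨k, hk⟩ := ho α hα
    have : n α ≠ 0 := by omega
    exact_mod_cast (by positivity : 0 < n α ^ 2)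
  have h4 : ∑ α ∈ E, (1 : ℝ) = ∑ α ∈ E, ‖cfdot ⊤ θ α‖ ^ 2 :=
    le_antisymm (Finset.sum_le_sum h3) (by simpa [hθ] using h1)
  refine ⟨fun α hα => ?_, ?_⟩
  · have := (Finset.sum_eq_sum_iff_of_le h3).1 h4 α hα
    rw [h2 α hα] at this
    exact sq_eq_one_iff.1 (by exact_mod_cast this.symm)
  · have h5 : cfdot ⊤ (θ - ∑ γ ∈ E, cfdot ⊤ θ γ • γ) (∑ γ ∈ E, cfdot ⊤ θ γ • γ) = 0 := by
      rw [cfdot_sum_right]
      exact Finset.sum_eq_zero fun α hα => by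
        rw [cfdot_smul_right, hE.cfdot_sub_proj θ hα, mul_zero]
    have h6 := cfnorm_add_of_ortho h5
    rw [sub_add_cancel, hE.cfnorm_sum_smul, ← h4, hθ] at h6
    have h7 := eq_zero_of_cfnorm_top (φ := θ - ∑ γ ∈ E, cfdot ⊤ θ γ • γ) (by simpa using h6.symm)
    exact (sub_eq_zero.1 h7).trans (Finset.sum_congr rfl fun α hα => by rw [hn α hα])

theorem three_false (hG : Simp4 G) (h : Four t s) {d : G} (hd : d ∈ 𝐍(V t s))
    (e : d * t * d⁻¹ = s) {l : Fin 3 → G → ℂ} (hl : ∀ i, GoodLin t s (l i))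
    (hinj : Function.Injective l)
    (hc : ∀ i, ∀ b ∈ Ut t ⊓ 𝐂[s], l i (d * b * d⁻¹) = l (i + 1) b) : False := by
  have hnB := h.norm_le_norm_B hG.e4
  have hinv : ∀ n ∈ 𝐍(V t s), ∀ b ∈ Ut t ⊓ 𝐂[s], ∑ i, l i (n * b * n⁻¹) = ∑ i, l i b := by
    intro n hn
    refine h.norm_induction hG.e4 hd e (P := fun n => ∀ b ∈ Ut t ⊓ 𝐂[s],
      ∑ i, l i (n * b * n⁻¹) = ∑ i, l i b) (fun c hc b _ => Finset.sum_congr rfl fun i _ =>
        ((hl i).mem_CF hG.e4 h).2 c hc b) (fun n hn h1 b hb => ?_) hn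
    rw [← h1 b hb, show d * n * b * (d * n)⁻¹ = d * (n * b * n⁻¹) * d⁻¹ by group,
      Finset.sum_congr rfl fun i _ => hc i _ (conj_mem_of_mem_normalizer (hnB hn) hb)]
    exact Equiv.sum_comp (Equiv.addRight 1) fun i => l i (n * b * n⁻¹)
  obtain ⟨E, h3, h4, h5, h6, h7⟩ := (hl 0).exists_decomp hG.e4 h le_top hG.one
  have hX : ∀ j α, ∃ n : ℤ, α ∈ E → cfdot ⊤ (Theta ⊤ t (l j)) α = n := fun j α => by
    by_cases hα : α ∈ E
    · obtain ⟨n, hn⟩ := ZIrr_cfdot_int ((hl j).Theta_ZIrr hG.e4 h le_top) (h4 α hα).mem_ZIrr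
      exact ⟨n, fun _ => hn⟩
    · exact ⟨0, fun h => absurd h hα⟩
  choose X hX using hX
  have hX' : ∀ j, ∀ α ∈ E, cfdot ⊤ α (Theta ⊤ t (l j)) = X j α := fun j α hα => by
    rw [← cfdot_conj, hX j α hα, map_intCast]
  have hX0 : ∀ α ∈ E, X 0 α = 1 := fun α hα => by
    have := hX' 0 α hα
    rw [h6, cfdot_of_mem_decomp h5 hα] at this
    exact_mod_cast this.symm
  have hval : ∀ α ∈ E, ∀ u ∈ Ut t, α (t * u) = ∑ i, X i α * l i u := fun α hα u hu => by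
    rw [val_of_invariant hG.e4 h hl hinj hinv (h4 α hα) (j := 0)
      (by rw [hX' 0 α hα, hX0 α hα]; simp) hu]
    exact Finset.sum_congr rfl fun i _ => by rw [hX' i α hα]
  obtain ⟨R, hR⟩ := exists_val Nat.prime_two
  have hdot : ∀ i j, cfdot (Ut t ⊓ 𝐂[s]) (l i) (l j) = if i = j then 1 else 0 := fun i j => by
    have hi := ((hl i).lin.cfRes (inf_le_left (b := 𝐂[s]))).isIrr
    have hj := ((hl j).lin.cfRes (inf_le_left (b := 𝐂[s]))).isIrr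
    rw [← cfdot_cfRes_left, ← cfdot_cfRes_right]
    split_ifs with hij
    · rw [hij, hj.cfdot_self]
    · refine hi.cfdot_ne hj fun e' => hij (hinj ((hl i).eq_of_eq_on_B h (hl j) fun b hb => ?_))
      rw [← cfRes_apply (φ := l i) hb, e', cfRes_apply hb]
  have hpar : ∀ α ∈ E, ∀ j, (2 : ℤ) ∣ X j α - X (j + 1) α := fun α hα j => by
    have h8 : ∀ b ∈ Ut t ⊓ 𝐂[s], R.valuation (α (t * b) - α b) < 1 := fun b hb =>
      val_ZIrr_mul_sub_lt (k := 1) Nat.prime_two hR (h4 α hα).mem_ZIrr trivial trivial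
        (by rw [pow_one, sq, h.tt]) (U4.mem_cent1.1 (Ut_le t hb.1)).symm
    have h9 : cfdot (Ut t ⊓ 𝐂[s]) (∑ i, (X i α : ℂ) • l (i + 1) - ∑ i, (X i α : ℂ) • l i)
        (l (j + 1)) = (X j α - X (j + 1) α : ℤ) := by
      simp [cfdot_sub_left, cfdot_sum_left, cfdot_smul_left, hdot]
    refine dvd_of_val_lt Nat.prime_two hR ?_
    rw [← h9, cfdot]
    refine val_mul_lt_right (val_inv_le (val_natCast_eq_one hR (Nat.coprime_two_right.2
      (odd_card_of_le (odd_Ut t) inf_le_left)))) (R.valuation.map_sum_lt one_ne_zero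
        fun b hb => val_mul_lt_left ?_ (val_le_one_of_isIntegral _
          (((hl _).lin.isChar.isIntegral b).map (starRingEnd ℂ).toIntAlgHom)))
    have hb := mem_elems.1 hb
    have hb' := conj_mem_of_mem_normalizer (hnB hd) hb
    have h10 := h8 _ hb'
    rw [(h4 α hα).mem_CF.2 d trivial, hval α hα _ hb'.1,
      Finset.sum_congr rfl fun i _ => by rw [hc i b hb]] at h10
    have h11 := val_sub_trans h10 (val_sub_symm (h8 b hb))
    rw [hval α hα b hb.1] at h11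
    simpa using h11
  have hnorm : ∀ j, cfnorm ⊤ (Theta ⊤ t (l j)) = E.card := fun j => cfnorm_eq_of_cfdot_eq (by
    rw [(hl j).cfdot_Theta_Theta hG.e4 h le_top (hl j), (hl j).lin.isIrr.cfdot_self, h3]; simp)
  have hort : ∀ i j, i ≠ j → cfdot ⊤ (Theta ⊤ t (l i)) (Theta ⊤ t (l j)) = 0 := fun i j hij => by
    rw [(hl i).cfdot_Theta_Theta hG.e4 h le_top (hl j),
      (hl i).lin.isIrr.cfdot_ne (hl j).lin.isIrr (hinj.ne hij), mul_zero]
  obtain ⟨p1, q1⟩ := eq_sum_of_odd h5 (hnorm 1) (hX 1) fun α hα => by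
    have := hpar α hα 0
    rw [hX0 α hα, zero_add] at this
    exact Int.odd_iff.2 (by omega)
  obtain ⟨p2, q2⟩ := eq_sum_of_odd h5 (hnorm 2) (hX 2) fun α hα => by
    have := hpar α hα 2
    rw [show (2 : Fin 3) + 1 = 0 from rfl, hX0 α hα] at this
    exact Int.odd_iff.2 (by omega)
  have ht : ∀ α ∈ E, α t = (1 + X 1 α + X 2 α : ℤ) := fun α hα => by
    simpa [Fin.sum_univ_three, hX0 α hα, (hl _).lin.one] using hval α hα 1 (one_mem _)
  have hdeg : ∀ α ∈ E, ∃ y : ℤ, α 1 = y := fun α hα => ZIrr_one_int (h4 α hα).mem_ZIrr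
  have s1 : ∀ j, j ≠ 0 → ∑ α ∈ E, (X j α : ℂ) = 0 := fun j hj => by
    rw [← hort j 0 hj, h6, cfdot_sum_right]
    exact Finset.sum_congr rfl fun α hα => (hX j α hα).symm
  have s2 : ∑ α ∈ E, (X 1 α * X 2 α : ℂ) = 0 := by
    rw [← hort 1 2 (by decide), q2, cfdot_sum_right]
    exact Finset.sum_congr rfl fun α hα => by
      rw [cfdot_smul_right, hX 1 α hα, map_intCast, mul_comm]
  have s3 := (hl 0).Theta_odd (L := ⊤) hG.e4 h (g := 1) (by simp)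
  have s4 := (hl 1).Theta_odd (L := ⊤) hG.e4 h (g := 1) (by simp)
  have s5 := (hl 2).Theta_odd (L := ⊤) hG.e4 h (g := 1) (by simp)
  have s6 := s1 1 (by decide)
  have s7 := s1 2 (by decide)
  obtain ⟨a, ha, b, hb, c, hc, d, hd, hs⟩ := exists_of_card_four h3
  obtain ⟨a', a1⟩ := hdeg a ha
  obtain ⟨b', b1⟩ := hdeg b hb
  obtain ⟨c', c1⟩ := hdeg c hc
  obtain ⟨d', d1⟩ := hdeg d hd
  obtain ⟨m, hm⟩ := exists_mod_four h le_top hG.one (h4 a ha).mem_ZIrr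
  rw [h6, Finset.sum_apply, hs, a1, b1, c1, d1] at s3
  rw [q1, Finset.sum_apply, hs] at s4
  rw [q2, Finset.sum_apply, hs] at s5
  simp only [Pi.smul_apply, smul_eq_mul, a1, b1, c1, d1] at s4 s5
  rw [hs] at s2 s6 s7
  rw [hs, ht a ha, ht b hb, ht c hc, ht d hd, a1, b1, c1, d1] at h7
  rw [a1, ht a ha] at hm
  have hm' : a' + 3 * (1 + X 1 a + X 2 a) = 4 * m := by exact_mod_cast hm
  obtain ⟨z, hz, h9⟩ := num_sign (p1 a ha) (p1 b hb) (p1 c hc) (p1 d hd) (p2 a ha) (p2 b hb)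
    (p2 c hc) (p2 d hd) (by exact_mod_cast s6) (by exact_mod_cast s7) (by exact_mod_cast s2)
    (by exact_mod_cast s3) (by exact_mod_cast s4) (by exact_mod_cast s5) (by omega)
  obtain ⟨σ, h10, h11, h12, h13, h14⟩ :=
    exists_sigma hG h ((hl 0).B_ne_bot h (hl 1) (hinj.ne (by decide)))
  have h15 : ((𝐂[t]).relIndex ⊤ : ℚ) * (8 / z) = 8 * ((𝐂[s]).relIndex (Ut t) : ℚ) ^ 2 := by
    rw [← h9]
    exact_mod_cast h7
  obtain rfl := mul_left_cancel₀ (Nat.cast_ne_zero.2 (relIndex_ne_zero' _ _)) (h10.trans h15.symm)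
  rcases (by omega : z ≤ -1 ∨ z = 3 ∨ z = 7 ∨ z = 11 ∨ 15 ≤ z) with h16 | rfl | rfl | rfl | h16
  · have := (inv_ge_of_le (y := (z : ℚ)) one_pos (by exact_mod_cast h16)).1
    rw [show (8 : ℚ) / z = 8 * (1 / z) by ring] at h11
    linarith
  · norm_num at h12
  · exact h13 rfl
  · exact h14 rfl
  · have := (inv_le_of_le (y := (z : ℚ)) (c := 15) (by norm_num) (by exact_mod_cast h16)).2
    rw [show (8 : ℚ) / z = 8 * (1 / z) by ring] at h11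
    linarith

theorem exists_goodLin (h : Four t s) (hK : ⁅Ut t, zpowers s⁆ ⊓ 𝐂[s] = ⊥) {β : G → ℂ}
    (hβ : IsLin (Ut t ⊓ 𝐂[s]) β) : ∃ l, GoodLin t s l ∧ ∀ b ∈ Ut t ⊓ 𝐂[s], l b = β b := by
  have h1 : ⁅Ut t, zpowers s⁆ ≤ Ut t :=
    U4.comm_le_left (zpowers_le.2 (cent_le_norm_Ut t h.s_cent))
  have h2 : Ut t ≤ 𝐍(⁅Ut t, zpowers s⁆) := normalizer_commutator_ge_left _ _
  have h3 : cfker (Ut t ⊓ 𝐂[s]) β ≤ Ut t := cfker_le.trans inf_le_left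
  obtain ⟨l, h4, h5, h6⟩ := exists_lin_extend_ker (N := ⁅Ut t, zpowers s⁆ ⊔ cfker _ β) inf_le_left
    (sup_le h1 h3) (by
      have h7 := Cop.commutator_sup_centralizer (zpowers_le.2 (cent_le_norm_Ut t h.s_cent))
        (coprime_zpowers_inv h.os (odd_Ut t)) (Or.inr (solvable_Ut t))
      rw [U4.cent_zpowers] at h7
      have h8 := commutator_sup_self_le ((inf_le_left (b := 𝐂[s])).trans h2)
      rw [h7] at h8
      exact h8.trans (sup_le_sup_left hβ.commutator_le_cfker _)) hβ (by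
      rw [inf_comm, U4.dedekind (h3.trans h2) cfker_le, sup_le_iff]
      exact ⟨(inf_le_inf_left _ inf_le_right).trans (hK.le.trans bot_le), le_rfl⟩)
  exact ⟨l, ⟨h4, le_sup_left.trans h5⟩, fun b hb => by rw [← h6, cfRes_apply hb]⟩

omit [Fintype G] in
theorem B_eq_bot [Finite G] (hG : Simp4 G) (h : Four t s) (hK : ⁅Ut t, zpowers s⁆ ⊓ 𝐂[s] = ⊥) :
    Ut t ⊓ 𝐂[s] = ⊥ := by
  letI := Fintype.ofFinite G
  by_contra hB
  obtain ⟨β, h1, h2, -⟩ := exists_lin_ne_one (commutator_sup_lt_of_solvable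
    (solvable_of_odd (odd_card_of_le (odd_Ut t) inf_le_left)) (bot_lt_iff_ne_bot.2 hB)
    (le_normalizer_of_normal)) le_sup_left
  obtain ⟨d, ⟨-, hd⟩, e⟩ := hG.one.exists_norm_conj hG.e4 h le_top (t_mem_V t s) (s_mem_V t s)
    h.t1 h.s1
  have hnB := h.norm_le_norm_B hG.e4
  have hd' := hnB hd
  obtain ⟨l0, a0, b0⟩ := exists_goodLin h hK h1
  obtain ⟨l1, a1, b1⟩ := exists_goodLin h hK (h1.cfConjg (inv_mem hd'))
  obtain ⟨l2, a2, b2⟩ := exists_goodLin h hK (h1.cfConjg (inv_mem (mul_mem hd' hd')))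
  have c0 : ∀ b ∈ Ut t ⊓ 𝐂[s], l0 (d * b * d⁻¹) = l1 b := fun b hb => by
    rw [b0 _ (conj_mem_of_mem_normalizer hd' hb), b1 b hb, cfConjg_apply, inv_inv]
  have c1 : ∀ b ∈ Ut t ⊓ 𝐂[s], l1 (d * b * d⁻¹) = l2 b := fun b hb => by
    rw [b1 _ (conj_mem_of_mem_normalizer hd' hb), b2 b hb, cfConjg_apply, cfConjg_apply]
    simp only [mul_inv_rev, inv_inv, mul_assoc]
  have c2 : ∀ b ∈ Ut t ⊓ 𝐂[s], l2 (d * b * d⁻¹) = l0 b := fun b hb => by
    have h3 : d * d * d ∈ 𝐂[t] := U4.mem_cent1_of_conj_eq (by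
      rw [show d * d * d * t * (d * d * d)⁻¹ = d * (d * (d * t * d⁻¹) * d⁻¹) * d⁻¹ by group, e,
        h.conj_s hG.e4 hd e, ← conj_mul, e, h.conj_s hG.e4 hd e, ← mul_assoc, ← h.comm, mul_assoc,
        h.ss, mul_one])
    rw [b2 _ (conj_mem_of_mem_normalizer hd' hb), cfConjg_apply, ← (a0.mem_CF hG.e4 h).2 _ h3 b,
      b0 _ (conj_mem_of_mem_normalizer (mul_mem (mul_mem hd' hd') hd') hb)]
    simp only [mul_inv_rev, inv_inv, mul_assoc]
  by_cases h01 : l0 = l1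
  · refine h2 (funext fun b => ?_)
    by_cases hb : b ∈ Ut t ⊓ 𝐂[s]
    swap
    · rw [h1.mem_CF.1 b hb, cf1_apply_of_notMem hb]
    rw [← b0 b hb, a0.eq_one_of_invariant hG h fun n hn => h.norm_induction hG.e4 hd e
      (P := fun n => ∀ b ∈ Ut t ⊓ 𝐂[s], l0 (n * b * n⁻¹) = l0 b)
      (fun c hc b _ => (a0.mem_CF hG.e4 h).2 c hc b) (fun n hn h3 b hb => ?_) hn,
      cf1_apply hb.1, cf1_apply hb]
    rw [← h3 b hb, show d * n * b * (d * n)⁻¹ = d * (n * b * n⁻¹) * d⁻¹ by group,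
      c0 _ (conj_mem_of_mem_normalizer (hnB hn) hb), h01]
  have h20 : l2 ≠ l0 := fun e' => h01 (a0.eq_of_eq_on_B h a1 fun b hb => by
    rw [← c0 b hb, ← c2 b hb, e'])
  have h12 : l1 ≠ l2 := fun e' => h20 (a2.eq_of_eq_on_B h a0 fun b hb => by
    rw [← c1 b hb, ← c2 b hb, e'])
  refine three_false hG h hd e (l := ![l0, l1, l2]) (fun i => by fin_cases i <;> assumption)
    (fun i j hij => ?_) fun i => by fin_cases i <;> assumption
  fin_cases i <;> fin_cases j <;> first | rfl | exact absurd hij ‹_› | exact absurd hij.symm ‹_›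

end CfsgLib.GW
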