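import Cfsg.Agent.Lib.GW.CountA

/-!
# The first counting argument

`M = N(X)`, `U = Ut t`, `B = C_U(s)`, `z = orderOf k`, `e = |U : N_U(X)| ≥ 2`, `i = |G : C(t)|`
the number of involutions, `I = |L : C_L(t)| ≥ (4z-1)(2z-1)` the number of involutions of `L`;
these are the involutions centralizing `X`.
* `U ⊓ M = ⟨k⟩ B`, `⟨k⟩ ⊓ B = 1` (`exists_cent_mul_inv`, `mem_of_inverted`), so
  `|U : B| = e z` and `i ≤ 15 e² z²` (`index_le`).
* A four-group centralizes exactly one conjugate of `X` (Sylow in `C(X)`, `N(S) ≤ M`); an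
  involution centralizes exactly `e` conjugates (those centralized by `t` are the `X^u`,
  `u ∈ U`).  With `n = |G : M|`: `n I = e i`.
* Two distinct conjugates of `X` are centralized by at most one common involution (`hpair`).
  Counting the conjugates sharing an involution with `X`: `(e - 1) I < n`.
* So `(e - 1) I² < 15 e³ z²` with `2 ≤ e ≤ z`, `z` odd, `I ≥ 55 z² / 9`: absurd.
-/

set_option autoImplicit false

namespace CfsgLib.GW

open Subgroup Cfsg CfsgLib.FT.BGN CfsgLib.FT.U4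
open scoped commutatorElement

universe u

variable {G : Type*} [Group G] [Finite G]

theorem count1_arith {e z b I n i : ℕ} (he : e ≤ z) (he0 : e ≠ 0) (he1 : e ≠ 1) (hz : Odd z)
    (hb : b ≤ e * z) (hc : I * (e - 1) ≤ n) (hi : i ≤ 15 * b ^ 2) (hn : n * I = i * e)
    (hI : (4 * z - 1) * (2 * z - 1) ≤ I) : False := by
  obtain ⟨f, rfl⟩ : ∃ f, e = f + 2 := ⟨e - 2, by omega⟩
  obtain ⟨w, rfl⟩ : ∃ w, z = w + 3 := ⟨z - 3, by obtain ⟨m, hm⟩ := hz; omega⟩
  have h1 : 6 * (w + 3) ^ 2 ≤ I := by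
    refine le_trans ?_ hI
    have e1 : 4 * (w + 3) - 1 = 4 * w + 11 := by omega
    have e2 : 2 * (w + 3) - 1 = 2 * w + 5 := by omega
    rw [e1, e2]; nlinarith
  have e3 : f + 2 - 1 = f + 1 := rfl
  rw [e3] at hc
  have h2 : I * (f + 1) * I ≤ 15 * ((f + 2) * (w + 3)) ^ 2 * (f + 2) := by
    calc I * (f + 1) * I ≤ n * I := Nat.mul_le_mul_right _ hc
      _ = i * (f + 2) := hn
      _ ≤ _ := by gcongr; exact hi.trans (by gcongr)
  have h3 : 6 * (w + 3) ^ 2 * (f + 1) * (6 * (w + 3) ^ 2) ≤ I * (f + 1) * I := by gcongr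
  have h4 : 15 * ((f + 2) * (w + 3)) ^ 2 * (f + 2) ≤ 15 * ((w + 3) * (w + 3)) ^ 2 * (f + 2) := by
    gcongr
  have h5 := (h3.trans h2).trans h4
  have h6 : 0 < (w + 3) ^ 4 := by positivity
  have e4 : 6 * (w + 3) ^ 2 * (f + 1) * (6 * (w + 3) ^ 2) = (w + 3) ^ 4 * (36 * (f + 1)) := by ring
  have e5 : 15 * ((w + 3) * (w + 3)) ^ 2 * (f + 2) = (w + 3) ^ 4 * (15 * (f + 2)) := by ring
  rw [e4, e5] at h5
  have := Nat.le_of_mul_le_mul_left h5 h6
  omega

theorem count1 (hG : Simp4 G) {X L : Subgroup G} {t s k : G} (h : EData X L t s k)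
    (hN : 𝐍(V t s) ≤ 𝐍(X)) (he : (𝐍(X)).relIndex (Ut t) ≤ orderOf k) (he2 : ¬ Ut t ≤ 𝐍(X))
    (hpair : ∀ u ∈ Ut t, u ∉ 𝐍(X) → 𝐂(X) ⊓ 𝐂(u •ᶜ X) ≤ 𝐂[t]) : False := by
  classical
  have h4 := h.four
  have hE := hG.e4
  have hL := h.L_le
  have hVC : V t s ≤ 𝐂(X) := h.V_le_L.trans h.cent
  -- `|U : B| ≤ e z`
  have hB : (𝐂[s]).relIndex (Ut t) ≤ (𝐍(X)).relIndex (Ut t) * orderOf k := by
    have h1 : Ut t ⊓ 𝐂[s] ≤ Ut t ⊓ 𝐍(X) := fun b hb =>
      ⟨hb.1, hN (cent_le_norm _ ((h4.mem_B hE).1 hb).1)⟩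
    have h2 : (𝐂[s]).relIndex (Ut t ⊓ 𝐍(X)) = (𝐂[s]).relIndex (zpowers k) := by
      refine relIndex_eq_of_mul (le_inf (h.psl.k_le_U hE h4.ot) (h.psl.k_le.trans hL))
        fun x hx => ?_
      have hs : s ∈ 𝐍(Ut t ⊓ 𝐍(X)) := H1.le_normalizer_inf (H := zpowers s)
        (zpowers_le.2 (cent_le_norm_Ut t h4.s_cent))
        (zpowers_le.2 (le_normalizer (hL h.smem))) (mem_zpowers s)
      obtain ⟨c, hc, i, hi, hsi, e⟩ := exists_cent_mul_inv h4.ss
        (odd_card_of_le (odd_Ut t) inf_le_left) hs (inv_mem hx)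
      have hiL : i ∈ L := mem_of_inverted (odd_of_mem_Ut hi.1) hsi h.smem (h.norm hi.2)
      refine ⟨i⁻¹, inv_mem ((h.psl.mem_iff hE h4.ot).2 ⟨hiL, hi.1⟩), c⁻¹, inv_mem hc.2, ?_⟩
      rw [← mul_inv_rev, ← e, inv_inv]
    have h3 := relIndex_mul_relIndex (Ut t ⊓ 𝐂[s]) (Ut t ⊓ 𝐍(X)) (Ut t) h1 inf_le_left
    rw [inf_relIndex_left, inf_relIndex_left] at h3
    have h5 : (Ut t ⊓ 𝐂[s]).relIndex (Ut t ⊓ 𝐍(X)) = (𝐂[s]).relIndex (Ut t ⊓ 𝐍(X)) := by
      rw [← inf_relIndex_right (Ut t ⊓ 𝐂[s]), ← inf_relIndex_right 𝐂[s]]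
      congr 1
      ext x; simp only [mem_inf]; tauto
    rw [← h3, h5, h2, mul_comm, ← Nat.card_zpowers]
    exact Nat.mul_le_mul_left _ (Nat.le_of_dvd Nat.card_pos (relIndex_dvd_card _ _))
  -- two distinct conjugates are centralized by at most one common involution
  have key : ∀ u ∈ Ut t, u ∉ 𝐍(X) → ∀ v, orderOf v = 2 → v ∈ 𝐂(X) → v ∈ 𝐂(u •ᶜ X) → v = t := by
    intro u hu huM v hv h1 h2
    by_contra hne
    have hvt : v ∈ 𝐂[t] := hpair u hu huM ⟨h1, h2⟩
    have h4' : Four t v := ⟨h4.ot, hv, mem_cent1'.1 hvt, Ne.symm hne⟩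
    have ht : t ∈ 𝐂(X) := hVC (t_mem_V t s)
    obtain ⟨a, ha, ea⟩ := h4.exists_conj_eq hE h4' hVC (V_le ht h1)
    have hle : V (u⁻¹ * t * u⁻¹⁻¹) (u⁻¹ * v * u⁻¹⁻¹) ≤ 𝐂(X) := by
      rw [V_conj, conj_le_iff, inv_inv, ← cent_conj]
      refine V_le ?_ h2
      rw [cent_conj, ← conj_eq_of_mem_cent1 (Ut_le t hu)]
      exact conj_mem_map_conj ht
    obtain ⟨b, hb, eb⟩ := h4.exists_conj_eq hE (h4'.conj u⁻¹) hVC hle
    have : b * u⁻¹ * a⁻¹ ∈ 𝐍(V t s) := by
      refine mem_normalizer_of_map_conj_eq ?_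
      rw [conj_mul, conj_mul, ← ea, conj_inv_conj, ← V_conj, eb, ea]
    have h3 := mul_mem (mul_mem (inv_mem (cent_le_norm X hb)) (hN this)) (cent_le_norm X ha)
    refine huM ?_
    have e : b⁻¹ * (b * u⁻¹ * a⁻¹) * a = u⁻¹ := by group
    rw [e] at h3
    exact (Subgroup.inv_mem_iff _).1 h3
  -- `I (e - 1) ≤ n`
  have hcount : (𝐂[t]).relIndex L * ((𝐍(X)).relIndex (Ut t) - 1) ≤ (𝐍(X)).index := by
    let A := L ⧸ (𝐂[t]).subgroupOf L
    let B := Ut t ⧸ (𝐍(X)).subgroupOf (Ut t)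
    let f : A × {b : B // b ≠ ((1 : Ut t) : B)} → G ⧸ 𝐍(X) :=
      fun q => (((q.1.out : L) : G) * ((q.2.1.out : Ut t) : G) : G)
    have hout : ∀ b : B, b ≠ ((1 : Ut t) : B) → ((b.out : Ut t) : G) ∉ 𝐍(X) := by
      intro b hb hm
      refine hb ?_
      rw [← QuotientGroup.out_eq' b, QuotientGroup.eq, mem_subgroupOf]
      simpa using hm
    have hf : Function.Injective f := by
      rintro ⟨a, b, hb⟩ ⟨a', b', hb'⟩ e
      simp only [f] at e
      rw [QuotientGroup.eq] at e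
      set l := ((a.out : L) : G)
      set l' := ((a'.out : L) : G)
      set u := ((b.out : Ut t) : G)
      set u' := ((b'.out : Ut t) : G)
      have hl : l ∈ L := a.out.2
      have hl' : l' ∈ L := a'.out.2
      have hu : u ∈ Ut t := b.out.2
      have hu' : u' ∈ Ut t := b'.out.2
      have ht : t ∈ 𝐂(X) := h.cent h.tmem
      have h1 : l⁻¹ * l' * t * (l⁻¹ * l')⁻¹ = t := by
        refine key u hu (hout b hb) _ (by rw [orderOf_conj, h4.ot])
          (h.cent (mul_mem (mul_mem (mul_mem (inv_mem hl) hl') h.tmem)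
            (inv_mem (mul_mem (inv_mem hl) hl')))) ?_
        have e1 : u •ᶜ X = (l⁻¹ * l') •ᶜ (u' •ᶜ X) := by
          rw [← conj_mul]
          conv_lhs => rw [← conj_norm e, ← conj_mul]
          congr 3
          group
        rw [e1, cent_conj]
        refine conj_mem_map_conj ?_
        rw [cent_conj, ← conj_eq_of_mem_cent1 (Ut_le t hu')]
        exact conj_mem_map_conj ht
      have h2 : a = a' := by
        rw [← QuotientGroup.out_eq' a, ← QuotientGroup.out_eq' a', QuotientGroup.eq,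
          mem_subgroupOf]
        exact mem_cent1_of_conj_eq h1
      subst h2
      have h3 : b = b' := by
        rw [← QuotientGroup.out_eq' b, ← QuotientGroup.out_eq' b', QuotientGroup.eq,
          mem_subgroupOf]
        have : (l * u)⁻¹ * (l * u') = u⁻¹ * u' := by group
        rw [this] at e
        exact e
      subst h3
      rfl
    have := Nat.card_le_card_of_injective f hf
    rw [Nat.card_prod] at this
    have h2 : Nat.card {b : B // b ≠ ((1 : Ut t) : B)} = Nat.card B - 1 := by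
      haveI := Fintype.ofFinite B
      simp
    rw [h2] at this
    exact this
  have hi := index_le hG h4
  have hnI := h.index_eq hE
  have hI := h.psl.index_ge
  have he1 : (𝐍(X)).relIndex (Ut t) ≠ 1 := fun e => he2 (relIndex_eq_one.1 e)
  have he0 : (𝐍(X)).relIndex (Ut t) ≠ 0 := index_ne_zero_of_finite
  have hodd := h.psl.odd_k
  generalize (𝐍(X)).relIndex (Ut t) = e at *
  generalize (𝐂[t]).relIndex L = I at *
  generalize (𝐍(X)).index = n at *
  generalize (𝐂[t]).index = i at *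
  generalize (𝐂[s]).relIndex (Ut t) = b at *
  generalize orderOf k = z at *
  exact count1_arith he he0 he1 hodd hB hcount hi hnI hI

end CfsgLib.GW
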