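import Cfsg.Agent.Lib.GW.Struct
import Cfsg.Agent.Lib.GW.CountD

/-!
# The second counting argument

Notation as in `Mixed`; `U = Ut t`, `N = C(t)`, `z = orderOf k`, `W = ⟨x, y⟩`,
`M = N(⟨y⟩) = C(y) = ⟨y⟩ × L`, `C_U(y) = ⟨y⟩⟨k⟩`, `p ∣ z`, `p` odd, `|C_L(t)| = 4 z`.
An element of `L` of prime order dividing `z` is `L`-conjugate into `⟨k⟩` (Sylow:
`I = |L : C_L(t)| ≡ 1 mod z`).

**Lemma R.**  No `q`-group `Q ≠ 1` (`q` prime, `q ∤ 2z`) is normalized by `c` and by a four-group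
`⟨t, s'⟩` with `C_Q(c) = 1`.  For `C_Q(t) ≤ U ≤ C(c)` is trivial, `t` inverts `Q`; replace `Q` by
`Ω₁(Q) = C_Q(s') C_Q(ts')`.  An elementary abelian `q`-subgroup of `U` (so of any `C(u)`, `u` an
involution) is cyclic (else `W ≤ ⟨c⟩` by `wcent` and
`Cop.le_of_centralizer_le_of_not_isCyclic`), and if nontrivial then `q ∣ e < p`.  So
`|Q| ∈ {q, q²}` and `p ∣ q² - 1` (`H1.card_modEq_card_inf_centralizer_elem`), absurd.

**Counting.**  The conjugates of `y` commuting with `y` are `y` and the `y l`, `l ∈ L` of order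
`p` (`y^a c^j` is conjugate to `y^a` under `⟨x⟩`; `y` is not real).  Call the set of the latter
`Γ(y)`, `v = |Γ(y)| ≥ (p-1) I`.  Count paths of length two from `y` in the commuting graph on
the class of `y` (size `n = i p e / I`, `i = |G : N| ≤ 15 (z p e)²`): a neighbour of `y` has at
most `p - 1` common neighbours with `y`.  If every non-neighbour had at most one, then
`v² ≤ v p + n`, which is false (`e < p ≤ z`, `I ≥ 55 z² / 9`).  So some conjugate `y''` of `y`,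
not commuting with `y`, centralizes `y c₁ ≠ y c₂`.  Then `⟨c₁⟩ ≠ ⟨c₂⟩`, `c₁, c₂` do not commute,
and `y''` centralizes `J' ≠ 1`, `J = ⟨c₁, c₂⟩ ≤ L`.  `|J'|` is prime to `2z`: otherwise (after
conjugating by `L`) `y, y'' ∈ N`, so `y, y'' ∈ P`, `1 ≠ [y, y''] ∈ ⟨c⟩` is centralized by
`c₁, c₂`, which then lie in `⟨k⟩`.  Let `T = O_l(J') ≠ 1`; conjugating by `L`, `c ∈ ⟨c₁⟩` and
`T ≤ R` (`PslAt.rad`, conjugate by `s` if needed).

**(K)** For `1 ≠ T ≤ R` normalized by `c`: `X = C(T)` has odd order (else `4 ∣ |N(T)|`, Lemma R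
for `O_q(T)`), `C_U(T) = ⟨y⟩` (`D = C_U(T)` meets `⟨k⟩` trivially, `D ⊓ P = ⟨y⟩ ⊴ D`), `⟨y⟩` is
Sylow in `X` (take a Sylow subgroup `P₁ ≥ ⟨y, c⟩` of `X⟨c⟩`; `Z(P₁) ⊓ X ≤ C_X(c) ≤ ⟨y⟩`, and
`C_X(y) = ⟨y⟩ R`), so by Burnside `X = O ⋊ ⟨y⟩`; `O` is inverted by `t`, `C_O(c) = 1`,
`R ≤ O`.  Consequently `O` is the same group for all such `T` (compare with `T = R`).

**End.**  `y'' ∈ X`, so `y` does not centralize `O`, and `⟨y, c⟩` acting on `O` gives
`w = x^m`, `p ∤ m`, with `C_O(w y w⁻¹) ≠ 1`.  A nontrivial Sylow subgroup of it, conjugated by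
`w⁻¹`, lies in `L`, hence in `R` or `R^s`; by (K), `O ≤ O^g` for `g = w` or `g = w s`.  Let
`q ∣ |R|`, `Q = O_q(O)`.  If `g = w s` (an involution `≠ t` of `N`) Lemma R applies to `Q`.
If `g = w`, then `⟨x, c⟩` acts on `Q` and, conjugating by `y`, `Q₁ = C_Q(x) ≠ 1`.  Put
`M' = N(⟨x⟩) ∋ t, s, c`.  It is not of type E (`s` inverts `x ∈ O(M')`), so `C_{M'}(F') ≤ F'`
(`dichotomy`).  But `t` centralizes every `O_r(M')`: `r = 2` clear; `r ∣ z` by
`Cop.commutator_eq_bot_of_pxq` for `⟨a⟩ × ⟨t⟩`, `a ∈ ⟨k⟩` of order `r`; and `O_r(M') = 1` for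
`r ∤ 2z` by Lemma R and `wcent`.  So `t ∈ O₂(M')`, impossible as `t` inverts `Q₁ ≤ M'`.
-/

set_option autoImplicit false

namespace CfsgLib.GW

open Subgroup Cfsg CfsgLib.FT.BGN CfsgLib.FT.U4
open scoped commutatorElement

universe u

variable {G : Type u} [Group G] [Finite G]

namespace Mixed

variable {L P : Subgroup G} {t s k x y c : G} {p e : ℕ} (h : Mixed L P t s k x y c p e)
include h

theorem cent_fit (hG : Simp4 G) : fittingOf 𝐍(zpowers x) ≤ 𝐂[t] := by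
  have hE := hG.e4
  have h4 := h.ed.four
  have hcx : 𝐂[x] ≤ 𝐍(zpowers x) := cent_zpowers x ▸ cent_le_norm _
  have ht : t ∈ 𝐍(zpowers x) := hcx (mem_cent1_comm.1 (Ut_le t h.xU))
  have hs : s ∈ 𝐍(zpowers x) := (inverts_zpowers h.sx).mem_norm
  refine H1.fittingOf_le_of_forall fun r hr => ?_
  have hn := H1.le_normalizer_pCoreOf (p := r) 𝐍(zpowers x)
  have hQ := H1.pCoreOf_isPGroup (p := r) 𝐍(zpowers x)
  by_cases h2 : r = 2
  · subst h2
    exact (h4.le_V hE hQ ((V_le ht hs).trans hn)).trans h4.V_le_cent1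
  by_cases hz : r ∣ orderOf k
  · obtain ⟨A, hA, hc⟩ := exists_card_prime_zpowers hr.out hz
    have hA1 : A ≠ ⊥ := ne_bot_of_card_prime (hc ▸ hr.out)
    obtain ⟨a, ha, ha1⟩ := exists_ne_one hA1
    have hAU := hA.trans (h.ed.psl.k_le_U hE h4.ot)
    have := Cop.commutator_eq_bot_of_pxq (p := r) (P := A) (Q := zpowers t)
      (isPGroup_of_card_eq hc) hQ
      (by rw [card_zpowers_inv h4.ot]
          exact (Nat.coprime_primes Nat.prime_two hr.out).2 (Ne.symm h2))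
      (fun g hg => hn (hcx (mem_cent1_comm.1 (h.U_le (hA hg) h.xU)))) (zpowers_le.2 (hn ht))
      (by rw [commutator_eq_bot_iff_le_centralizer, cent_zpowers]; exact hAU.trans (Ut_le t))
      (by rw [cent_zpowers]
          exact inf_le_right.trans ((cent_le_cent1 ha).trans (h.cent_k (hA ha) ha1)))
    rwa [commutator_eq_bot_iff_le_centralizer, cent_zpowers] at this
  · rw [h.lemmaR hG hr.out h2 hz hQ h4 (hn ht) (hn hs) (hn (hcx h.cx)) ?_]
    · exact bot_le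
    refine eq_bot_of_forall fun b hb => ?_
    by_contra hb1
    have ho := odd_card_of_isPGroup hr.out h2 hQ
    have hbU : b ∈ Ut t := (mem_Ut hE h4.ot).2
      ⟨mem_cent1.1 (h.cent_k h.cmem h.c1 hb.2), odd_orderOf_of_mem ho hb.1⟩
    obtain ⟨n, hn'⟩ := hQ ⟨b, hb.1⟩
    have hbo : orderOf b ∣ r ^ n :=
      orderOf_dvd_of_pow_eq_one (by simpa using congrArg Subtype.val hn')
    refine h.x_notMem_c (h.wcent b hbU hb1 (Nat.Coprime.coprime_dvd_left hbo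
      (((Nat.Prime.coprime_iff_not_dvd hr.out).2 hz).pow_left n))
      ⟨mem_sup_left (mem_zpowers x), ?_⟩)
    have h1 := H1.commutator_eq_bot_of_coprime (A := zpowers x) (B := pCoreOf r 𝐍(zpowers x))
      (le_normalizer.trans hn) (H1.pCoreOf_le _)
      (coprime_card_of_pgroups h.prime hr.out (h.ne_of_not_dvd hz).symm
        (isPGroup_of_card_eq (by rw [Nat.card_zpowers, h.ox])) hQ)
    rw [commutator_eq_bot_iff_le_centralizer] at h1
    exact cent_le_cent1 hb.1 (h1 (mem_zpowers x))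

omit h in
theorem eq_one_of_inverted {L P : Subgroup G} {t s k x y c : G} {p e : ℕ}
    (h : Mixed L P t s k x y c p e) (hG : Hyp G) {g : G} (hg : g ∈ 𝐂[x]) (ho : Odd (orderOf g))
    (hi : t * g * t⁻¹ = g⁻¹) : g = 1 := by
  have hE := hG.e4
  have h4 := h.ed.four
  have hcx : 𝐂[x] ≤ 𝐍(zpowers x) := cent_zpowers x ▸ cent_le_norm _
  have ht : t ∈ 𝐍(zpowers x) := hcx (mem_cent1_comm.1 (Ut_le t h.xU))
  have hs : s ∈ 𝐍(zpowers x) := (inverts_zpowers h.sx).mem_norm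
  have hxo : Odd (Nat.card (zpowers x)) := by rw [Nat.card_zpowers, h.ox]; exact h.odd_p
  have hM : 𝐍(zpowers x) ≠ ⊤ := hG.toSimp4.norm_ne_top' h4 (by simpa using h.x1)
    (solvable_of_odd hxo)
  rcases dichotomy hG hM with h1 | ⟨L', h1⟩
  · have h2 : t ∈ fittingOf 𝐍(zpowers x) := h1 ⟨ht, mem_cent.2 fun a ha =>
      mem_cent1.1 (h.cent_fit hG.toSimp4 ha)⟩
    have h3 : t ∈ pCoreOf 2 𝐍(zpowers x) := H1.le_pCoreOf_of_le_fittingOf (zpowers_le.2 h2)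
      (isPGroup_zpowers_inv h4.ot) (mem_zpowers t)
    have h5 : g * t * g⁻¹ ∈ pCoreOf 2 𝐍(zpowers x) :=
      conj_mem_of_mem_normalizer (H1.le_normalizer_pCoreOf _ (hcx hg)) h3
    have h6 := hE.mul_self_of_mem (H1.pCoreOf_isPGroup _) (mul_mem h5 (inv_mem h3))
    have h7 : g * t * g⁻¹ * t⁻¹ = g * g := by
      calc g * t * g⁻¹ * t⁻¹ = g * (t * g * t⁻¹)⁻¹ := by group
        _ = g * g := by rw [hi, inv_inv]
    rw [h7] at h6
    refine eq_one_of_odd_of_mul_self ho (eq_one_of_odd_of_mul_self ?_ h6)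
    rw [← pow_two]
    exact ho.of_dvd_nat (orderOf_pow_dvd 2)
  · have h2 : x ∈ Od 𝐍(zpowers x) := le_Od le_normalizer le_rfl hxo (mem_zpowers x)
    exact absurd (eq_one_of_inv_of_comm (h.ox ▸ h.odd_p) h.sx
      (mem_cent.1 (h1.cent (h1.inv_mem s hs h4.os)) x h2)) h.x1

end Mixed

theorem mixed_false (hG : Hyp G) {L P : Subgroup G} {t s k x y c : G} {p e : ℕ}
    (h : Mixed L P t s k x y c p e) : False := by
  have hS := hG.toSimp4
  have hE := hG.e4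
  have h4 := h.ed.four
  obtain ⟨R, hR⟩ := h.ed.psl.exists_rad
  obtain ⟨y', T₀, hy', hT₀1, hT₀, hcT₀, hyT₀⟩ := h.exists_T hS hR
  have hR1 : R ≠ ⊥ := fun e1 => hT₀1 (le_bot_iff.1 (e1 ▸ hT₀))
  obtain ⟨O, hRO, hOo, hOp, hOi, hOc, hcO, hyO, hK⟩ := h.exists_O hS hR hR1
  have hOnil : Group.IsNilpotent O := isNilpotent_of_comm hOi.isMulCommutative
  have hcop : ∀ {A Q : Subgroup G}, IsPGroup p A → Q ≤ O → (Nat.card A).Coprime (Nat.card Q) := by
    intro A Q hA hQ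
    have := Fact.mk h.prime
    obtain ⟨n, hn⟩ := IsPGroup.iff_card.1 hA
    rw [hn]
    exact ((Nat.Coprime.coprime_dvd_left (card_dvd_of_le hQ) hOp).symm).pow_left n
  have hcc : ∀ a ∈ zpowers c, a ≠ 1 → O ⊓ 𝐂[a] = ⊥ := fun a ha h1 => by
    rw [← cent_zpowers, h.zpowers_eq_c ha h1, cent_zpowers, hOc]
  -- the element `w`
  obtain ⟨c', hc', hc'1, hne⟩ : ∃ c' ∈ zpowers c, c' ≠ 1 ∧ O ⊓ 𝐂[y * c'] ≠ ⊥ := by
    by_contra hcon
    push Not at hcon
    refine hy' (le_trans (hK T₀ hT₀1 hT₀ hcT₀).2 (sup_le ?_ (zpowers_le_cent1 y)) hyT₀)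
    refine Cop.le_of_centralizer_le_of_not_isCyclic (comm_sup_zpowers h.cy)
      (not_cyclic_sup h.oy h.oc (h.y_notMem_c hE))
      (sup_le (zpowers_le.2 hyO) (zpowers_le.2 hcO))
      (hcop (isPGroup_sup_zpowers h.oy h.oc h.cy) le_rfl) fun a ha h1 => ?_
    by_cases h2 : a ∈ zpowers c
    · rw [hcc a h2 h1]; exact bot_le
    obtain ⟨c', hc', h3⟩ := exists_mul_mem_zpowers (h.oy ▸ h.prime) h.cy ha h2
    by_cases h5 : c' = 1
    · rw [h5, mul_one] at h3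
      exact inf_le_right.trans (cent1_le_cent1 h3)
    · exact ((inf_le_inf_left _ (cent1_le_cent1 h3)).trans (hcon c' hc' h5).le).trans bot_le
  obtain ⟨w, hw, hwy⟩ := h.exists_conj_y hc'
  have hw1 : w ≠ 1 := by
    rintro rfl
    exact hc'1 (by simpa using hwy)
  have hwc : w ∈ 𝐂[c] := h.U_le h.cmem (zpowers_le.2 h.xU hw)
  -- the subgroup `T₁`
  obtain ⟨l, hl, hld⟩ := exists_prime_dvd_card hne
  have := Fact.mk hl
  have hnil : Group.IsNilpotent ↥(O ⊓ 𝐂[y * c']) :=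
    isNilpotent_of_comm (hOi.mono inf_le_left).isMulCommutative
  have hT₁ := sylow_pcore_of_nil hnil l
  have hcT₁ : c ∈ 𝐍(piCoreOf {l} (O ⊓ 𝐂[y * c'])) := by
    refine norm_le_norm_pcore _ _ (mem_norm_inf hcO (mem_norm_cent1 ?_))
    rw [mem_cent1_comm]
    exact mul_mem (mem_cent1_comm.1 h.cy) (zpowers_le_cent1 c hc')
  have hT₁1 := hT₁.ne_bot hld
  generalize piCoreOf {l} (O ⊓ 𝐂[y * c']) = T₁ at hT₁ hcT₁ hT₁1
  have hT₁O : T₁ ≤ O := hT₁.le.trans inf_le_left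
  have hconj : ∀ g : G, ∀ a ∈ g •ᶜ O, (orderOf a).Coprime p := by
    rintro g _ ⟨a, ha, rfl⟩
    exact Nat.Coprime.coprime_dvd_left (by
      rw [← card_map_conj g O]; exact orderOf_dvd_natCard _ (mem_map_of_mem _ ha)) hOp
  have hT₂L : w⁻¹ •ᶜ T₁ ≤ L := by
    intro a ha
    refine h.mem_L_of_coprime hE ?_ (hconj _ a (map_mono hT₁O ha))
    have h1 : w⁻¹ •ᶜ T₁ ≤ 𝐂[y] := by
      rw [← le_conj_iff, ← cent1_conj, hwy]
      exact hT₁.le.trans inf_le_right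
    exact h1 ha
  have hcw : w⁻¹ * c * w⁻¹⁻¹ = c := conj_eq_of_mem_cent1 (inv_mem hwc)
  have hcT₂ : c ∈ 𝐍(w⁻¹ •ᶜ T₁) := by
    rw [norm_conj, ← hcw]
    exact conj_mem_map_conj hcT₁
  have hT₂c : (w⁻¹ •ᶜ T₁) ⊓ 𝐂[c] = ⊥ := by
    rw [← hcw, cent1_conj, ← map_conj_inf, conj_eq_bot_iff, eq_bot_iff, ← hOc]
    exact inf_le_inf_right _ hT₁O
  have hl2 : l ≠ 2 := by
    rintro rfl
    exact Nat.not_even_iff_odd.2 hOo
      (even_iff_two_dvd.2 (hld.trans (card_dvd_of_le inf_le_left)))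
  have hnorm : ∀ g : G, g⁻¹ •ᶜ T₁ ≤ R → c ∈ 𝐍(g⁻¹ •ᶜ T₁) → g ∈ 𝐍(O) := by
    intro g h1 h2
    refine (Subgroup.inv_mem_iff _).1 (mem_normalizer_of_conj_mem fun a ha => ?_)
    refine (hK _ (by rwa [Ne, conj_eq_bot_iff]) h1 h2).1 _ ?_ (hconj _ _ (conj_mem_map_conj ha))
    rw [cent_conj]
    exact conj_mem_map_conj (centralizer_le hT₁O (hOi.le_cent ha))
  -- the subgroup `Q`
  obtain ⟨q, hq, hqd⟩ := exists_prime_dvd_card hR1
  have := Fact.mk hq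
  have hq' : ¬ q ∣ 2 * orderOf k := fun h2 =>
    hq.one_lt.ne' (Nat.eq_one_of_dvd_coprimes hR.cop hqd h2)
  have hQ := sylow_pcore_of_nil hOnil q
  have hQn := norm_le_norm_pcore {q} O
  have hQ1 := hQ.ne_bot (hqd.trans (card_dvd_of_le hRO))
  generalize piCoreOf {q} O = Q at hQ hQn hQ1
  rcases hR.tr c h.cmem h.c1 l _ hl hl2 hT₂L (hT₁.isPGroup.map _) hcT₂ hT₂c with h1 | h1
  · have hxO : x ∈ 𝐍(O) := by
      have h2 := zpowers_eq_of_card_prime (X := zpowers x)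
        (by rw [Nat.card_zpowers, h.ox]; exact h.prime) hw hw1
      exact zpowers_le.2 (hnorm w h1 hcT₂) (h2 ▸ mem_zpowers x)
    obtain ⟨a, ha, ha1, h2⟩ := Cop.exists_centralizer_ne_bot_of_not_isCyclic
      (comm_sup_zpowers h.cx) (not_cyclic_sup h.ox h.oc h.x_notMem_c)
      (sup_le (zpowers_le.2 (hQn hxO)) (zpowers_le.2 (hQn hcO)))
      (hcop (isPGroup_sup_zpowers h.ox h.oc h.cx) hQ.le) hQ1
    have h3 : a ∉ zpowers c := fun h3 => h2 (by
      rw [eq_bot_iff, ← hcc a h3 ha1]; exact inf_le_inf_right _ hQ.le)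
    obtain ⟨c₂, hc₂, h5⟩ := exists_mul_mem_zpowers (h.ox ▸ h.prime) h.cx ha h3
    obtain ⟨b, hb, h6⟩ := h.exists_conj_x hc₂
    obtain ⟨g, hg, hg1⟩ := exists_ne_one h2
    have h7 : b⁻¹ * g * b ∈ O := conj_mem_of_mem_normalizer' (zpowers_le.2 hyO hb) (hQ.le hg.1)
    have h8 : b⁻¹ * g * b ∈ 𝐂[x] := by
      rw [← mem_map_conj_iff, ← cent1_conj, h6]
      exact cent1_le_cent1 h5 hg.2
    have h9 := h.eq_one_of_inverted hG h8 (odd_orderOf_of_mem hOo h7) (hOi _ h7)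
    refine hg1 ?_
    calc g = b * (b⁻¹ * g * b) * b⁻¹ := by group
      _ = 1 := by rw [h9]; group
  · have e1 : (w * s)⁻¹ •ᶜ T₁ = s⁻¹ •ᶜ (w⁻¹ •ᶜ T₁) := by rw [mul_inv_rev, conj_mul]
    have h2 := hnorm (w * s) (e1 ▸ le_conj_iff.1 h1) (e1 ▸ h.c_mem_norm_conj hcT₂)
    have hwU : w ∈ Ut t := zpowers_le.2 h.xU hw
    have h3 : w * s * (w * s) = 1 := by
      calc w * s * (w * s) = w * (s * w * s⁻¹) * (s * s) := by group
        _ = 1 := by rw [inverts_zpowers h.sx w hw, h4.ss]; group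
    have hwV : w ∉ V t s := fun h5 => hw1 (eq_one_of_mem_inf h4.Ut_inf_V hwU h5)
    have h4' : Four t (w * s) := by
      refine ⟨h4.ot, inv_of_mul_self h3 fun h5 => hwV ?_,
        mem_cent1'.1 (mul_mem (Ut_le t hwU) h4.s_cent), fun h5 => hwV ?_⟩
      · rw [eq_inv_of_mul_eq_one_left h5]; exact inv_mem (s_mem_V t s)
      · rw [← mul_inv_eq_iff_eq_mul.2 h5]; exact mul_mem (t_mem_V t s) (inv_mem (s_mem_V t s))
    refine hQ1 (h.lemmaR hS hq (fun e2 => hq' (e2 ▸ dvd_mul_right _ _))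
      (fun h5 => hq' (h5.mul_left 2)) hQ.isPGroup h4' (hQn hOi.mem_norm) (hQn h2) (hQn hcO) ?_)
    rw [eq_bot_iff, ← hOc]
    exact inf_le_inf_right _ hQ.le

end CfsgLib.GW
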