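import Cfsg.Agent.Lib.GW.Chars
import Cfsg.Agent.Lib.ClassCount

/-!
# Preliminaries for the counting arguments
-/

set_option autoImplicit false

namespace CfsgLib.GW

open Subgroup Cfsg CfsgLib.FT.BGN CfsgLib.FT.U4
open scoped commutatorElement

variable {G : Type*} [Group G]

theorem relIndex_eq_of_mul {H K M : Subgroup G} (hHK : H ≤ K)
    (h : ∀ x ∈ K, ∃ a ∈ H, ∃ m ∈ M, x = a * m) : M.relIndex K = M.relIndex H := by
  symm
  refine Nat.card_eq_of_bijective (quotientSubgroupOfEmbeddingOfLE M hHK)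
    ⟨(quotientSubgroupOfEmbeddingOfLE M hHK).injective, fun q => ?_⟩
  induction q using QuotientGroup.induction_on with
  | H x =>
    obtain ⟨a, ha, m, hm, e⟩ := h x x.2
    refine ⟨QuotientGroup.mk ⟨a, ha⟩, ?_⟩
    rw [quotientSubgroupOfEmbeddingOfLE_apply_mk, QuotientGroup.eq, mem_subgroupOf]
    simpa [e] using hm

theorem index_mul_relIndex_comm (H K : Subgroup G) :
    H.index * K.relIndex H = K.index * H.relIndex K := by
  have h1 := relIndex_mul_index (H := H ⊓ K) (K := H) inf_le_left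
  have h2 := relIndex_mul_index (H := H ⊓ K) (K := K) inf_le_right
  rw [inf_relIndex_left] at h1
  rw [inf_relIndex_right] at h2
  rw [mul_comm, h1, mul_comm, h2]

theorem conj_mul (g h : G) (H : Subgroup G) : (g * h) •ᶜ H = g •ᶜ (h •ᶜ H) := map_conj_mul g h H

theorem conj_norm {g : G} {H : Subgroup G} (hg : g ∈ 𝐍(H)) : g •ᶜ H = H :=
  map_conj_eq_of_mem_normalizer hg

theorem cent_conj (g : G) (H : Subgroup G) : 𝐂(g •ᶜ H) = g •ᶜ 𝐂(H) := centralizer_map_conj g H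

theorem norm_conj (g : G) (H : Subgroup G) : 𝐍(g •ᶜ H) = g •ᶜ 𝐍(H) := normalizer_map_conj g H

theorem conj_inv_conj (g : G) (H : Subgroup G) : g⁻¹ •ᶜ (g •ᶜ H) = H := map_conj_inv_map_conj g H

theorem conj_conj_inv (g : G) (H : Subgroup G) : g •ᶜ (g⁻¹ •ᶜ H) = H := map_conj_map_conj_inv g H

variable [Finite G]

namespace PslAt

variable {L : Subgroup G} {t s k : G} (h : PslAt L t s k)
include h

omit [Finite G] in
theorem odd_k : Odd (orderOf k) := ((h.mem k).1 (mem_zpowers k)).2.2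

omit [Finite G] in
theorem k_le : zpowers k ≤ L := fun x hx => ((h.mem x).1 hx).1

theorem mem_iff (hG : E4 G) (ht : orderOf t = 2) {x : G} : x ∈ zpowers k ↔ x ∈ L ∧ x ∈ Ut t := by
  rw [h.mem, mem_Ut hG ht]

theorem k_le_U (hG : E4 G) (ht : orderOf t = 2) : zpowers k ≤ Ut t :=
  fun _ hx => ((h.mem_iff hG ht).1 hx).2

omit [Finite G] in
theorem inverts : Inverts s (zpowers k) := inverts_zpowers h.inv

/-- `I ≥ (4 z - 1) (2 z - 1)`. -/
theorem index_ge : (4 * orderOf k - 1) * (2 * orderOf k - 1) ≤ (𝐂[t]).relIndex L := by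
  obtain ⟨ε, hε, e⟩ := h.index
  have hz : 0 < orderOf k := orderOf_pos k
  have h1 : 1 ≤ 4 * orderOf k := by omega
  have h2 : 1 ≤ 2 * orderOf k := by omega
  zify [h1, h2]
  rw [e]
  rcases hε with rfl | rfl
  · nlinarith
  · exact le_of_eq (by ring)

omit [Finite G] in
theorem coprime_index : ((𝐂[t]).relIndex L).Coprime (orderOf k) := by
  obtain ⟨ε, hε, e⟩ := h.index
  rw [← Nat.isCoprime_iff_coprime, e]
  refine ⟨1, -(8 * orderOf k + 6 * ε), ?_⟩
  rcases hε with rfl | rfl <;> ring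

end PslAt

namespace EData

variable {X L : Subgroup G} {t s k : G} (h : EData X L t s k)
include h

omit [Finite G] in
theorem V_le_L : V t s ≤ L := V_le h.tmem h.smem

omit [Finite G] in
theorem L_le : L ≤ 𝐍(X) := h.cent.trans (cent_le_norm X)

omit [Finite G] in
/-- An involution of `N(X)` is conjugate to `t` in `L`. -/
theorem exists_conj {u : G} (hu : orderOf u = 2) (hM : u ∈ 𝐍(X)) : ∃ g ∈ L, g * t * g⁻¹ = u :=
  h.one t h.tmem u (h.inv_mem u hM hu) h.four.ot hu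

omit [Finite G] in
theorem relIndex_cent : (𝐂[t]).relIndex 𝐍(X) = (𝐂[t]).relIndex L := by
  refine relIndex_eq_of_mul h.L_le fun x hx => ?_
  obtain ⟨g, hg, e⟩ := h.exists_conj (u := x * t * x⁻¹) (by rw [orderOf_conj, h.four.ot])
    (mul_mem (mul_mem hx (h.L_le h.tmem)) (Subgroup.inv_mem _ hx))
  refine ⟨g, hg, g⁻¹ * x, mem_cent1_of_conj_eq ?_, by group⟩
  calc g⁻¹ * x * t * (g⁻¹ * x)⁻¹ = g⁻¹ * (x * t * x⁻¹) * g := by group
    _ = t := by rw [← e]; group

theorem relIndex_norm (hG : E4 G) : (𝐍(X)).relIndex 𝐂[t] = (𝐍(X)).relIndex (Ut t) := by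
  refine relIndex_eq_of_mul (Ut_le t) fun x hx => ?_
  obtain ⟨u, hu, v, hv, e⟩ := h.four.exists_mul hG hx
  exact ⟨u, hu, v, h.L_le (h.V_le_L hv), e.symm⟩

/-- `n I = i e`. -/
theorem index_eq (hG : E4 G) :
    (𝐍(X)).index * (𝐂[t]).relIndex L = (𝐂[t]).index * (𝐍(X)).relIndex (Ut t) := by
  rw [← h.relIndex_cent, ← h.relIndex_norm hG, index_mul_relIndex_comm]

theorem card_cent_L (hG : E4 G) : Nat.card ↥(𝐂[t] ⊓ L) = 4 * orderOf k := by
  have hc := IsComplIn.restrict (h.four.isComplIn hG) (L := 𝐂[t] ⊓ L)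
    (le_inf h.four.V_le_cent1 h.V_le_L) inf_le_left
  have e : Ut t ⊓ (𝐂[t] ⊓ L) = zpowers k := by
    ext x
    rw [h.psl.mem_iff hG h.four.ot]
    exact ⟨fun hx => ⟨hx.2.2, hx.1⟩, fun hx => ⟨hx.2, Ut_le t hx.2, hx.1⟩⟩
  rw [← IsComplIn.card_mul hc, e, h.four.card_V, Nat.card_zpowers, mul_comm]

/-- An `r`-element of `L`, `r ∣ z`, is conjugate in `L` to an element of `⟨k⟩`. -/
theorem exists_conj_mem (hG : E4 G) {r : ℕ} (hr : r.Prime) (hd : r ∣ orderOf k) {g : G}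
    (hg : g ∈ L) (ho : orderOf g = r) : ∃ l ∈ L, l * g * l⁻¹ ∈ zpowers k := by
  haveI := Fact.mk hr
  obtain ⟨S, hS⟩ := IsSylowIn.exists_in (p := r) (𝐂[t] ⊓ L)
  have hS' : IsSylowIn r S L := by
    refine ⟨hS.le.trans inf_le_right, hS.isPGroup, ?_⟩
    rw [← relIndex_mul_relIndex S (𝐂[t] ⊓ L) L hS.le inf_le_right, inf_relIndex_right]
    intro hdd
    rcases (Nat.Prime.dvd_mul hr).1 hdd with h1 | h1
    · exact hS.not_dvd h1
    · exact hr.one_lt.ne' (Nat.eq_one_of_dvd_coprimes h.psl.coprime_index h1 hd)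
  obtain ⟨l, hl, hle⟩ := hS'.exists_conj_le (Q := zpowers g)
    (isPGroup_of_card_eq (by rw [Nat.card_zpowers, ho])) (zpowers_le.2 hg)
  have hm := hS.le (hle (conj_mem_map_conj (mem_zpowers g)))
  refine ⟨l, hl, (h.psl.mem _).2 ⟨hm.2, mem_cent1.1 hm.1, ?_⟩⟩
  rw [orderOf_conj, ho]
  exact h.psl.odd_k.of_dvd_nat hd

end EData

end CfsgLib.GW
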