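import Cfsg.Agent.Lib.GW.CountA

/-!
# The configuration `Mixed`: first properties and Lemma R
-/

set_option autoImplicit false

namespace CfsgLib.GW

open Subgroup Cfsg CfsgLib.FT.BGN CfsgLib.FT.U4
open scoped commutatorElement

variable {G : Type*} [Group G]

/-- The elements of order dividing `q` of a commutative subgroup. -/
def omegaC (q : ℕ) (Q : Subgroup G) (h : Q ≤ 𝐂(Q)) : Subgroup G where
  carrier := {g | g ∈ Q ∧ g ^ q = 1}
  one_mem' := ⟨one_mem _, one_pow _⟩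
  mul_mem' := fun {a b} ha hb => ⟨mul_mem ha.1 hb.1, by
    have : Commute a b := mem_cent.1 (h hb.1) a ha.1
    rw [this.mul_pow, ha.2, hb.2, one_mul]⟩
  inv_mem' := fun {a} ha => ⟨inv_mem ha.1, by rw [inv_pow, ha.2, inv_one]⟩

theorem mem_omegaC {q : ℕ} {Q : Subgroup G} {h : Q ≤ 𝐂(Q)} {g : G} :
    g ∈ omegaC q Q h ↔ g ∈ Q ∧ g ^ q = 1 := Iff.rfl

theorem norm_le_norm_omegaC [Finite G] (q : ℕ) (Q : Subgroup G) (h : Q ≤ 𝐂(Q)) :
    𝐍(Q) ≤ 𝐍(omegaC q Q h) := fun g hg => mem_normalizer_of_conj_mem fun a ha =>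
  ⟨conj_mem_of_mem_normalizer hg ha.1, by rw [conj_pow, ha.2]; group⟩

theorem isMulCommutative_of_le_cent {Q : Subgroup G} (h : Q ≤ 𝐂(Q)) : IsMulCommutative Q :=
  ⟨⟨fun a b => Subtype.ext (mem_cent.1 (h b.2) a a.2)⟩⟩

theorem mem_norm_inf [Finite G] {g : G} {A B : Subgroup G} (h1 : g ∈ 𝐍(A)) (h2 : g ∈ 𝐍(B)) :
    g ∈ 𝐍(A ⊓ B) := mem_normalizer_of_conj_mem fun _ ha =>
  ⟨conj_mem_of_mem_normalizer h1 ha.1, conj_mem_of_mem_normalizer h2 ha.2⟩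

theorem mem_norm_cent1 {g a : G} (h : g ∈ 𝐂[a]) : g ∈ 𝐍(𝐂[a]) := le_normalizer h

/-- A power of an element of `⟨u, c⟩ \ ⟨c⟩` has the form `u c'`. -/
theorem exists_mul_mem_zpowers [Finite G] {u c a : G} (hu : (orderOf u).Prime) (hc : c ∈ 𝐂[u])
    (ha : a ∈ zpowers u ⊔ zpowers c) (ha' : a ∉ zpowers c) :
    ∃ c' ∈ zpowers c, u * c' ∈ zpowers a := by
  have hcc : zpowers c ≤ 𝐂(zpowers u) := by rw [cent_zpowers]; exact zpowers_le.2 hc
  obtain ⟨u', hu', c₀, hc₀, rfl⟩ :=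
    (mem_sup_iff_of_le_normalizer' (hcc.trans (cent_le_norm _))).1 ha
  have h1 : u' ≠ 1 := by
    rintro rfl
    exact ha' (by simpa using hc₀)
  have h2 := zpowers_eq_of_card_prime (X := zpowers u) (by rwa [Nat.card_zpowers]) hu' h1
  obtain ⟨n, hn⟩ : u ∈ zpowers u' := h2 ▸ mem_zpowers u
  have h3 : Commute u' c₀ := mem_cent.1 (hcc hc₀) u' hu'
  refine ⟨c₀ ^ n, zpow_mem hc₀ n, n, ?_⟩
  simp only at hn ⊢
  rw [h3.mul_zpow, hn]

theorem not_cyclic_sup [Finite G] {u c : G} {p : ℕ} (hu : orderOf u = p)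
    (hc : orderOf c = p) (h : u ∉ zpowers c) :
    ¬ IsCyclic ↥(zpowers u ⊔ zpowers c) := by
  intro hcy
  have := eq_of_le_cyclic hcy (X := zpowers u) (Y := zpowers c) le_sup_left le_sup_right
    (by rw [Nat.card_zpowers, Nat.card_zpowers, hu, hc])
  exact h (this ▸ mem_zpowers u)

theorem comm_sup_zpowers {u c : G} (hcu : c ∈ 𝐂[u]) :
    IsMulCommutative ↥(zpowers u ⊔ zpowers c) := by
  refine isMulCommutative_of_le_cent ?_
  rw [cent_sup, cent_zpowers, cent_zpowers]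
  exact sup_le (zpowers_le.2 ⟨self_mem_cent1 u, mem_cent1_comm.1 hcu⟩)
    (zpowers_le.2 ⟨hcu, self_mem_cent1 c⟩)

theorem isPGroup_sup_zpowers {u c : G} {p : ℕ} (hu : orderOf u = p)
    (hc : orderOf c = p) (hcu : c ∈ 𝐂[u]) : IsPGroup p ↥(zpowers u ⊔ zpowers c) := by
  refine H1.isPGroup_sup_of_le_normalizer (isPGroup_of_card_eq (by rw [Nat.card_zpowers, hu]))
    (isPGroup_of_card_eq (by rw [Nat.card_zpowers, hc])) ?_
  refine le_trans ?_ (cent_le_norm _)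
  rw [cent_zpowers]
  exact zpowers_le.2 (mem_cent1_comm.1 hcu)

variable [Finite G]

theorem coprime_card_of_pgroups {p q : ℕ} (hp : p.Prime) (hq : q.Prime) (hne : p ≠ q)
    {A B : Subgroup G} (hA : IsPGroup p A) (hB : IsPGroup q B) :
    (Nat.card A).Coprime (Nat.card B) := by
  haveI := Fact.mk hp
  haveI := Fact.mk hq
  exact IsPGroup.coprime_card_of_ne p q hne A B hA hB

namespace Mixed

variable {L P : Subgroup G} {t s k x y c : G} {p e : ℕ} (h : Mixed L P t s k x y c p e)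
include h

theorem odd_p : Odd p := h.ox ▸ odd_of_mem_Ut h.xU

theorem p_ne_two : p ≠ 2 := by
  intro e2
  have := h.odd_p
  rw [e2] at this
  exact absurd this (by decide)

theorem p_dvd : p ∣ orderOf k := h.oc ▸ orderOf_dvd_of_mem_zpowers h.cmem

omit [Finite G] in
theorem c1 : c ≠ 1 := fun e1 => h.prime.one_lt.ne' (by rw [← h.oc, e1, orderOf_one])

omit [Finite G] in
theorem y1 : y ≠ 1 := fun e1 => h.prime.one_lt.ne' (by rw [← h.oy, e1, orderOf_one])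

omit [Finite G] in
theorem x1 : x ≠ 1 := fun e1 => h.prime.one_lt.ne' (by rw [← h.ox, e1, orderOf_one])

omit [Finite G] in
theorem cL : c ∈ L := h.ed.psl.k_le h.cmem

omit [Finite G] in
theorem U_le {g : G} (hg : g ∈ zpowers k) : Ut t ≤ 𝐂[g] := h.kcent.trans (cent1_le_cent1 hg)

omit [Finite G] in
theorem cx : c ∈ 𝐂[x] := mem_cent1_comm.1 (h.U_le h.cmem h.xU)

omit [Finite G] in
theorem cy : c ∈ 𝐂[y] := mem_cent1_comm.1 (h.U_le h.cmem h.yU)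

omit [Finite G] in
theorem L_le : L ≤ 𝐂[y] := cent_zpowers y ▸ h.ed.cent

omit [Finite G] in
theorem norm_y : 𝐍(zpowers y) ≤ 𝐂[y] := by
  intro g hg
  obtain ⟨a, ha, l, hl, rfl⟩ := h.split g hg
  exact mul_mem (zpowers_le_cent1 y ha) (h.L_le hl)

omit [Finite G] in
theorem norm_y_eq : 𝐍(zpowers y) = 𝐂[y] :=
  le_antisymm h.norm_y (cent_zpowers y ▸ cent_le_norm _)

omit [Finite G] in
theorem split' {g : G} (hg : g ∈ 𝐂[y]) : ∃ a ∈ zpowers y, ∃ l ∈ L, g = a * l :=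
  h.split g (h.norm_y_eq ▸ hg)

omit [Finite G] in
theorem cent_le_norm_L : 𝐂[y] ≤ 𝐍(L) := h.norm_y_eq ▸ h.ed.norm

omit [Finite G] in
theorem cent_k {g : G} (hg : g ∈ zpowers k) (h1 : g ≠ 1) : 𝐂[g] ≤ 𝐂[t] :=
  le_trans (cent_zpowers g ▸ cent_le_norm _) (h.normk g hg h1)

omit [Finite G] in
theorem sc : s * c * s⁻¹ = c⁻¹ := h.ed.psl.inverts c h.cmem

theorem eq_one_of_y_L (hE : E4 G) {a : G} (ha : a ∈ zpowers y) (hl : a ∈ L) : a = 1 := by
  have hU : a ∈ Ut t := zpowers_le.2 h.yU ha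
  have hk := (h.ed.psl.mem_iff hE h.ed.four.ot).2 ⟨hl, hU⟩
  refine eq_one_of_inv_of_comm (odd_of_mem_Ut hU) (h.ed.psl.inverts a hk) ?_
  exact mem_cent.1 (h.ed.cent h.ed.smem) a ha

theorem mem_c {g : G} (hg : g ∈ zpowers k) (hp : g ^ p = 1) : g ∈ zpowers c := by
  by_cases h1 : g = 1
  · rw [h1]; exact one_mem _
  haveI := Fact.mk h.prime
  have := eq_of_le_cyclic (C := zpowers k) inferInstance (zpowers_le.2 hg) (zpowers_le.2 h.cmem)
    (by rw [Nat.card_zpowers, Nat.card_zpowers, h.oc, orderOf_eq_prime hp h1])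
  exact this ▸ mem_zpowers g

omit [Finite G] in
theorem x_notMem : x ∉ 𝐂[y] := by
  intro hx
  have h1 := h.rel
  rw [conj_eq_of_mem_cent1 hx] at h1
  exact h.c1 (by simpa using h1)

omit [Finite G] in
theorem x_notMem_c : x ∉ zpowers c := fun hx => h.x_notMem (zpowers_le.2 h.cy hx)

theorem y_notMem_c (hE : E4 G) : y ∉ zpowers c := fun hy =>
  h.y1 (h.eq_one_of_y_L hE (mem_zpowers y) (zpowers_le.2 h.cL hy))

theorem split_U (hE : E4 G) {g : G} (hU : g ∈ Ut t) (hg : g ∈ 𝐂[y]) :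
    ∃ a ∈ zpowers y, ∃ l ∈ zpowers k, g = a * l := by
  obtain ⟨a, ha, l, hl, rfl⟩ := h.split' hg
  refine ⟨a, ha, l, (h.ed.psl.mem_iff hE h.ed.four.ot).2 ⟨hl, ?_⟩, rfl⟩
  exact (Subgroup.mul_mem_cancel_left _ (zpowers_le.2 h.yU ha)).1 hU

theorem mem_L_of_coprime (hE : E4 G) {g : G} (hg : g ∈ 𝐂[y]) (hc : (orderOf g).Coprime p) :
    g ∈ L := by
  obtain ⟨a, ha, l, hl, rfl⟩ := h.split' hg
  have h1 : Commute a l := mem_cent.1 (h.ed.cent hl) a ha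
  have h2 := pow_orderOf_eq_one (a * l)
  rw [h1.mul_pow] at h2
  have h3 : a ^ orderOf (a * l) = 1 := h.eq_one_of_y_L hE (pow_mem ha _) (by
    rw [eq_inv_of_mul_eq_one_left h2]; exact inv_mem (pow_mem hl _))
  have h4 : orderOf a = 1 := Nat.eq_one_of_dvd_coprimes hc (orderOf_dvd_of_pow_eq_one h3)
    (h.oy ▸ orderOf_dvd_of_mem_zpowers ha)
  rw [orderOf_eq_one_iff.1 h4, one_mul]
  exact hl

omit [Finite G] in
theorem mem_P {g : G} (hU : g ∈ Ut t) (ho : orderOf g = p) : g ∈ P :=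
  h.Pmem g hU (isPGroup_of_card_eq (by rw [Nat.card_zpowers, ho]))

omit [Finite G] in
theorem W_pgroup : IsPGroup p ↥(zpowers x ⊔ zpowers y) :=
  h.Pp.to_le (sup_le (zpowers_le.2 (h.mem_P h.xU h.ox)) (zpowers_le.2 (h.mem_P h.yU h.oy)))

omit [Finite G] in
theorem conj_y_nat (n : ℕ) : x ^ n * y * (x ^ n)⁻¹ = y * c ^ n := by
  induction n with
  | zero => simp
  | succ n ih =>
    have h1 : x * c ^ n * x⁻¹ = c ^ n :=
      conj_eq_of_mem_cent1 (mem_cent1_comm.1 (pow_mem h.cx n))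
    calc x ^ (n + 1) * y * (x ^ (n + 1))⁻¹ = x * (x ^ n * y * (x ^ n)⁻¹) * x⁻¹ := by group
      _ = (x * y * x⁻¹) * (x * c ^ n * x⁻¹) := by rw [ih]; group
      _ = y * c ^ (n + 1) := by rw [h.rel, h1]; group

theorem exists_conj_y {c' : G} (hc : c' ∈ zpowers c) : ∃ w ∈ zpowers x, w * y * w⁻¹ = y * c' := by
  obtain ⟨n, rfl⟩ := mem_powers_iff_mem_zpowers.2 hc
  exact ⟨x ^ n, pow_mem (mem_zpowers x) n, h.conj_y_nat n⟩

omit [Finite G] in
theorem conj_x_nat (n : ℕ) : y⁻¹ ^ n * x * (y⁻¹ ^ n)⁻¹ = x * c ^ n := by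
  induction n with
  | zero => simp
  | succ n ih =>
    have h1 : y⁻¹ * c ^ n * y⁻¹⁻¹ = c ^ n :=
      conj_eq_of_mem_cent1 (inv_mem (mem_cent1_comm.1 (pow_mem h.cy n)))
    have h2 : y⁻¹ * x * y⁻¹⁻¹ = x * c := by
      calc y⁻¹ * x * y⁻¹⁻¹ = y⁻¹ * (x * y * x⁻¹) * x := by group
        _ = c * x := by rw [h.rel]; group
        _ = x * c := mem_cent1.1 h.cx
    calc y⁻¹ ^ (n + 1) * x * (y⁻¹ ^ (n + 1))⁻¹
        = y⁻¹ * (y⁻¹ ^ n * x * (y⁻¹ ^ n)⁻¹) * y⁻¹⁻¹ := by group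
      _ = (y⁻¹ * x * y⁻¹⁻¹) * (y⁻¹ * c ^ n * y⁻¹⁻¹) := by rw [ih]; group
      _ = x * c ^ (n + 1) := by rw [h2, h1]; group

theorem exists_conj_x {c' : G} (hc : c' ∈ zpowers c) : ∃ w ∈ zpowers y, w * x * w⁻¹ = x * c' := by
  obtain ⟨n, rfl⟩ := mem_powers_iff_mem_zpowers.2 hc
  exact ⟨y⁻¹ ^ n, pow_mem (inv_mem (mem_zpowers y)) n, h.conj_x_nat n⟩

theorem ne_of_not_dvd {q : ℕ} (hz : ¬ q ∣ orderOf k) : q ≠ p := by
  rintro rfl; exact hz h.p_dvd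

theorem elem_t (hE : E4 G) {q : ℕ} (hq : q.Prime) (hq2 : q ≠ 2) (hz : ¬ q ∣ orderOf k)
    {E : Subgroup G} (hc : E ≤ 𝐂(E)) (hx : ∀ g ∈ E, g ^ q = 1) (ht : E ≤ 𝐂[t]) :
    Nat.card E ∣ q ∧ (E ≠ ⊥ → q < p) := by
  have hP : IsPGroup q E := fun g => ⟨1, Subtype.ext (by simpa using hx g g.2)⟩
  have hU : E ≤ Ut t := le_Ut hE h.ed.four.ot ht (odd_card_of_isPGroup hq hq2 hP)
  have hcy : IsCyclic E := by
    by_contra hn
    refine h.x_notMem_c (Cop.le_of_centralizer_le_of_not_isCyclic (isMulCommutative_of_le_cent hc)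
      hn (ht.trans h.wnorm) (coprime_card_of_pgroups hq h.prime (h.ne_of_not_dvd hz) hP h.W_pgroup)
      (fun a ha h1 => h.wcent a (hU ha) h1 ?_) (mem_sup_left (mem_zpowers x)))
    exact Nat.Coprime.coprime_dvd_left (orderOf_dvd_of_pow_eq_one (hx a ha))
      ((Nat.Prime.coprime_iff_not_dvd hq).2 hz)
  obtain ⟨g, rfl⟩ := exists_zpowers_eq hcy
  have h1 : orderOf g ∣ q := orderOf_dvd_of_pow_eq_one (hx g (mem_zpowers g))
  refine ⟨by rwa [Nat.card_zpowers], fun hne => ?_⟩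
  have h2 : orderOf g = q := by
    rcases (Nat.dvd_prime hq).1 h1 with h2 | h2
    · exact absurd (zpowers_eq_bot.2 (orderOf_eq_one_iff.1 h2)) hne
    · exact h2
  have h3 := orderOf_dvd_natCard (Ut t) (hU (mem_zpowers g))
  rw [h2, h.card] at h3
  have h4 : e ≠ 0 := by
    rintro rfl
    have := h.card
    rw [mul_zero] at this
    exact Nat.card_pos.ne' this
  rcases (Nat.Prime.dvd_mul hq).1 h3 with h5 | h5
  · rcases (Nat.Prime.dvd_mul hq).1 h5 with h6 | h6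
    · exact absurd h6 hz
    · exact absurd ((Nat.prime_dvd_prime_iff_eq hq h.prime).1 (hq.dvd_of_dvd_pow h6))
        (h.ne_of_not_dvd hz)
  · exact (Nat.le_of_dvd (Nat.pos_of_ne_zero h4) h5).trans_lt h.lt

theorem elem (hG : Simp4 G) {q : ℕ} (hq : q.Prime) (hq2 : q ≠ 2) (hz : ¬ q ∣ orderOf k)
    {E : Subgroup G} (hc : E ≤ 𝐂(E)) (hx : ∀ g ∈ E, g ^ q = 1) {u : G} (hu : orderOf u = 2)
    (ht : E ≤ 𝐂[u]) : Nat.card E ∣ q ∧ (E ≠ ⊥ → q < p) := by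
  obtain ⟨g, hg⟩ := hG.exists_conj hu h.ed.four.ot
  have := h.elem_t hG.e4 hq hq2 hz (E := g •ᶜ E) (by rw [cent_conj]; exact map_mono hc)
    (by rintro _ ⟨a, ha, rfl⟩; rw [← map_pow, hx a ha, map_one])
    (by rw [← hg, cent1_conj]; exact map_mono ht)
  rwa [card_map_conj, Ne, conj_eq_bot_iff] at this

/-- Lemma R. -/
theorem lemmaR (hG : Simp4 G) {q : ℕ} (hq : q.Prime) (hq2 : q ≠ 2) (hz : ¬ q ∣ orderOf k)
    {Q : Subgroup G} (hQ : IsPGroup q Q) {s' : G} (h4 : Four t s') (ht : t ∈ 𝐍(Q))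
    (hs : s' ∈ 𝐍(Q)) (hc : c ∈ 𝐍(Q)) (hcc : Q ⊓ 𝐂[c] = ⊥) : Q = ⊥ := by
  by_contra hne
  haveI := Fact.mk hq
  haveI := Fact.mk h.prime
  have ho := odd_card_of_isPGroup hq hq2 hQ
  have h1 : Q ⊓ 𝐂[t] = ⊥ := by
    rw [eq_bot_iff, ← hcc]
    exact le_inf inf_le_left ((le_Ut hG.e4 h4.ot inf_le_right
      (odd_card_of_le ho inf_le_left)).trans (h.U_le h.cmem))
  have hcomm := (inverts_of_inf_cent h4.tt ho ht h1).le_cent
  set E := omegaC q Q hcomm with hEdef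
  have hle : E ≤ Q := fun g hg => hg.1
  have hn := norm_le_norm_omegaC q Q hcomm
  have hE1 : E ≠ ⊥ := by
    obtain ⟨g, hg⟩ := exists_prime_orderOf_dvd_card' (G := Q) q
      (hQ.card_eq_or_dvd.resolve_left fun h0 => hne (card_eq_one.1 h0))
    rw [← orderOf_coe] at hg
    refine ne_bot_of_mem (x := g) ⟨g.2, hg ▸ pow_orderOf_eq_one _⟩ fun h0 => ?_
    rw [h0, orderOf_one] at hg
    exact hq.one_lt.ne hg
  have hmod := H1.card_modEq_card_inf_centralizer_elem (p := p) (U := E)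
    (isPGroup_of_card_eq (by rw [Nat.card_zpowers, h.oc])) (hn hc)
  have h2 : E ⊓ 𝐂[c] = ⊥ := by
    rw [eq_bot_iff, ← hcc]; exact inf_le_inf_right _ hle
  rw [h2, card_bot] at hmod
  have hsub : ∀ u, orderOf u = 2 → Nat.card ↥(E ⊓ 𝐂[u]) ∣ q ∧ (E ⊓ 𝐂[u] ≠ ⊥ → q < p) :=
    fun u hu => h.elem hG hq hq2 hz
      ((inf_le_left.trans (hle.trans hcomm)).trans (centralizer_le (inf_le_left.trans hle)))
      (fun g hg => hg.1.2) hu inf_le_right
  have h3 : E ≤ (E ⊓ 𝐂[s']) ⊔ (E ⊓ 𝐂[t * s']) := by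
    refine h4.le_of_cent_le (odd_card_of_le ho hle) (le_norm_of_V (hn ht) (hn hs)) ?_ le_sup_left
      le_sup_right
    exact ((inf_le_inf_right _ hle).trans h1.le).trans bot_le
  have h5 : E = (E ⊓ 𝐂[s']) ⊔ (E ⊓ 𝐂[t * s']) :=
    le_antisymm h3 (sup_le inf_le_left inf_le_left)
  have h6 : Nat.card E ∣ q ^ 2 := by
    rw [h5, pow_two]
    refine (card_sup_dvd_mul ?_).trans (mul_dvd_mul (hsub _ h4.os).1 (hsub _ h4.ots).1)
    refine le_trans ?_ (cent_le_norm _)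
    exact (inf_le_left.trans (hle.trans hcomm)).trans (centralizer_le (inf_le_left.trans hle))
  have h7 : q < p := by
    by_cases h8 : E ⊓ 𝐂[s'] = ⊥
    · refine (hsub _ h4.ots).2 fun h9 => hE1 ?_
      rw [h5, h8, h9, bot_sup_eq]
    · exact (hsub _ h4.os).2 h8
  have hq1 := hq.two_le
  obtain ⟨i, hi, h8⟩ := (Nat.dvd_prime_pow hq).1 h6
  rw [h8] at hmod
  have h9 := (Nat.modEq_iff_dvd' (Nat.one_le_pow _ _ hq.pos)).1 hmod.symm
  interval_cases i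
  · exact hE1 (card_eq_one.1 (by simpa using h8))
  · rw [pow_one] at h9
    have := Nat.le_of_dvd (by omega) h9
    omega
  · have e1 : q ^ 2 - 1 = (q + 1) * (q - 1) := by
      rw [← Nat.sq_sub_sq]
    rw [e1] at h9
    rcases (Nat.Prime.dvd_mul h.prime).1 h9 with h10 | h10
    · have := Nat.le_of_dvd (by omega) h10
      obtain ⟨a, ha⟩ := h.odd_p
      obtain ⟨b, hb⟩ := hq.odd_of_ne_two hq2
      omega
    · have := Nat.le_of_dvd (by omega) h10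
      omega

end Mixed

end CfsgLib.GW
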