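import Cfsg.Agent.Lib.GW.CountB

/-!
# The configuration `Mixed`: the counting argument
-/

set_option autoImplicit false

namespace CfsgLib.GW

open Subgroup Cfsg CfsgLib.FT.BGN CfsgLib.FT.U4
open scoped commutatorElement

variable {G : Type*} [Group G] [Finite G]

theorem count2_arith {p e z v n I i E : ℕ} (hp : 3 ≤ p) (he : e < p) (hz : p ≤ z)
    (hv : v * v ≤ n + p ^ 2 * v) (hn : n * I = i * E) (hE : E ≤ p * e)
    (hi : i ≤ 15 * (z * p * e) ^ 2) (hvI : I * (p - 1) ≤ v)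
    (hI : (4 * z - 1) * (2 * z - 1) ≤ I) : False := by
  obtain ⟨r, rfl⟩ : ∃ r, p = r + 1 := ⟨p - 1, by omega⟩
  obtain ⟨w, rfl⟩ : ∃ w, z = w + 3 := ⟨z - 3, by omega⟩
  have h1 : 6 * (w + 3) ^ 2 ≤ I := by
    refine le_trans ?_ hI
    have e1 : 4 * (w + 3) - 1 = 4 * w + 11 := by omega
    have e2 : 2 * (w + 3) - 1 = 2 * w + 5 := by omega
    rw [e1, e2]; nlinarith
  generalize w + 3 = z at *
  rw [Nat.add_sub_cancel] at hvI
  have hr : 2 ≤ r := by omega
  have he' : e ≤ r := by omega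
  have h2 : 2 * (r + 1) ^ 2 ≤ v := by
    calc 2 * (r + 1) ^ 2 ≤ 6 * z ^ 2 * 1 := by nlinarith
      _ ≤ I * r := by gcongr; omega
      _ ≤ v := hvI
  have h3 : v * v ≤ 2 * n := by nlinarith
  have h4 : I * r * (I * r) * I ≤ 2 * (15 * (z * z * r) ^ 2 * (z * z)) := by
    calc I * r * (I * r) * I ≤ 2 * n * I := by
          exact Nat.mul_le_mul_right _ ((Nat.mul_le_mul hvI hvI).trans h3)
      _ = 2 * (i * E) := by rw [mul_assoc, hn]
      _ ≤ _ := by
        gcongr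
        · exact hi.trans (by gcongr)
        · exact hE.trans (by gcongr; omega)
  have h5 : 6 * z ^ 2 * r * (6 * z ^ 2 * r) * (6 * z ^ 2) ≤ I * r * (I * r) * I := by gcongr
  have h6 := h5.trans h4
  have h7 : 0 < z ^ 6 * r ^ 2 := by
    have : 0 < z := by omega
    have : 0 < r := by omega
    positivity
  have e4 : 6 * z ^ 2 * r * (6 * z ^ 2 * r) * (6 * z ^ 2) = z ^ 6 * r ^ 2 * 216 := by ring
  have e5 : 2 * (15 * (z * z * r) ^ 2 * (z * z)) = z ^ 6 * r ^ 2 * 30 := by ring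
  rw [e4, e5] at h6
  have := Nat.le_of_mul_le_mul_left h6 h7
  omega

namespace Mixed

variable {L P : Subgroup G} {t s k x y c : G} {p e : ℕ} (h : Mixed L P t s k x y c p e)
include h

omit [Finite G] in
theorem zpowers_eq_c {a : G} (ha : a ∈ zpowers c) (h1 : a ≠ 1) : zpowers a = zpowers c :=
  zpowers_eq_of_card_prime (by rw [Nat.card_zpowers, h.oc]; exact h.prime) ha h1

omit [Finite G] in
theorem orderOf_of_mem_c {a : G} (ha : a ∈ zpowers c) (h1 : a ≠ 1) : orderOf a = p := by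
  rw [← Nat.card_zpowers, h.zpowers_eq_c ha h1, Nat.card_zpowers, h.oc]

theorem exists_conj_c (hE : E4 G) {l : G} (hl : l ∈ L) (ho : orderOf l = p) :
    ∃ a ∈ L, a * l * a⁻¹ ∈ zpowers c := by
  obtain ⟨a, ha, h1⟩ := h.ed.exists_conj_mem hE h.prime h.p_dvd hl ho
  refine ⟨a, ha, h.mem_c h1 ?_⟩
  rw [← ho, ← orderOf_conj a l, pow_orderOf_eq_one]

theorem exists_conj_mul (hE : E4 G) {l : G} (hl : l ∈ L) (ho : orderOf l = p) :
    ∃ g, g * y * g⁻¹ = y * l := by
  obtain ⟨a, ha, h1⟩ := h.exists_conj_c hE hl ho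
  obtain ⟨w, -, h2⟩ := h.exists_conj_y h1
  refine ⟨a⁻¹ * w, ?_⟩
  have h3 := conj_eq_of_mem_cent1 (inv_mem (h.L_le ha))
  calc a⁻¹ * w * y * (a⁻¹ * w)⁻¹ = a⁻¹ * (w * y * w⁻¹) * a := by group
    _ = (a⁻¹ * y * a⁻¹⁻¹) * l := by rw [h2]; group
    _ = y * l := by rw [h3]

theorem mem_sup_c (hE : E4 G) {g : G} (ht : g ∈ 𝐂[t]) (hy : g ∈ 𝐂[y]) (hp : g ^ p = 1) :
    g ∈ zpowers y ⊔ zpowers c := by
  have hU : g ∈ Ut t := (mem_Ut hE h.ed.four.ot).2
    ⟨mem_cent1.1 ht, h.odd_p.of_dvd_nat (orderOf_dvd_of_pow_eq_one hp)⟩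
  obtain ⟨a, ha, m, hm, rfl⟩ := h.split_U hE hU hy
  have h1 : Commute a m := mem_cent.1 (h.ed.cent (h.ed.psl.k_le hm)) a ha
  have h2 : a ^ p = 1 := orderOf_dvd_iff_pow_eq_one.1 (h.oy ▸ orderOf_dvd_of_mem_zpowers ha)
  rw [h1.mul_pow, h2, one_mul] at hp
  exact mul_mem (mem_sup_left ha) (mem_sup_right (h.mem_c hm hp))

theorem mem_sup_of_cent (hE : E4 G) {l g : G} (hl : l ∈ L) (ho : orderOf l = p) (hy : g ∈ 𝐂[y])
    (hg : g ∈ 𝐂[l]) (hp : g ^ p = 1) : g ∈ zpowers y ⊔ zpowers l := by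
  obtain ⟨a, ha, h1⟩ := h.exists_conj_c hE hl ho
  have h2 : a * l * a⁻¹ ≠ 1 := fun e1 => h.prime.one_lt.ne' (by
    rw [← ho, ← orderOf_conj a l, e1, orderOf_one])
  have h3 := conj_eq_of_mem_cent1 (h.L_le ha)
  have h4 : a * g * a⁻¹ ∈ zpowers y ⊔ zpowers c := by
    refine h.mem_sup_c hE (h.cent_k (zpowers_le.2 h.cmem h1) h2 ?_)
      (mul_mem (mul_mem (h.L_le ha) hy) (inv_mem (h.L_le ha))) (by rw [conj_pow, hp]; group)
    rw [cent1_conj]
    exact conj_mem_map_conj hg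
  rwa [← h.zpowers_eq_c h1 h2, ← h3, zpowers_conj, zpowers_conj, ← conj_sup,
    conj_mem_conj_iff] at h4

theorem card_ge : (𝐂[t]).relIndex L * (p - 1) ≤ Nat.card {l : G // l ∈ L ∧ orderOf l = p} := by
  classical
  let A := L ⧸ (𝐂[t]).subgroupOf L
  let f : A × {a : zpowers c // a ≠ 1} → {l : G // l ∈ L ∧ orderOf l = p} := fun q =>
    ⟨((q.1.out : L) : G) * (q.2.1 : G) * ((q.1.out : L) : G)⁻¹,
      mul_mem (mul_mem q.1.out.2 (zpowers_le.2 h.cL q.2.1.2)) (inv_mem q.1.out.2), by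
        rw [orderOf_conj]
        exact h.orderOf_of_mem_c q.2.1.2 fun e1 => q.2.2 (Subtype.ext e1)⟩
  have hf : Function.Injective f := by
    rintro ⟨a, ⟨b, hb⟩, hb1⟩ ⟨a', ⟨b', hb'⟩, hb1'⟩ e1
    have e2 : ((a.out : L) : G) * b * ((a.out : L) : G)⁻¹ =
      ((a'.out : L) : G) * b' * ((a'.out : L) : G)⁻¹ := congrArg Subtype.val e1
    have h1 : b ≠ 1 := fun e3 => hb1 (Subtype.ext e3)
    have h1' : b' ≠ 1 := fun e3 => hb1' (Subtype.ext e3)
    have h2 : a = a' := by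
      rw [← QuotientGroup.out_eq' a, ← QuotientGroup.out_eq' a', QuotientGroup.eq,
        mem_subgroupOf]
      refine h.normk c h.cmem h.c1 (mem_normalizer_of_map_conj_eq ?_)
      conv_lhs => rw [← h.zpowers_eq_c hb' h1']
      rw [← zpowers_conj, ← h.zpowers_eq_c hb h1]
      congr 1
      simp only [coe_mul, InvMemClass.coe_inv]
      calc ((a.out : L) : G)⁻¹ * ((a'.out : L) : G) * b' *
          (((a.out : L) : G)⁻¹ * ((a'.out : L) : G))⁻¹ = ((a.out : L) : G)⁻¹ *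
          (((a'.out : L) : G) * b' * ((a'.out : L) : G)⁻¹) * ((a.out : L) : G) := by group
        _ = b := by rw [← e2]; group
    subst h2
    have h3 : b = b' := by simpa using e2
    subst h3
    rfl
  have := Nat.card_le_card_of_injective f hf
  rw [Nat.card_prod] at this
  have h2 : Nat.card {a : zpowers c // a ≠ 1} = Nat.card (zpowers c) - 1 := by
    have := Fintype.ofFinite (zpowers c)
    simp
  rwa [h2, Nat.card_zpowers, h.oc] at this

theorem relIndex_le (hE : E4 G) : (𝐍(zpowers y)).relIndex (Ut t) ≤ p * e := by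
  have h1 : Nat.card ↥(zpowers y ⊔ zpowers k) = p * orderOf k := by
    rw [card_sup_of_disjoint, Nat.card_zpowers, Nat.card_zpowers, h.oy]
    · refine le_trans ?_ (cent_le_norm _)
      rw [cent_zpowers]
      exact zpowers_le.2 (h.kcent h.yU)
    · exact eq_bot_of_forall fun a ha => h.eq_one_of_y_L hE ha.1 (h.ed.psl.k_le ha.2)
  have h2 : zpowers y ⊔ zpowers k ≤ 𝐍(zpowers y) ⊓ Ut t :=
    sup_le (le_inf le_normalizer (zpowers_le.2 h.yU))
      (le_inf (h.ed.psl.k_le.trans h.ed.L_le) (h.ed.psl.k_le_U hE h.ed.four.ot))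
  have h3 := card_le_of_le h2
  have h4 := card_inf_mul_relIndex (𝐍(zpowers y)) (Ut t)
  rw [h.card] at h4
  rw [h1] at h3
  have h5 : 0 < p * orderOf k := Nat.mul_pos h.prime.pos (orderOf_pos k)
  refine Nat.le_of_mul_le_mul_left ?_ h5
  calc p * orderOf k * (𝐍(zpowers y)).relIndex (Ut t) ≤ _ := Nat.mul_le_mul_right _ h3
    _ = _ := h4
    _ = _ := by ring

omit [Finite G] in
theorem relIndex_B : (𝐂[s]).relIndex (Ut t) = orderOf k * p * e := by
  have h4 := card_inf_mul_relIndex (𝐂[s]) (Ut t)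
  rw [inf_comm, h.B, Nat.card_zpowers, h.oy, h.card] at h4
  refine Nat.eq_of_mul_eq_mul_left h.prime.pos (h4.trans (by ring))

theorem exists_pair (hG : Simp4 G) : ∃ y', orderOf y' = p ∧ y' ∉ 𝐂[y] ∧ ∃ c₁ ∈ L, ∃ c₂ ∈ L,
    orderOf c₁ = p ∧ orderOf c₂ = p ∧ c₁ ≠ c₂ ∧ y' ∈ 𝐂[y * c₁] ∧ y' ∈ 𝐂[y * c₂] := by
  classical
  by_contra hcon
  push Not at hcon
  have hE := hG.e4
  have := Fintype.ofFinite G
  let Λ := {l : G // l ∈ L ∧ orderOf l = p}
  choose g hg using fun l : Λ => h.exists_conj_mul hE l.2.1 l.2.2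
  let f : Λ × Λ → G := fun q => g q.1 * (y * q.2) * (g q.1)⁻¹
  have hf1 : ∀ q, IsConj y (f q) := fun q => by
    refine isConj_iff.2 ⟨g q.1 * g q.2, ?_⟩
    simp only [f]
    rw [← hg q.2]; group
  have hf2 : ∀ q, orderOf (f q) = p := fun q => by
    obtain ⟨a, ha⟩ := isConj_iff.1 (hf1 q)
    rw [← ha, orderOf_conj, h.oy]
  have hf3 : ∀ q, f q ∈ 𝐂[y * q.1] := fun q => by
    rw [← hg q.1, cent1_conj]
    exact conj_mem_map_conj (mul_mem (self_mem_cent1 y) (h.L_le q.2.2.1))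
  have hf4 : ∀ l m m', f (l, m) = f (l, m') → m = m' := fun l m m' e1 =>
    Subtype.ext (by simpa [f] using e1)
  have hA : (Finset.univ.filter fun q : Λ × Λ => ¬ f q ∈ 𝐂[y]).card ≤ (𝐂[y]).index := by
    rw [ClassCount.index_centralizer_eq_ncard, Set.ncard_eq_toFinset_card']
    refine Finset.card_le_card_of_injOn f (fun q _ => by simpa using hf1 q) ?_
    rintro ⟨l, m⟩ hq ⟨l', m'⟩ hq' e1
    have h1 : l = l' := by
      by_contra hne
      refine hcon (f (l, m)) (hf2 _) (by simpa using hq) l l.2.1 l' l'.2.1 l.2.2 l'.2.2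
        (fun e2 => hne (Subtype.ext e2)) (hf3 (l, m)) ?_
      rw [e1]; exact hf3 (l', m')
    subst h1
    rw [hf4 l m m' e1]
  have hB : (Finset.univ.filter fun q : Λ × Λ => f q ∈ 𝐂[y]).card ≤
      p ^ 2 * (Finset.univ : Finset Λ).card := by
    refine Finset.card_le_mul_card_image_of_maps_to (f := Prod.fst) (fun _ _ => Finset.mem_univ _)
      _ fun l _ => ?_
    have h1 : Nat.card ↥(zpowers y ⊔ zpowers (l : G)) ≤ p ^ 2 := by
      refine Nat.le_of_dvd (pow_pos h.prime.pos 2) ((card_sup_dvd_mul ?_).trans ?_)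
      · refine le_trans ?_ (cent_le_norm _)
        rw [cent_zpowers]
        exact zpowers_le.2 (mem_cent1_comm.1 (h.L_le l.2.1))
      · rw [Nat.card_zpowers, Nat.card_zpowers, h.oy, l.2.2, pow_two]
    refine le_trans ?_ h1
    rw [← SetLike.coe_sort_coe, Nat.card_coe_set_eq, Set.ncard_eq_toFinset_card']
    refine Finset.card_le_card_of_injOn f (fun q hq => ?_) ?_
    · simp only [Finset.coe_filter, Finset.mem_filter, Finset.mem_univ, true_and,
        Set.mem_setOf_eq] at hq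
      simp only [Set.coe_toFinset, SetLike.mem_coe]
      refine h.mem_sup_of_cent hE l.2.1 l.2.2 hq.1 ?_ (hf2 q ▸ pow_orderOf_eq_one _)
      have h2 := hf3 q
      rw [hq.2, mem_cent1_comm] at h2
      rw [mem_cent1_comm]
      exact (Subgroup.mul_mem_cancel_left _ (mem_cent1_comm.1 hq.1)).1 h2
    · rintro ⟨l₁, m⟩ hq ⟨l₂, m'⟩ hq' e1
      simp only [Finset.coe_filter, Finset.mem_filter, Finset.mem_univ, true_and,
        Set.mem_setOf_eq] at hq hq'
      obtain rfl := hq.2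
      obtain rfl := hq'.2
      rw [hf4 _ m m' e1]
  have hC := Finset.card_filter_add_card_filter_not (s := (Finset.univ : Finset (Λ × Λ)))
    (fun q => f q ∈ 𝐂[y])
  rw [Finset.card_univ, Fintype.card_prod] at hC
  rw [Finset.card_univ] at hB
  have hv := h.card_ge
  rw [Nat.card_eq_fintype_card] at hv
  have hn := h.ed.index_eq hE
  have hi := index_le hG h.ed.four
  rw [h.relIndex_B] at hi
  have hp : 3 ≤ p := by
    have := h.prime.two_le
    have := h.p_ne_two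
    omega
  have hEE := h.relIndex_le hE
  rw [h.norm_y_eq] at hn hEE
  exact count2_arith (v := Fintype.card Λ) hp h.lt (Nat.le_of_dvd (orderOf_pos k) h.p_dvd)
    (by omega) hn hEE hi hv
    h.ed.psl.index_ge

end Mixed

end CfsgLib.GW
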