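import Mathlib
import Cfsg.Agent.Lib.FT.U4b
import Cfsg.Agent.Lib.H1DStar
import Cfsg.Agent.Lib.H1Prim
import Cfsg.Agent.Lib.H1Misc
import Cfsg.Agent.Lib.H5Involutions
import Cfsg.Agent.Lib.CoprimeGen
import Cfsg.Agent.Lib.PComplement
import Cfsg.Agent.Lib.CoreSimpleInd

/-!
# Groups with a four-group as Sylow `2`-subgroup: definitions
-/

set_option autoImplicit false

namespace CfsgLib.GW

open Subgroup Cfsg CfsgLib.FT CfsgLib.FT.BGN
open scoped commutatorElement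

universe u

variable {G : Type*} [Group G]

/-- `O(M)`, the largest normal subgroup of odd order of `M`. -/
def Od (M : Subgroup G) : Subgroup G := piCoreOf {2}ᶜ M

/-- `O(C(t))`. -/
def Ut (t : G) : Subgroup G := Od 𝐂[t]

/-- Two distinct commuting involutions. -/
structure Four (t s : G) : Prop where
  ot : orderOf t = 2
  os : orderOf s = 2
  comm : t * s = s * t
  ne : t ≠ s

/-- The four-group generated by `t` and `s`. -/
def V (t s : G) : Subgroup G := zpowers t ⊔ zpowers s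

/-- The Sylow `2`-subgroups are elementary abelian of order at most `4`. -/
structure E4 (G : Type*) [Group G] : Prop where
  not8 : ¬ 8 ∣ Nat.card G
  not4 : ∀ g : G, ¬ 4 ∣ orderOf g

/-- `s` inverts every element of `K`. -/
def Inverts (s : G) (K : Subgroup G) : Prop := ∀ x ∈ K, s * x * s⁻¹ = x⁻¹

/-- `M` has a normal `2`-complement. -/
def Nilp2 (M : Subgroup G) : Prop := ∀ x ∈ M, Odd (orderOf x) → x ∈ Od M

/-- All involutions of `M` are conjugate in `M`. -/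
def OneCl (M : Subgroup G) : Prop :=
  ∀ u ∈ M, ∀ v ∈ M, orderOf u = 2 → orderOf v = 2 → ∃ g ∈ M, g * u * g⁻¹ = v

/-- The properties of `L ≅ PSL₂(q)`, `q ≡ ±3 (mod 8)`, used in the local analysis: `k` generates
the odd part of `C_L(t)`. -/
structure PslAt (L : Subgroup G) (t s k : G) : Prop where
  mem : ∀ x, x ∈ zpowers k ↔ x ∈ L ∧ x * t = t * x ∧ Odd (orderOf x)
  inv : s * k * s⁻¹ = k⁻¹
  cent : ∀ x ∈ zpowers k, x ≠ 1 → L ⊓ 𝐂[x] ≤ 𝐂[t]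
  index : ∃ ε : ℤ, (ε = 1 ∨ ε = -1) ∧
    ((𝐂[t]).relIndex L : ℤ) = (4 * orderOf k + ε) * (2 * orderOf k + ε)
  rad : ∃ R ≤ L, Inverts t R ∧ k ∈ 𝐍(R) ∧ (Nat.card R).Coprime (2 * orderOf k) ∧
    (∀ g ∈ R, g ≠ 1 → L ⊓ 𝐂[g] = R) ∧
    ∀ c ∈ zpowers k, c ≠ 1 → ∀ (l : ℕ) (T : Subgroup G), l.Prime → l ≠ 2 → T ≤ L → IsPGroup l T →
      c ∈ 𝐍(T) → T ⊓ 𝐂[c] = ⊥ → T ≤ R ∨ T ≤ s •ᶜ R

/-- `PslAt` holds at every four-subgroup of `L`. -/
def PslIn (L : Subgroup G) : Prop := ∀ t ∈ L, ∀ s ∈ L, Four t s → ∃ k, PslAt L t s k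

/-- A simple group with a four-group as Sylow `2`-subgroup. -/
structure Simp4 (G : Type*) [Group G] : Prop where
  simple : IsSimpleGroup G
  e4 : E4 G
  one : OneCl (⊤ : Subgroup G)

/-- A minimal situation: all smaller simple groups of the same kind are known. -/
structure Hyp (G : Type u) [Group G] : Prop extends Simp4 G where
  ih : ∀ (X : Type u) [Group X] [Finite X], Nat.card X < Nat.card G → IsSimpleGroup X →
    ¬ IsMulCommutative X → E4 X → PslIn (⊤ : Subgroup X)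

/-- `M` has a component `L`. -/
structure TypeE (M L : Subgroup G) : Prop where
  le : L ≤ M
  norm : M ≤ 𝐍(L)
  cent : L ≤ 𝐂(Od M)
  inv_mem : ∀ u ∈ M, orderOf u = 2 → u ∈ L
  one : OneCl L
  four : 4 ∣ Nat.card L
  comm : ∀ t ∈ L, ∀ s ∈ L, Four t s → ∀ b ∈ M ⊓ 𝐂(V t s), Odd (orderOf b) →
    ∀ d ∈ L ⊓ 𝐍(V t s), ⁅b, d⁆ ∈ Od M
  zbot : ∀ t ∈ L, ∀ s ∈ L, Four t s → ∀ (r : ℕ), r.Prime → ∀ x ∈ L ⊓ 𝐂[t], r ∣ orderOf x →
    IsPGroup r (zpowers x) → r ≠ 2 → s * x * s⁻¹ = x⁻¹ → ¬ r ∣ Nat.card ↥(L ⊓ Od M)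
  psl : L ⊓ Od M = ⊥ → PslIn L

/-- The normalizer of `X` has a simple component `L` centralizing `X`. -/
structure EData (X L : Subgroup G) (t s k : G) : Prop where
  four : Four t s
  cent : L ≤ 𝐂(X)
  norm : 𝐍(X) ≤ 𝐍(L)
  inv_mem : ∀ u ∈ 𝐍(X), orderOf u = 2 → u ∈ L
  one : OneCl L
  tmem : t ∈ L
  smem : s ∈ L
  psl : PslAt L t s k

/-- The last configuration of the local analysis: `W = ⟨x, y⟩` is extraspecial of order `p ^ 3`
with centre `⟨c⟩` and normal in `C(t)`. -/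
structure Mixed (L P : Subgroup G) (t s k x y c : G) (p e : ℕ) : Prop where
  ed : EData (zpowers y) L t s k
  prime : p.Prime
  xU : x ∈ Ut t
  yU : y ∈ Ut t
  ox : orderOf x = p
  oy : orderOf y = p
  oc : orderOf c = p
  rel : x * y * x⁻¹ = y * c
  sx : s * x * s⁻¹ = x⁻¹
  cmem : c ∈ zpowers k
  kcent : Ut t ≤ 𝐂[k]
  normk : ∀ g ∈ zpowers k, g ≠ 1 → 𝐍(zpowers g) ≤ 𝐂[t]
  split : ∀ g ∈ 𝐍(zpowers y), ∃ a ∈ zpowers y, ∃ l ∈ L, g = a * l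
  B : Ut t ⊓ 𝐂[s] = zpowers y
  Ple : P ≤ Ut t
  Pnorm : 𝐂[t] ≤ 𝐍(P)
  Pp : IsPGroup p P
  Pmem : ∀ g ∈ Ut t, IsPGroup p (zpowers g) → g ∈ P
  Pder : ⁅P, P⁆ ≤ zpowers c
  card : Nat.card (Ut t) = orderOf k * p ^ 2 * e
  lt : e < p
  wnorm : 𝐂[t] ≤ 𝐍(zpowers x ⊔ zpowers y)
  wcent : ∀ a ∈ Ut t, a ≠ 1 → (orderOf a).Coprime (orderOf k) →
    (zpowers x ⊔ zpowers y) ⊓ 𝐂[a] ≤ zpowers c

end CfsgLib.GW
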