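import Cfsg.Agent.Lib.Blk.BSc

/-!
# Lifting an idempotent of the centralizer of a `p`-element
-/

set_option autoImplicit false

namespace CfsgLib.GW

open Cfsg Subgroup CfsgLib.FT CfsgLib.Blk
open scoped ComplexConjugate

variable {G : Type*} [Group G] [Fintype G] {L C : Subgroup G}
variable {Γ : Type*} [LinearOrderedCommGroupWithZero Γ] {v : Valuation ℂ Γ} {p k : ℕ} {u : G}

/-- The Brauer image of `a` is `g`. -/
structure Br (v : Valuation ℂ Γ) (L C : Subgroup G) (a : Irr L → ℂ) (g : G → ℂ) : Prop where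
  mem : a ∈ Zr v L
  cf : g ∈ CF C
  le : ∀ x, v (g x) ≤ 1
  lt : ∀ x, v ((cfRes C (idem L a) - g) x) < 1

theorem val_cfRes_le {f : G → ℂ} (hf : ∀ g, v (f g) ≤ 1) (g : G) : v (cfRes C f g) ≤ 1 := by
  by_cases hg : g ∈ C
  · rw [cfRes_apply hg]; exact hf g
  · rw [cfRes_apply_of_notMem hg]; simp

theorem br_self (hCL : C ≤ L) {a : Irr L → ℂ} (ha : a ∈ Zr v L) :
    Br v L C a (cfRes C (idem L a)) :=
  ⟨ha, cfRes_mem_CF hCL (idem_mem_CF a), val_cfRes_le ha, fun x => by simp⟩

theorem Br.mul (hp : p.Prime) (hv : v p < 1) (hu : u ^ p ^ k = 1) (huL : u ∈ L)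
    (hC : C = L ⊓ centralizer ({u} : Set G)) {a b : Irr L → ℂ} {g h : G → ℂ}
    (ha : Br v L C a g) (hb : Br v L C b h) : Br v L C (a * b) (conv g h) := by
  refine ⟨mul_mem ha.mem hb.mem, conv_mem_CF ha.cf hb.cf, val_conv_le ha.le hb.le, fun x => ?_⟩
  by_cases hx : x ∈ C
  swap
  · simp [cfRes_apply_of_notMem hx, (conv_mem_CF ha.cf hb.cf).1 x hx]
  have h1 := val_conv_sub_lt hp hv hu huL (idem_mem_CF a) ha.mem (idem_mem_CF b) hb.mem (hC ▸ hx)
  have h2 := val_conv_lt_left ha.lt (val_cfRes_le (C := C) hb.mem) x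
  have h3 := val_conv_lt_right ha.le hb.lt x
  rw [conv_sub_left] at h2
  rw [conv_sub_right] at h3
  rw [← hC, ← idem_mul] at h1
  rw [Pi.sub_apply, cfRes_apply hx]
  exact val_sub_trans h1 (val_sub_trans h2 h3)

theorem Br.sub {a : Irr L → ℂ} {g : G → ℂ} (ha : Br v L C a g) {c : ℂ} (hc : v c < 1) :
    Br v L C (a - fun _ => c) g := by
  have e : (a - fun _ => c) = a + (-c) • (1 : Irr L → ℂ) := by
    ext χ
    simp [sub_eq_add_neg]
  refine ⟨?_, ha.cf, ha.le, fun x => ?_⟩
  · rw [e]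
    exact add_mem ha.mem (Zr_smul (one_mem _) (by rw [v.map_neg]; exact hc.le))
  · rw [e, idem_add, idem_smul, idem_one, map_add, map_smul, add_sub_right_comm, Pi.add_apply]
    refine v.map_add_lt (ha.lt x) (val_mul_lt_left (by rwa [v.map_neg]) ?_)
    exact val_cfRes_le (val_delta_le 1) x

/-- If an idempotent `f` of `ℂ C_L(u)` is the restriction of an integral class function of `L`,
then on the `p`-section of `u` every irreducible character of `L` is fixed or killed by `f`. -/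
theorem exists_lift (hp : p.Prime) (hv : v p < 1) (hu : u ^ p ^ k = 1) (huL : u ∈ L)
    (hC : C = L ⊓ centralizer ({u} : Set G)) {f y : G → ℂ} (hy : y ∈ CF L)
    (hyi : ∀ g, v (y g) ≤ 1) (hf : cfRes C y = f) (hff : conv f f = f) (χ : Irr L) :
    (∀ w ∈ C, (orderOf w).Coprime p → act f χ (u * w) = χ (u * w)) ∨
      ∀ w ∈ C, (orderOf w).Coprime p → act f χ (u * w) = 0 := by
  classical
  have hCL : C ≤ L := hC ▸ inf_le_left
  set s : Irr L → ℂ := fun χ => om χ y with hs
  have hsf : Br v L C s f := by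
    have := br_self hCL (om_mem_Zr (v := v) hy hyi)
    rwa [idem_om hy, hf] at this
  set T : Finset (Irr L) := Finset.univ.filter fun χ => v (s χ) = 1 with hT
  have hlt : ∀ χ ∉ T, v (s χ) < 1 := fun χ h =>
    lt_of_le_of_ne (Zr_val_le hsf.mem χ) (by simpa [hT] using h)
  have key : ∀ A : Finset (Irr L), A ⊆ Tᶜ → Br v L C (s * ∏ ψ ∈ A, (s - fun _ => s ψ)) f := by
    intro A
    induction A using Finset.induction_on with
    | empty => intro _; simpa using hsf
    | insert ψ A hψ ih =>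
      intro hA
      have h1 := (ih ((Finset.subset_insert _ _).trans hA)).mul hp hv hu huL hC
        (hsf.sub (hlt ψ (Finset.mem_compl.1 (hA (Finset.mem_insert_self _ _)))))
      rw [hff] at h1
      rwa [Finset.prod_insert hψ, mul_comm (s - _), ← mul_assoc]
  have hz := key Tᶜ subset_rfl
  set z := s * ∏ ψ ∈ Tᶜ, (s - fun _ => s ψ) with hzd
  have hz0 : ∀ χ ∉ T, z χ = 0 := fun χ h => by
    rw [hzd, Pi.mul_apply, Finset.prod_apply,
      Finset.prod_eq_zero (Finset.mem_compl.2 h) (by simp), mul_zero]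
  obtain ⟨w, hw, hzw⟩ := exists_Zr_mul_eq hz.mem T (fun χ h => by
    have h1 : v (s χ) = 1 := by simpa [hT] using h
    rw [hzd, Pi.mul_apply, Finset.prod_apply, map_mul, h1, one_mul, map_prod]
    refine Finset.prod_eq_one fun ψ hψ => ?_
    rw [← h1]
    exact v.map_sub_eq_of_lt_left (h1 ▸ hlt ψ (Finset.mem_compl.1 hψ))) hz0
  set e : Irr L → ℂ := fun χ => if χ ∈ T then 1 else 0 with he
  have heZ : e ∈ Zr v L := hzw ▸ mul_mem hz.mem hw
  have h1 := hz.mul hp hv hu huL hC (br_self hCL hw)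
  have h2 := (br_self hCL heZ).mul hp hv hu huL hC hz
  have hez : e * z = z := by
    ext χ
    by_cases h : χ ∈ T <;> simp [he, h, hz0]
  rw [hzw] at h1
  rw [hez] at h2
  set E := cfRes C (idem L e) with hE
  set W := cfRes C (idem L w) with hW
  have h3 := val_conv_lt_right hsf.le h1.lt
  rw [conv_sub_right, ← conv_assoc, hff,
    ← conv_comm_CF le_rfl (br_self hCL heZ).cf hsf.cf.1] at h3
  have h4 : ∀ x ∈ C, v (idem L e x - f x) < 1 := fun x hx => by
    have := val_sub_trans (h1.lt x) (val_sub_trans (val_sub_symm (h3 x))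
      (val_sub_trans (val_sub_symm (h2.lt x)) (hz.lt x)))
    rwa [cfRes_apply hx] at this
  have h5 : ∀ w ∈ C, (orderOf w).Coprime p → act f χ (u * w) = projB T χ (u * w) := by
    intro w hwC ho
    have hc : u * w = w * u := (mem_centralizer_singleton_iff.1 (hC ▸ hwC).2).symm
    have huC : u ∈ C := hC ▸ ⟨huL, mem_centralizer_singleton_iff.2 rfl⟩
    rw [← act_idem_indicator χ.mem_CF]
    exact (act_eq_act hp hv hu ho hc hCL (mul_mem huC hwC) (idem_mem_CF _) heZ conv_idem_indicator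
      hsf.cf hsf.le hff (fun x hx hxu => hC ▸ ⟨hx, mem_centralizer_singleton_iff.2 hxu⟩) h4
      χ.mem_CF).symm
  by_cases h : χ ∈ T
  · exact Or.inl fun w hw ho => by rw [h5 w hw ho, projB_irr, if_pos h]
  · exact Or.inr fun w hw ho => by rw [h5 w hw ho, projB_irr, if_neg h, Pi.zero_apply]

end CfsgLib.GW
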