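import Cfsg.Agent.Lib.GW.LocalD2

/-!
# The centralizer of an involution is a maximal subgroup

Notation: `S = V t s`, `N = C(t)`.  Suppose `N < H`, `H` maximal.  By `Ut_eq_bot_of_oneCl` and
`nilp2_or_oneCl`, `H` is `2`-nilpotent (`Nilp2`), so solvable, `C_H(F) ≤ F` for `F = F(H)`.
`O₂(H) = 1` (an involution `u` of `O₂(H) ≤ S` would be central in `H`, and `|C(u)| = |C(t)|`).
`π = π(F)`; `N(O_p(H)) = H` for `p ∈ π`.  For an involution `u ∈ S` pick `d ∈ N(S)` with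
`d t d⁻¹ = u` and put `H_u = H^d ≥ C(u)`; `H_u ≠ H_v` for `u ≠ v` (`Nilp2.not_conj`).
Choose `H` such that `t` inverts some `O_r(H) ≠ 1`, if there is such a maximal `H ≥ N`.
Since `t ∉ C(F)` there are `p ∈ π` and `u ∈ {s, ts}` (rename: `u = s`) with
`Y = [C_P(s), t] ≠ 1`, `P = O_p(H)` (`Four.le_of_cent_le`); `Y = [Y, t]`.

Bender's lemmas (any finite group, `A`, `B` subgroups, `π = π(F(A))`, `V_p = O_p(A) ⊓ B`):
* L1: if `C_G(V_p) ≤ A` for all `p ∈ π` and `|π| ≥ 2`, then `[O_q(B), V_p] = 1` for `p ≠ q` in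
  `π` (`Cop.commutator_eq_bot_of_pxq` for `V_q × V_p` on `O_q(B)`), so `O_q(B) ≤ A`, `q ∈ π`.
* L2: if `C_A(F(A)) ≤ F(A)`, `W = F(A) ⊓ B`, `C_{F(A)}(W) ≤ W`, then `O_q(B) ⊓ A = 1` for
  `q ∉ π` (`Cop.commutator_eq_bot_of_nilpotent_of_centralizer_le`).
* L3: `H1.bender_fitting`.

Case `|π| ≥ 2`.
* A proper `M ≥ F⟨t⟩` has `C_M(F(M)) ≤ F(M)`: otherwise (`dichotomy`, `TypeE`) `t` centralizes
  `O(M) ≥ [O_p(H), t]` (`commutator_le_Od`) for all `p`, so `t` centralizes `F`.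
  For `M` maximal L1, L2 give `O_q(M) ≤ H` (`q ∈ π`) and `O_q(M) ⊓ H = 1` (`q ∉ π`; so `q ≠ 2`
  or `O_q(M) = 1`, and `t` inverts `O_q(M)`).  If all the latter are trivial, L3 gives `M = H`.
* U0: a maximal `M ≥ N F` is `H`.  Else `Q = O_q(M) ≠ 1` is inverted by `t`, `q ∉ π`; by the
  choice of `H` some `R = O_r(H) = [R, t] ≠ 1`; it centralizes `Q`
  (`Inverts.commutator_le_cent`), so `Q ≤ C(R) ≤ H`, absurd.
* U1: a maximal `M ≥ F⟨t⟩` is `H`.  Else `Q` as before centralizes `[F, t] ≠ 1`, whose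
  normalizer contains `N F`, so lies in `H` by U0.
* `Y ≤ H_s` centralizes `O_q(H_s)` for `q ≠ p` (`le_cent_of_cent_le`; `C(t) ≤ H` normalizes
  `P`).  Let `M ≥ N(Y)` be maximal; `S ≤ M`; `M` is not of type E (`Y ≤ [P ⊓ M, t] ≤ O(M)`).
  L1 applies to `(H, M)` (`V_p ≥ Z(P)`) and to `(H_s, M)` (`V_p ≥ W₀ = C_{Z(O_p(H_s))}(Y) ≠ 1`
  and `N(W₀) ≥ F(H_s)⟨s⟩`, so `N(W₀) ≤ H_s` by U1).  For `q ∉ π`, `Q = O_q(M)`: `Q ⊓ H = 1` by
  L2, so `t` inverts `Q` and `Y` centralizes `Q`; `Y × (Q ⊓ H_s)` acts on `O_p(H_s)`, so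
  `Q ⊓ H_s` centralizes `F(H_s)` and is trivial; thus `Q ≤ C(ts) ≤ H_{ts}`.
* (*) If `A ∈ {H, H_s, H_{ts}}`, `F(M) ≤ A` and for each `r ∈ π` some `1 ≠ W_r ≤ O_r(A) ⊓ M`
  centralizes all `O_q(M)`, `q ≠ r`, then `O_r(M) ≠ 1` for `r ∈ π`, L1 for `(M, A)` gives
  `F(A) ≤ M` and U1 gives `M = A`.
* If `O_q(M) = 1` for all `q ∉ π`, (*) gives `H = M = H_s`, absurd.  Otherwise let
  `Q = O_q(M) ≠ 1`.  `Z = Z(F) ≤ M`; `[Z, t]` centralizes `Q` and is normalized by `F⟨t⟩`, so is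
  trivial by U1; for `1 ≠ z ∈ Z`, `C(z) ≤ H` by U1, so `C_Q(z) = 1` and `Z` is cyclic
  (`Cop.exists_centralizer_ne_bot_of_not_isCyclic`).  Each `O_q(M) = [O_q(M), t] ≤ [H_{ts}, H_{ts}]`
  (`q ∉ π`) centralizes the cyclic normal subgroup `Z(F(H_{ts}))`, which hence lies in
  `N(Q) = M`; L1 and (*) give `M = H_{ts}`, so `Q ≤ F(H_{ts})`, absurd.

Case `π = {p}`.  `H` is of characteristic `p`, so `H = N(dSub P₀)` for `P₀` Sylow in `H`
(`H1.StableIn.le_normalizer_dSub`, `H1.stableIn_of_abTwo`, `E4.abTwo`); `P₀` is Sylow in `G`, and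
a Sylow `p`-subgroup of `G` lies in exactly one conjugate of `H`.  Let `𝓗` be the set of
conjugates of `H` containing `S`; they are `H^n`, `n ∈ N(S)`, so contain `C(S)`.
`D₀ = C_P(s) ≤ H ⊓ H_s`.
* (GL) Let `W ≥ S D₀` be proper such that for each proper `X ≥ W` some Sylow `p`-subgroup of
  `O(X)` is normalized by `W`.  Then `W` lies in a member of `𝓗`.  Indeed choose `X` with
  `|X|_p` maximal, then `|O(X)|_p` maximal; `T` the Sylow subgroup; `1 ≠ Y ≤ T`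
  (`commutator_le_Od` for `P ⊓ X`); by Frattini replace `X` by `N(T)`: `T = O_p(X)` is Sylow in
  `O(X)`.  A `p`-element `x ∈ X` quadratic on `T` lies in `T`: the `p'`-elements of `⟨x^X⟩`
  centralize `T`; if `|⟨x^X⟩|` is odd or `X` is `Nilp2` then `x ∈ O(X)`; otherwise
  `t ∈ ⟨x^X⟩` (`OneCl.mem_of_not_odd`) centralizes `Y`.  So the proof of
  `le_normalizer_dSub` (it uses `CharIn` only for `dSub Q ≤ O_p`) shows `X ≤ N(dSub Q)` for `Q`
  Sylow in `X`; by maximality `Q` is Sylow in `N(dSub Q) ≥ N(Q)`, so in `G`, and `N(dSub Q)` is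
  a conjugate of `H`.
* (A) Every `S`-invariant `p`-subgroup `R ≥ D₀` lies in a member of `𝓗`: (GL) for `W = R S`, with
  `T = R* ⊓ O(X)`, `R* ≥ R` an `S`-invariant Sylow subgroup of `R O(X)`.
* (B) Let `D ≥ D₀` be an `S`-invariant `p`-subgroup maximal among those lying in two members
  `H_a ≠ H_b` of `𝓗`, `P_a ≥ D` an `S`-invariant Sylow subgroup of `O(H_a)`,
  `A = N_{P_a}(D) > D`, likewise `A'`; `W = ⟨A, A', S⟩ ≤ N(D)`.  For proper `X ≥ W` take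
  `S`-invariant Sylow subgroups `R ≥ A` of `A O(X)`, `R' ≥ A'` of `A' O(X)`; by (A) and the
  choice of `D`, `R ≤ H_a`, `R' ≤ H_b`.  `R ⊓ O(X)` and `R' ⊓ O(X)` are conjugate under
  `C(S)`, so both lie in `H_a ⊓ H_b`, hence in `D`, hence equal `D ⊓ O(X)`, which is therefore
  normalized by `W`.  (GL) puts `A, A'` in one member of `𝓗`, absurd.
-/

set_option autoImplicit false

namespace CfsgLib.GW

open Subgroup Cfsg CfsgLib.FT.BGN CfsgLib.FT.U4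
open scoped commutatorElement

universe u

variable {G : Type u} [Group G] [Finite G]

theorem isCoatom_cent (hG : Hyp G) {t s : G} (h : Four t s) (hU : Ut t ≠ ⊥) : IsCoatom 𝐂[t] := by
  by_contra hc
  have := Fact.mk Nat.prime_two
  have key : ∀ H, IsCoatom H → 𝐂[t] ≤ H → Nilp2 H ∧ pCoreOf 2 H = ⊥ := fun H hH hle => by
    have h1 := (nilp2_or_oneCl hG.e4 H).resolve_right fun e =>
      hU (Ut_eq_bot_of_oneCl hG.toSimp4 h hH.1 hle e.2)
    refine ⟨h1, by_contra fun h0 => hc ?_⟩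
    obtain ⟨u, hu, hu1⟩ := exists_ne_one h0
    have hp := H1.pCoreOf_isPGroup (p := 2) H
    have ou := inv_of_mul_self (hG.e4.mul_self_of_mem hp hu) hu1
    have h2 : H ≤ 𝐂[u] := fun g hg => mem_cent1_of_conj_eq (by_contra fun e =>
      h1.not_conj hG.e4 (s := g * u * g⁻¹) ⟨ou, by rwa [orderOf_conj], hG.e4.comm_of_mem hp hu
        (conj_mem_of_mem_normalizer (H1.le_normalizer_pCoreOf H hg) hu), Ne.symm e⟩
        (H1.pCoreOf_le H hu) hg rfl)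
    obtain ⟨g, rfl⟩ := hG.exists_conj h.ot ou
    rwa [eq_of_le_of_card_le hle ((card_le_of_le h2).trans_eq (by
      rw [cent1_conj, card_map_conj]))]
  obtain ⟨H, hH⟩ : ∃ H, LD.Top t H := by
    by_cases e : ∃ M, IsCoatom M ∧ 𝐂[t] ≤ M ∧ ∃ q : ℕ, q.Prime ∧ pCoreOf q M ≠ ⊥ ∧
      Inverts t (pCoreOf q M)
    · obtain ⟨M, h1, h2, e⟩ := e
      exact ⟨M, h.ot, h1, h2, (key M h1 h2).1, (key M h1 h2).2, fun _ _ _ _ _ _ _ => e⟩
    · obtain ⟨M, h1, h2⟩ := LD.exists_max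
        (hG.ne_top_of_solvable h ((nilp2_cent hG.e4 h.ot).solvable hG.e4))
      exact ⟨M, h.ot, h1, h2, (key M h1 h2).1, (key M h1 h2).2,
        fun K a b q c d f => absurd ⟨K, a, b, q, c, d, f⟩ e⟩
  obtain ⟨p, hp, h0⟩ := hH.exists_not_cent hG
  have hP := H1.le_normalizer_pCoreOf (p := p) H
  obtain ⟨s, h, h1⟩ : ∃ s, Four t s ∧ ¬ pCoreOf p H ⊓ 𝐂[s] ≤ 𝐂[t] := by
    by_contra e
    push Not at e
    exact h0 (h.le_of_cent_le (hH.odd p) ((h.V_le_cent1.trans hH.le).trans hP) inf_le_right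
      (e s h) (e _ h.mul))
  have hn : V t s ≤ 𝐍(pCoreOf p H ⊓ 𝐂[s]) := H1.le_normalizer_inf
    ((h.V_le_cent1.trans hH.le).trans hP) ((V_comm t s ▸ h.symm.V_le_cent1).trans le_normalizer)
  have ht := (zpowers_le_of_mem (t_mem_V t s)).trans hn
  have c : LD.Conf t s H ⁅pCoreOf p H ⊓ 𝐂[s], zpowers t⁆ p := ⟨hH, h,
    fun e => h1 (cent_zpowers t ▸ FT.comm_eq_bot_iff.1 e), comm_le_left ht,
    Cop.commutator_commutator_eq ht (coprime_zpowers_inv h.ot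
      (odd_card_of_le (hH.odd p) inf_le_left)),
    Cop.le_normalizer_commutator hn (h.V_le_cent1.trans (cent_zpowers t ▸ cent_le_norm _))⟩
  refine c.not_two hG fun q => by_contra fun e => c.not_one hG fun r _ hr => by_contra fun e' => ?_
  by_cases hq : r = q
  · exact e ⟨p, hp, fun e => hr (hq.trans e.symm), c.pne⟩
  · exact e ⟨r, ‹_›, hq, e'⟩

end CfsgLib.GW
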