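import Cfsg.Agent.Lib.GW.Struct
import Cfsg.Agent.Lib.GW.Chars
import Cfsg.Agent.Lib.FT.BG15a

/-!
# Maximal subgroups containing the centralizer of an involution: Bender's method
-/

set_option autoImplicit false

namespace CfsgLib.GW.LD

open Subgroup Cfsg CfsgLib.FT CfsgLib.FT.BGN CfsgLib.Cop
open scoped commutatorElement

universe u

section general
variable {G : Type*} [Group G] [Finite G] {A B : Subgroup G}

theorem pc_cop {p q : ℕ} [Fact p.Prime] [Fact q.Prime] (h : p ≠ q) (A B : Subgroup G) :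
    (Nat.card (pCoreOf p A)).Coprime (Nat.card (pCoreOf q B)) :=
  coprime_of_isPGroup_ne (H1.pCoreOf_isPGroup A) (H1.pCoreOf_isPGroup B) h

theorem pc_inf {p q : ℕ} [Fact p.Prime] [Fact q.Prime] (h : p ≠ q) (A B : Subgroup G) :
    pCoreOf p A ⊓ pCoreOf q B = ⊥ := inf_eq_bot_of_cop (pc_cop h A B)

omit [Finite G] in
theorem le_cent_of_comm {X Y P Q : Subgroup G} (h1 : X ≤ P) (h2 : Y ≤ 𝐍(P)) (h3 : Y ≤ Q)
    (h4 : X ≤ 𝐍(Q)) (h : P ⊓ Q = ⊥) : X ≤ 𝐂(Y) :=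
  comm_eq_bot_iff.1 (le_bot_iff.1 (h ▸ le_inf ((commutator_mono h1 le_rfl).trans
    (commutator_le_left_of_le_normalizer h2)) ((commutator_mono le_rfl h3).trans (comm_le_right h4))))

theorem L1 {p q : ℕ} [Fact p.Prime] [Fact q.Prime] (hpq : p ≠ q)
    (h : 𝐂(pCoreOf q A ⊓ B) ≤ A) : pCoreOf q B ≤ 𝐂(pCoreOf p A ⊓ B) := by
  have hB := H1.le_normalizer_pCoreOf (p := q) B
  refine comm_eq_bot_iff.1 (commutator_eq_bot_of_pxq ((H1.pCoreOf_isPGroup A).to_le inf_le_left)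
    (H1.pCoreOf_isPGroup B) (H1.coprime_card_of_isPGroup_of_ne hpq
      ((H1.pCoreOf_isPGroup A).to_le inf_le_left)) (inf_le_right.trans hB) (inf_le_right.trans hB)
    (comm_eq_bot_iff.2 (le_cent_of_comm inf_le_left (inf_le_left.trans ((H1.pCoreOf_le A).trans
      (H1.le_normalizer_pCoreOf A))) inf_le_left (inf_le_left.trans ((H1.pCoreOf_le A).trans
      (H1.le_normalizer_pCoreOf A))) (pc_inf hpq.symm A A)))
    (le_cent_of_comm inf_le_left (inf_le_right.trans hB) inf_le_left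
      ((inf_le_right.trans h).trans (H1.le_normalizer_pCoreOf A)) (pc_inf hpq.symm B A)))

theorem eq_bot_of_cent_fit (hC : A ⊓ 𝐂(fittingOf A) ≤ fittingOf A) {q : ℕ} [Fact q.Prime]
    (hq : pCoreOf q A = ⊥) {Q : Subgroup G} (hQ : IsPGroup q Q) (h1 : Q ≤ A)
    (h2 : Q ≤ 𝐂(fittingOf A)) : Q = ⊥ :=
  le_bot_iff.1 (hq ▸ H1.le_pCoreOf_of_le_fittingOf ((le_inf h1 h2).trans hC) hQ)

theorem cop_fit {q : ℕ} [hq' : Fact q.Prime] (hq : pCoreOf q A = ⊥) {Q : Subgroup G}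
    (hQ : IsPGroup q Q) : (Nat.card Q).Coprime (Nat.card (fittingOf A)) := by
  obtain ⟨k, hk⟩ := hQ.exists_card_eq
  rw [hk]
  refine Nat.Coprime.pow_left _ (hq'.1.coprime_iff_not_dvd.2 fun hd => ?_)
  obtain ⟨X, h1, h2⟩ := exists_card_prime_le hd
  exact ne_bot_of_card_prime h2 (le_bot_iff.1
    (hq ▸ H1.le_pCoreOf_of_le_fittingOf h1 (isPGroup_of_card_prime h2)))

theorem L2 (hC : A ⊓ 𝐂(fittingOf A) ≤ fittingOf A)
    (hW : fittingOf A ⊓ 𝐂(fittingOf A ⊓ B) ≤ B) {q : ℕ} [Fact q.Prime] (hq : pCoreOf q A = ⊥) :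
    pCoreOf q B ⊓ A = ⊥ := by
  have h1 := (H1.pCoreOf_isPGroup (p := q) B).to_le (inf_le_left (b := A))
  have h2 := inf_le_right.trans (le_norm_fittingOf A) (a := pCoreOf q B ⊓ A)
  refine eq_bot_of_cent_fit hC hq h1 inf_le_right (le_centralizer_comm (comm_eq_bot_iff.1
    (commutator_eq_bot_of_nilpotent_of_centralizer_le h2 (cop_fit hq h1) (fittingOf_nil A)
      (C := fittingOf A ⊓ B) inf_le_left (comm_eq_bot_iff.2 (le_cent_of_comm inf_le_left h2
        inf_le_left (inf_le_right.trans (H1.le_normalizer_pCoreOf B))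
        (inf_eq_bot_of_cop (cop_fit hq (H1.pCoreOf_isPGroup B)).symm))) (le_inf inf_le_left hW))))

theorem le_cent_fit {X : Subgroup G} (h : ∀ (q : ℕ) [Fact q.Prime], X ≤ 𝐂(pCoreOf q A)) :
    X ≤ 𝐂(fittingOf A) :=
  le_centralizer_comm (H1.fittingOf_le_of_forall fun q _ => le_centralizer_comm (h q))

theorem pc_le_cent {p q : ℕ} [Fact p.Prime] [Fact q.Prime] (h : p ≠ q) (A : Subgroup G) :
    pCoreOf p A ≤ 𝐂(pCoreOf q A) :=
  le_cent_of_nil (fittingOf_nil A) (H1.pCoreOf_le_fittingOf p A) (H1.pCoreOf_le_fittingOf q A)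
    (pc_cop h A A)

/-- the centre of `O_p(A)` -/
abbrev Zp (p : ℕ) (A : Subgroup G) : Subgroup G := pCoreOf p A ⊓ 𝐂(pCoreOf p A)

theorem Zp_le_cent (p : ℕ) [Fact p.Prime] (A : Subgroup G) : Zp p A ≤ 𝐂(fittingOf A) :=
  le_cent_fit fun q _ => by
    by_cases h : p = q
    · exact h ▸ inf_le_right
    · exact inf_le_left.trans (pc_le_cent h A)

theorem Zp_ne_bot {p : ℕ} [Fact p.Prime] (h : pCoreOf p A ≠ ⊥) : Zp p A ≠ ⊥ :=
  H5.centerOf_ne_bot (H1.pCoreOf_isPGroup A) h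

omit [Finite G] in
theorem le_norm_Zp (p : ℕ) (A : Subgroup G) : A ≤ 𝐍(Zp p A) :=
  le_normalizer_inf_centralizer (H1.le_normalizer_pCoreOf A) (H1.le_normalizer_pCoreOf A)

omit [Finite G] in
theorem inverts_cj {s : G} {K : Subgroup G} (h : Inverts s K) (g : G) :
    Inverts (g * s * g⁻¹) (g •ᶜ K) := by
  rintro _ ⟨x, hx, rfl⟩
  have := h x hx
  change g * s * g⁻¹ * (g * x * g⁻¹) * (g * s * g⁻¹)⁻¹ = (g * x * g⁻¹)⁻¹
  calc _ = g * (s * x * s⁻¹) * g⁻¹ := by group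
    _ = _ := by rw [this]; group

theorem inverts_pc {t : G} (ht : orderOf t = 2) (hA : t ∈ A) {q : ℕ} [hq : Fact q.Prime]
    (h : pCoreOf q A ⊓ 𝐂[t] = ⊥) : Inverts t (pCoreOf q A) ∧ Odd (Nat.card (pCoreOf q A)) := by
  have hn := H1.le_normalizer_pCoreOf (p := q) A hA
  have ho : Odd (Nat.card (pCoreOf q A)) := by
    by_cases h2 : q = 2
    · subst h2
      have : pCoreOf 2 A = ⊥ := by
        by_contra h0
        refine inf_centralizer_ne_bot_of_isNilpotent (isPGroup_sup' (zpowers_le_of_mem hn)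
          (H1.pCoreOf_isPGroup A) (isPGroup_zpowers_inv ht)).isNilpotent le_sup_left
          (sup_le le_normalizer (zpowers_le_of_mem hn)) h0 (le_bot_iff.1 (h ▸ inf_le_inf_left _
            (U4.cent_le_cent1 (mem_sup_right (mem_zpowers t)))))
      rw [this, card_bot]
      exact odd_one
    · exact odd_card_of_isPGroup hq.1 h2 (H1.pCoreOf_isPGroup A)
  exact ⟨inverts_of_inf_cent (mul_self_of_inv ht) ho hn h, ho⟩

theorem le_comm_of_inverts {s : G} {K : Subgroup G} (h : Inverts s K) (ho : Odd (Nat.card K)) :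
    K ≤ ⁅K, zpowers s⁆ := fun x hx =>
  mem_commutator_of_inverted (odd_orderOf_of_mem ho hx) (h x hx) hx

theorem exists_max {X : Subgroup G} (h : X ≠ ⊤) : ∃ M, IsCoatom M ∧ X ≤ M :=
  (eq_top_or_exists_le_coatom X).resolve_left h

end general

variable {G : Type u} [Group G] [Finite G]

/-- a well-chosen maximal subgroup properly containing `C(t)` -/
structure Top (t : G) (H : Subgroup G) : Prop where
  ot : orderOf t = 2
  max : IsCoatom H
  le : 𝐂[t] ≤ H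
  nil : Nilp2 H
  two : pCoreOf 2 H = ⊥
  choice : ∀ M, IsCoatom M → 𝐂[t] ≤ M → ∀ q : ℕ, q.Prime → pCoreOf q M ≠ ⊥ →
    Inverts t (pCoreOf q M) → ∃ r : ℕ, r.Prime ∧ pCoreOf r H ≠ ⊥ ∧ Inverts t (pCoreOf r H)

theorem Top.cj {t : G} {H : Subgroup G} (h : Top t H) (g : G) : Top (g * t * g⁻¹) (g •ᶜ H) := by
  refine ⟨by rw [U4.orderOf_conj, h.ot], isCoatom_map_conj h.max g, cj_cent1 g t ▸ map_mono h.le,
    h.nil.conj g, by rw [H1.pCoreOf_map_conj, h.two, Subgroup.map_bot], fun M hM hle q hq h0 hi => ?_⟩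
  have := inverts_cj hi g⁻¹
  rw [← H1.pCoreOf_map_conj, show g⁻¹ * (g * t * g⁻¹) * g⁻¹⁻¹ = t by group] at this
  obtain ⟨r, hr, h1, h2⟩ := h.choice (g⁻¹ •ᶜ M) (isCoatom_map_conj hM _)
    (by rwa [← cj_cent1, cj_le_iff] at hle) q hq
    (by rwa [H1.pCoreOf_map_conj, Ne, cj_eq_bot_iff]) this
  exact ⟨r, hr, by rwa [H1.pCoreOf_map_conj, Ne, cj_eq_bot_iff],
    H1.pCoreOf_map_conj H g ▸ inverts_cj h2 g⟩

theorem charF (hG : Hyp G) {M Q : Subgroup G} (hM : M ≠ ⊤) {t : G} (ht : orderOf t = 2)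
    (htM : t ∈ M) {p : ℕ} (hp : p.Prime) (hp2 : p ≠ 2) (hQ : IsPGroup p Q) (hQM : Q ≤ M)
    (hn : M ⊓ 𝐂[t] ≤ 𝐍(Q)) (hc : ¬ Q ≤ 𝐂[t]) : M ⊓ 𝐂(fittingOf M) ≤ fittingOf M := by
  refine (dichotomy hG hM).resolve_right fun ⟨L, hL⟩ => hc ?_
  rw [← U4.cent_zpowers, ← comm_eq_bot_iff]
  refine commutator_eq_bot_of_commutator_commutator_eq_bot
    (zpowers_le_of_mem (hn ⟨htM, U4.self_mem_cent1 t⟩))
    (coprime_zpowers_inv ht (odd_card_of_isPGroup hp hp2 hQ)) (comm_eq_bot_iff.2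
      ((commutator_le_Od hG hM ht htM hp hp2 hQ hQM hn).trans
        (le_centralizer_comm (zpowers_le_of_mem (hL.cent (hL.inv_mem t htM ht))))))

/-- at least two primes divide `|F(H)|` -/
def Two (H : Subgroup G) : Prop := ∀ q : ℕ, ∃ (p : ℕ) (_ : Fact p.Prime), p ≠ q ∧ pCoreOf p H ≠ ⊥

namespace Top
variable {t : G} {H : Subgroup G} (h : Top t H) (hG : Hyp G)
include h

omit [Finite G] in
theorem mem : t ∈ H := h.le (U4.self_mem_cent1 t)

omit [Finite G] in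
theorem ne_two {p : ℕ} (hp : pCoreOf p H ≠ ⊥) : p ≠ 2 := fun e => hp (e ▸ h.two)

theorem odd (p : ℕ) [hp : Fact p.Prime] : Odd (Nat.card (pCoreOf p H)) := by
  by_cases e : p = 2
  · rw [e, h.two, card_bot]; exact odd_one
  · exact odd_card_of_isPGroup hp.1 e (H1.pCoreOf_isPGroup H)

include hG

theorem fitC : H ⊓ 𝐂(fittingOf H) ≤ fittingOf H := cent_sub_Fitting (h.nil.solvable hG.e4)

theorem cent_le {X Y : Subgroup G} (h0 : X ≠ ⊥) (h1 : X ≤ H) (h2 : H ≤ 𝐍(X)) (h3 : X ≤ Y) :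
    𝐂(Y) ≤ H :=
  (centralizer_le h3).trans ((cent_le_norm X).trans (hG.norm_eq h.max h0 h1 h2).le)

theorem cent_le' {p : ℕ} [Fact p.Prime] (hp : pCoreOf p H ≠ ⊥) {M : Subgroup G}
    (h3 : Zp p H ≤ M) : 𝐂(pCoreOf p H ⊓ M) ≤ H :=
  h.cent_le hG (Zp_ne_bot hp) (inf_le_left.trans (H1.pCoreOf_le H)) (le_norm_Zp p H)
    (le_inf inf_le_left h3)

theorem not_cent : ¬ fittingOf H ≤ 𝐂[t] := fun e => ne_one_of_inv h.ot (mem_bot.1
  ((eq_bot_of_cent_fit (h.fitC hG) h.two (isPGroup_zpowers_inv h.ot) (zpowers_le_of_mem h.mem)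
    (le_centralizer_comm (U4.cent_zpowers t ▸ e))).le (mem_zpowers t)))

theorem exists_not_cent : ∃ (p : ℕ) (_ : Fact p.Prime), ¬ pCoreOf p H ≤ 𝐂[t] := by
  by_contra hc
  push Not at hc
  exact h.not_cent hG (H1.fittingOf_le_of_forall fun p _ => hc p ‹_›)

/-- the cores of `M` for primes in `π` lie in `H` -/
theorem pc_le (h2 : Two H) {M : Subgroup G}
    (hC : ∀ (p : ℕ) [Fact p.Prime], pCoreOf p H ≠ ⊥ → 𝐂(pCoreOf p H ⊓ M) ≤ H)
    {q : ℕ} [Fact q.Prime] (hq : pCoreOf q H ≠ ⊥) : pCoreOf q M ≤ H :=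
  let ⟨p, _, hp, h0⟩ := h2 q
  (L1 hp (hC q hq)).trans (hC p h0)

theorem exists_inv (h2 : Two H) {M : Subgroup G} (hM : IsCoatom M) (hF : fittingOf H ≤ M)
    (ht : t ∈ M) (hne : M ≠ H) : ∃ (q : ℕ) (_ : Fact q.Prime), pCoreOf q M ≠ ⊥ ∧
      pCoreOf q M ⊓ H = ⊥ ∧ Inverts t (pCoreOf q M) := by
  by_contra hc
  push Not at hc
  obtain ⟨p, hp, h0⟩ := h.exists_not_cent hG
  have h1 := (H1.pCoreOf_le_fittingOf p H).trans hF
  obtain ⟨r, hr, e, -⟩ := H1.bender_fitting hne.symm hF (H1.fittingOf_le_of_forall fun q _ => by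
      by_cases hq : pCoreOf q H = ⊥
      · have h3 := L2 (h.fitC hG) (inf_le_left.trans hF) hq
        by_contra h4
        exact hc q ‹_› (fun e => h4 (e.le.trans bot_le)) h3 (inverts_pc h.ot ht
          (le_bot_iff.1 (h3 ▸ inf_le_inf_left _ h.le))).1
      · exact h.pc_le hG h2 (fun p _ hp => h.cent_le' hG hp
          (inf_le_left.trans ((H1.pCoreOf_le_fittingOf p H).trans hF))) hq) (h.fitC hG)
    (charF hG hM.1 h.ot ht hp.1 (h.ne_two fun e => h0 (e.le.trans bot_le)) (H1.pCoreOf_isPGroup H)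
      h1 ((inf_le_right.trans h.le).trans (H1.le_normalizer_pCoreOf H)) h0)
    (fun q _ hq => inf_le_right.trans
      (hG.norm_eq h.max hq (H1.pCoreOf_le H) (H1.le_normalizer_pCoreOf H)).le)
    fun q _ hq => inf_le_right.trans
      (hG.norm_eq hM hq (H1.pCoreOf_le M) (H1.le_normalizer_pCoreOf M)).le
  obtain ⟨q, _, h3, h4⟩ := h2 r
  have := Fact.mk hr
  exact h4 (le_bot_iff.1 (pc_inf h3 H H ▸ le_inf le_rfl (e ▸ H1.pCoreOf_le_fittingOf q H)))

theorem U0 (h2 : Two H) {M : Subgroup G} (hM : IsCoatom M) (hF : fittingOf H ≤ M)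
    (ht : 𝐂[t] ≤ M) : M = H := by
  by_contra hne
  obtain ⟨q, hq, h0, h1, h3⟩ := h.exists_inv hG h2 hM hF (ht (U4.self_mem_cent1 t)) hne
  obtain ⟨r, hr, h4, h5⟩ := h.choice M hM ht q hq.1 h0 h3
  have := Fact.mk hr
  exact h0 (le_bot_iff.1 (h1 ▸ le_inf le_rfl ((le_centralizer_comm ((le_comm_of_inverts h5
    (h.odd r)).trans (h3.commutator_le_cent (mul_self_of_inv h.ot)
      (((H1.pCoreOf_le_fittingOf r H).trans hF).trans (H1.le_normalizer_pCoreOf M))))).trans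
    (h.cent_le hG h4 (H1.pCoreOf_le H) (H1.le_normalizer_pCoreOf H) le_rfl))))

theorem ne_top {X : Subgroup G} (h0 : X ≠ ⊥) (h1 : X ≤ H) : 𝐍(X) ≠ ⊤ :=
  hG.norm_ne_top h0 fun e => h.max.1 (top_le_iff.1 (e ▸ h1))

theorem U1 (h2 : Two H) {M : Subgroup G} (hM : IsCoatom M) (hF : fittingOf H ≤ M)
    (ht : t ∈ M) : M = H := by
  by_contra hne
  obtain ⟨q, hq, h0, h1, h3⟩ := h.exists_inv hG h2 hM hF ht hne
  obtain ⟨K, hK, h4⟩ := exists_max (h.ne_top hG (X := ⁅fittingOf H, zpowers t⁆)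
    (fun e => h.not_cent hG (U4.cent_zpowers t ▸ comm_eq_bot_iff.1 e))
    ((commutator_le_left_of_le_normalizer (zpowers_le_of_mem (le_norm_fittingOf H h.mem))).trans
      (fittingOf_le H)))
  rw [h.U0 hG h2 hK ((normalizer_commutator_ge_left _ _).trans h4) ((le_normalizer_commutator
    (h.le.trans (le_norm_fittingOf H)) (U4.cent_zpowers t ▸ cent_le_norm _)).trans h4)] at h4
  exact h0 (le_bot_iff.1 (h1 ▸ le_inf le_rfl ((le_centralizer_comm (h3.commutator_le_cent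
    (mul_self_of_inv h.ot) (hF.trans (H1.le_normalizer_pCoreOf M)))).trans
      ((cent_le_norm _).trans h4))))

theorem U1' (h2 : Two H) {X : Subgroup G} (h0 : X ≠ ⊥) (h1 : X ≤ H) (hF : fittingOf H ≤ 𝐍(X))
    (ht : t ∈ 𝐍(X)) : 𝐂(X) ≤ H := by
  obtain ⟨K, hK, h4⟩ := exists_max (h.ne_top hG h0 h1)
  exact (cent_le_norm X).trans (h.U1 hG h2 hK (hF.trans h4) (h4 ht) ▸ h4)

theorem star (h2 : Two H) {M : Subgroup G} (hM : IsCoatom M) (ht : t ∈ M)
    (hC : M ⊓ 𝐂(fittingOf M) ≤ fittingOf M) (hF : fittingOf M ≤ H)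
    (hW : ∀ (r : ℕ) [Fact r.Prime], pCoreOf r H ≠ ⊥ → ∃ W, W ≠ ⊥ ∧ W ≤ pCoreOf r H ⊓ M ∧
      ∀ (q : ℕ) [Fact q.Prime], q ≠ r → W ≤ 𝐂(pCoreOf q M)) : M = H := by
  have h1 : ∀ (r : ℕ) [Fact r.Prime], pCoreOf r H ≠ ⊥ → 𝐂(pCoreOf r M ⊓ H) ≤ M := fun r _ hr => by
    obtain ⟨W, w0, w1, w2⟩ := hW r hr
    have h3 : pCoreOf r M ≠ ⊥ := fun e => w0 (eq_bot_of_cent_fit hC e
      ((H1.pCoreOf_isPGroup H).to_le (w1.trans inf_le_left)) (w1.trans inf_le_right)
      (le_cent_fit fun q _ => by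
        by_cases e' : q = r
        · subst e'; rw [e, cent_bot]; exact le_top
        · exact w2 q e'))
    rw [inf_eq_left.2 ((H1.pCoreOf_le_fittingOf r M).trans hF)]
    exact (cent_le_norm _).trans
      (hG.norm_eq hM h3 (H1.pCoreOf_le M) (H1.le_normalizer_pCoreOf M)).le
  refine h.U1 hG h2 hM (H1.fittingOf_le_of_forall fun q _ => ?_) ht
  by_cases hq : pCoreOf q H = ⊥
  · exact hq.le.trans bot_le
  obtain ⟨p, _, hp, h0⟩ := h2 q
  exact (L1 hp (h1 q hq)).trans (h1 p h0)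

end Top

/-- the configuration: `Y = [C_P(s), t] ≠ 1` -/
structure Conf (t s : G) (H Y : Subgroup G) (p : ℕ) : Prop extends Top t H where
  four : Four t s
  ne : Y ≠ ⊥
  Yle : Y ≤ pCoreOf p H ⊓ 𝐂[s]
  comm : ⁅Y, zpowers t⁆ = Y
  nS : V t s ≤ 𝐍(Y)

namespace Conf
variable {t s : G} {H Y : Subgroup G} {p : ℕ} [hp : Fact p.Prime] (h : Conf t s H Y p) (hG : Hyp G)
include h

omit [Finite G] hp in
theorem YP : Y ≤ pCoreOf p H := h.Yle.trans inf_le_left

omit [Finite G] hp in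
theorem pne : pCoreOf p H ≠ ⊥ := fun e => h.ne (le_bot_iff.1 (e ▸ h.YP))

omit [Finite G] hp in
theorem Yp : IsPGroup p Y := (H1.pCoreOf_isPGroup H).to_le h.YP

omit [Finite G] hp in
theorem not_cent : ¬ Y ≤ 𝐂[t] := fun e =>
  h.ne (h.comm ▸ comm_eq_bot_iff.2 (U4.cent_zpowers t ▸ e))

include hG

omit hp in
theorem exists_conj {u : G} (hu : u ∈ V t s) (h1 : u ≠ 1) (h2 : u ≠ t) :
    ∃ d ∈ 𝐍(V t s), Top u (d •ᶜ H) ∧ d •ᶜ H ≠ H := by
  obtain ⟨d, hd, rfl⟩ := hG.one.exists_norm_conj hG.e4 h.four le_top (t_mem_V t s) hu h.four.t1 h1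
  refine ⟨d, hd.2, h.cj d, fun e => h.nil.not_conj hG.e4 (s := d * t * d⁻¹) ⟨h.ot,
    (h.cj d).ot, h.four.V_le_cent hu t (t_mem_V t s), h2.symm⟩ h.mem ?_ rfl⟩
  exact (hG.norm_eq h.max (fun e' => h.pne (le_bot_iff.1 (e' ▸ H1.pCoreOf_le H))) le_rfl
    le_normalizer).le (mem_normalizer_of_map_conj_eq e)

theorem not_two (h2 : Two H) : False := by
  have h4 := h.four
  obtain ⟨d, -, hs, hne⟩ := h.exists_conj hG (s_mem_V t s) h4.s1 h4.ne.symm
  obtain ⟨e, -, hu, -⟩ := h.exists_conj hG (mul_mem (t_mem_V t s) (s_mem_V t s)) h4.ts1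
    (by simpa using h4.s1)
  have pi : ∀ (g : G) (q : ℕ), pCoreOf q (g •ᶜ H) = ⊥ ↔ pCoreOf q H = ⊥ := fun g q => by
    rw [H1.pCoreOf_map_conj, cj_eq_bot_iff]
  have two : ∀ g : G, Two (g •ᶜ H) := fun g q =>
    let ⟨r, hr, a, b⟩ := h2 q
    ⟨r, hr, a, fun e => b ((pi g r).1 e)⟩
  have pd := pi d
  have pe := pi e
  have hcyc : IsCyclic ↥(fittingOf H ⊓ 𝐂(fittingOf H)) →
      IsCyclic ↥(fittingOf (e •ᶜ H) ⊓ 𝐂(fittingOf (e •ᶜ H))) := fun hc => by
    rw [U4.fit_conj, centralizer_map_conj, ← map_conj_inf]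
    exact isCyclic_cj hc e
  have t2 := two d
  have t3 := two e
  generalize d •ᶜ H = K at *
  generalize e •ᶜ H = L at *
  clear pi two
  have hYH := h.YP.trans (H1.pCoreOf_le H)
  have hYF := h.YP.trans (H1.pCoreOf_le_fittingOf p H)
  have hYK : Y ≤ K := (h.Yle.trans inf_le_right).trans hs.le
  have htK : t ∈ K := hs.le h4.symm.s_cent
  obtain ⟨M, hM, hYM⟩ := exists_max (h.toTop.ne_top hG h.ne hYH)
  have hCM := (cent_le_norm Y).trans hYM
  have hSM := h.nS.trans hYM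
  have htM := hSM (t_mem_V t s)
  have hsM := hSM (s_mem_V t s)
  have hYM' := le_normalizer.trans hYM
  have hC := charF hG hM.1 h.ot htM hp.1 (h.ne_two h.pne) ((H1.pCoreOf_isPGroup H).to_le
    (inf_le_left (b := M))) inf_le_right (H1.le_normalizer_inf ((inf_le_right.trans h.le).trans
      (H1.le_normalizer_pCoreOf H)) (inf_le_left.trans le_normalizer))
    fun e => h.not_cent ((le_inf h.YP hYM').trans e)
  have c1 : ∀ (r : ℕ) [Fact r.Prime], pCoreOf r H ≠ ⊥ → 𝐂(pCoreOf r H ⊓ M) ≤ H := fun r _ hr =>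
    h.cent_le' hG hr (((Zp_le_cent r H).trans (centralizer_le hYF)).trans hCM)
  have k1 : ∀ (q : ℕ) [Fact q.Prime], q ≠ p → pCoreOf q K ≤ M := fun q _ hq =>
    (le_cent_of_cent_le h4.tt h.comm (H1.pCoreOf_isPGroup K).isNilpotent (hs.odd q)
      (H1.le_normalizer_pCoreOf K htK) (hYK.trans (H1.le_normalizer_pCoreOf K))
      (coprime_of_isPGroup_ne h.Yp (H1.pCoreOf_isPGroup K) hq.symm)
      (le_cent_of_comm inf_le_left (hYK.trans (H1.le_normalizer_pCoreOf K)) h.YP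
        ((inf_le_right.trans h.le).trans (H1.le_normalizer_pCoreOf H)) (pc_inf hq K H))).trans hCM
  have c2 : ∀ (r : ℕ) [Fact r.Prime], pCoreOf r K ≠ ⊥ → 𝐂(pCoreOf r K ⊓ M) ≤ K := fun r _ hr => by
    by_cases e : r = p
    swap
    · exact hs.cent_le' hG hr (inf_le_left.trans (k1 r e))
    subst e
    have hn := hYK.trans (le_norm_Zp r K)
    refine (centralizer_le (le_inf (inf_le_left.trans inf_le_left) (inf_le_right.trans hCM) :
      Zp r K ⊓ 𝐂(Y) ≤ _)).trans (hs.U1' hG t2 (fun e => ?_)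
        (inf_le_left.trans (inf_le_left.trans (H1.pCoreOf_le K)))
        ((le_centralizer_comm (inf_le_left.trans (Zp_le_cent r K))).trans (cent_le_norm _))
        (inf_normalizer_le_normalizer_inf ⟨le_norm_Zp r K hs.mem,
          normalizer_le_normalizer_centralizer Y (h.nS (s_mem_V t s))⟩))
    exact inf_centralizer_ne_bot_of_isNilpotent (isPGroup_sup' hn
      ((H1.pCoreOf_isPGroup K).to_le inf_le_left) h.Yp).isNilpotent le_sup_left
      (sup_le le_normalizer hn) (Zp_ne_bot hr)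
      (le_bot_iff.1 (e ▸ inf_le_inf_left _ (centralizer_le (le_sup_right (a := Zp r K)))))
  have q1 : ∀ (q : ℕ) [Fact q.Prime], pCoreOf q H = ⊥ → pCoreOf q M ⊓ H = ⊥ := fun q _ hq =>
    L2 (h.fitC hG) (inf_le_right.trans ((centralizer_le (le_inf hYF hYM')).trans hCM)) hq
  have q2 : ∀ (q : ℕ) [Fact q.Prime], pCoreOf q H = ⊥ →
      Inverts t (pCoreOf q M) ∧ Odd (Nat.card (pCoreOf q M)) := fun q _ hq =>
    inverts_pc h.ot htM (le_bot_iff.1 (q1 q hq ▸ inf_le_inf_left _ h.le))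
  have q3 : ∀ (q : ℕ) [Fact q.Prime], pCoreOf q H = ⊥ → pCoreOf q M ≤ L := fun q _ hq => by
    have hMQ := H1.le_normalizer_pCoreOf (p := q) M
    have a1 : Y ≤ 𝐂(pCoreOf q M) := h.comm ▸ (q2 q hq).1.commutator_le_cent h4.tt (hYM'.trans hMQ)
    have hQ := (H1.pCoreOf_isPGroup (p := q) M).to_le (inf_le_left (b := K))
    have a2 : pCoreOf q M ⊓ K = ⊥ := eq_bot_of_cent_fit (hs.fitC hG) ((pd q).2 hq) hQ inf_le_right
      (le_cent_fit fun r _ => by
        by_cases hr : pCoreOf r K = ⊥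
        · rw [hr, cent_bot]; exact le_top
        have hrq : r ≠ q := fun e => hr (e ▸ (pd q).2 hq)
        have hK := inf_le_right.trans (H1.le_normalizer_pCoreOf (p := r) K) (a := pCoreOf q M ⊓ K)
        refine le_centralizer_comm ?_
        by_cases e : r = p
        swap
        · exact le_cent_of_comm le_rfl hK inf_le_left ((k1 r e).trans hMQ) (pc_inf hrq K M)
        subst e
        exact comm_eq_bot_iff.1 (commutator_eq_bot_of_pxq h.Yp (H1.pCoreOf_isPGroup K)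
          (H1.coprime_card_of_isPGroup_of_ne hrq.symm hQ) (hYK.trans (H1.le_normalizer_pCoreOf K))
          hK (comm_eq_bot_iff.2 (a1.trans (centralizer_le inf_le_left))) (le_cent_of_comm
            inf_le_left hK inf_le_left ((inf_le_right.trans hCM).trans hMQ) (pc_inf hrq K M))))
    have a3 := (inverts_pc hs.ot hsM (le_bot_iff.1 (a2 ▸ inf_le_inf_left _ hs.le))).1
    refine fun x hx => hu.le (U4.mem_cent1_comm.1 (U4.mem_cent1.2 ?_))
    calc t * s * x = t * (s * x * s⁻¹) * t⁻¹ * (t * s) := by group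
      _ = _ := by rw [a3 x hx, (q2 q hq).1 _ (inv_mem hx), inv_inv]
  have w : ∀ {A : Subgroup G} {u : G}, Top u A → ∀ (r : ℕ) [Fact r.Prime],
      𝐂(pCoreOf r A ⊓ M) ≤ A → pCoreOf r A ⊓ M ≠ ⊥ := fun hA r _ hr e => by
    rw [e, cent_bot] at hr
    exact hA.max.1 (top_le_iff.1 hr)
  by_cases h0 : ∀ (q : ℕ) [Fact q.Prime], pCoreOf q H = ⊥ → pCoreOf q M = ⊥
  · have key : ∀ {A : Subgroup G} {u : G}, Top u A → Two A → u ∈ M →
        (∀ q, pCoreOf q A = ⊥ ↔ pCoreOf q H = ⊥) → (∀ (r : ℕ) [Fact r.Prime], pCoreOf r A ≠ ⊥ →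
          𝐂(pCoreOf r A ⊓ M) ≤ A) → M = A := fun hA a2 hu pa c =>
      hA.star hG a2 hM hu hC (H1.fittingOf_le_of_forall fun q _ => by
        by_cases hq : pCoreOf q H = ⊥
        · exact (h0 q hq).le.trans bot_le
        · exact hA.pc_le hG a2 c fun e => hq ((pa q).1 e)) fun r _ hr =>
        ⟨_, w hA r (c r hr), le_rfl, fun q _ hq => by
          by_cases hq' : pCoreOf q H = ⊥
          · rw [h0 q hq', cent_bot]; exact le_top
          · exact le_centralizer_comm (L1 hq.symm (c q fun e => hq' ((pa q).1 e)))⟩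
    exact hne ((key hs t2 hsM pd c2).symm.trans (key h.toTop h2 htM (fun _ => Iff.rfl) c1))
  push Not at h0
  obtain ⟨q, _, hq, hQ⟩ := h0
  have hMQ := H1.le_normalizer_pCoreOf (p := q) M
  have nQ : ¬ pCoreOf q M ≤ H := fun e => hQ (le_bot_iff.1 (q1 q hq ▸ le_inf le_rfl e))
  set Z := fittingOf H ⊓ 𝐂(fittingOf H)
  have hZM : Z ≤ M := inf_le_right.trans ((centralizer_le hYF).trans hCM)
  have hZH : Z ≤ H := inf_le_left.trans (fittingOf_le H)
  have hZn : H ≤ 𝐍(Z) := le_normalizer_inf_centralizer (le_norm_fittingOf H) (le_norm_fittingOf H)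
  have z0 : ⁅Z, zpowers t⁆ ≤ Z := commutator_le_left_of_le_normalizer (zpowers_le_of_mem (hZn h.mem))
  have z1 : ⁅Z, zpowers t⁆ = ⊥ := by
    by_contra e
    exact nQ ((le_centralizer_comm ((q2 q hq).1.commutator_le_cent h4.tt (hZM.trans hMQ))).trans
      (h.U1' hG h2 e (z0.trans hZH) ((le_centralizer_comm (z0.trans inf_le_right)).trans
        (cent_le_norm _)) (normalizer_commutator_ge_right _ _ (mem_zpowers t))))
  have z2 : IsCyclic Z := by
    by_contra e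
    obtain ⟨z, hz, hz1, e'⟩ := exists_centralizer_ne_bot_of_not_isCyclic (A := Z)
      ⟨⟨fun a b => Subtype.ext (b.2.2 a a.2.1)⟩⟩ e (hZM.trans hMQ)
      (coprime_mono (cop_fit hq (H1.pCoreOf_isPGroup M)).symm inf_le_left le_rfl) hQ
    have a := zpowers_le_of_mem hz
    refine e' (le_bot_iff.1 (q1 q hq ▸ inf_le_inf_left _ (U4.cent_zpowers z ▸ h.U1' hG h2
      (by simpa using hz1) (a.trans hZH) ((le_centralizer_comm (a.trans inf_le_right)).trans
        (cent_le_norm _)) (cent_le_norm _ (le_centralizer_comm (a.trans (comm_eq_bot_iff.1 z1))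
          (mem_zpowers t))))))
  have z3 := hcyc z2
  set Z' := fittingOf L ⊓ 𝐂(fittingOf L)
  have hZ' : L ≤ 𝐍(Z') := le_normalizer_inf_centralizer (le_norm_fittingOf L) (le_norm_fittingOf L)
  have htL : t ∈ L := hu.le h4.mul.symm.s_cent
  have z4 : ∀ (r : ℕ) [Fact r.Prime], pCoreOf r H = ⊥ → Z' ≤ 𝐂(pCoreOf r M) := fun r _ hr =>
    le_centralizer_comm ((le_comm_of_inverts (q2 r hr).1 (q2 r hr).2).trans ((commutator_mono
      (q3 r hr) (zpowers_le_of_mem htL)).trans (U4.B14.der_le_cent_of_cyclic z3 hZ')))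
  have z5 : ∀ (r : ℕ) [Fact r.Prime], Zp r L ≤ Z' := fun r _ =>
    le_inf (inf_le_left.trans (H1.pCoreOf_le_fittingOf r L)) (Zp_le_cent r L)
  have z6 : Z' ≤ M := (z4 q hq).trans ((cent_le_norm _).trans
    (hG.norm_eq hM hQ (H1.pCoreOf_le M) hMQ).le)
  have c3 : ∀ (r : ℕ) [Fact r.Prime], pCoreOf r L ≠ ⊥ → 𝐂(pCoreOf r L ⊓ M) ≤ L := fun r _ hr =>
    hu.cent_le' hG hr ((z5 r).trans z6)
  have := hu.star hG t3 hM (mul_mem htM hsM) hC (H1.fittingOf_le_of_forall fun r _ => by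
      by_cases hr : pCoreOf r H = ⊥
      · exact q3 r hr
      · exact hu.pc_le hG t3 c3 fun e => hr ((pe r).1 e)) fun r _ hr =>
    ⟨Zp r L, Zp_ne_bot hr, le_inf inf_le_left ((z5 r).trans z6), fun q' _ hq' => by
      by_cases e : pCoreOf q' H = ⊥
      · exact (z5 r).trans (z4 q' e)
      · exact (le_inf inf_le_left ((z5 r).trans z6)).trans
          (le_centralizer_comm (L1 hq'.symm (c3 q' fun e' => e ((pe q').1 e'))))⟩
  exact hQ (this ▸ (pe q).2 hq)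

end Conf

end CfsgLib.GW.LD
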