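import Cfsg.Agent.Lib.GW.Count1
import Cfsg.Agent.Lib.GW.Count2
import Cfsg.Agent.Lib.GW.LocalD1
import Cfsg.Agent.Lib.FrobZGroup

/-!
# Normalizers of subgroups of `C_P(s)`, `P = O_p(O(C(t)))`
-/

set_option autoImplicit false

namespace CfsgLib.GW

open Subgroup Cfsg CfsgLib.FT.BGN CfsgLib.FT.U4
open scoped commutatorElement

universe u

section general

variable {G : Type*} [Group G] [Finite G]

theorem comm_le_cent_of {s : G} (hs : s * s = 1) {H Q : Subgroup G} (hH : H ≤ 𝐍(Q))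
    (h : Q ≤ 𝐂[s] ∨ Inverts s Q) : ⁅H, zpowers s⁆ ≤ 𝐂(Q) := by
  rcases h with h | h
  · exact (commutator_mono le_rfl (zpowers_le.2 (mem_cent.2 fun x hx => mem_cent1.1 (h hx)))).trans
      (comm_le_right (hH.trans (norm_le_norm_cent Q)))
  · exact h.commutator_le_cent hs hH

theorem exists_mul_mem_of_sup {y a : G} (hy : (orderOf y).Prime) {T : Subgroup G} (hn : y ∈ 𝐍(T))
    (ha : a ∈ zpowers y ⊔ T) (ha' : a ∉ T) : ∃ τ ∈ T, y * τ ∈ zpowers a := by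
  have haT : zpowers a ≤ 𝐍(T) := zpowers_le.2 (sup_le (zpowers_le.2 hn) le_normalizer ha)
  obtain ⟨b, hb, τ, hτ, rfl⟩ := (mem_sup_iff_of_le_normalizer (zpowers_le.2 hn)).1 ha
  have h1 : b ≠ 1 := by
    rintro rfl
    exact ha' (by rwa [one_mul])
  have h2 : b ∈ zpowers (b * τ) ⊔ T := by
    simpa using mul_mem (mem_sup_left (mem_zpowers (b * τ))) (mem_sup_right (inv_mem hτ))
  have h3 := zpowers_eq_of_card_prime (by rwa [Nat.card_zpowers]) hb h1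
  obtain ⟨a', ha', τ', hτ', e⟩ := (mem_sup_iff_of_le_normalizer haT).1
    (zpowers_le.2 h2 (h3.ge (mem_zpowers y)))
  exact ⟨τ'⁻¹, inv_mem hτ', by rwa [← e, mul_inv_cancel_right]⟩

theorem relIndex_norm_le {y : G} (hy : (orderOf y).Prime) {T U : Subgroup G}
    (h : ∀ u ∈ U, ∃ τ ∈ T, y * τ ≠ 1 ∧ y * τ ∈ zpowers (u * y * u⁻¹)) :
    (𝐍(zpowers y)).relIndex U ≤ Nat.card T := by
  choose! f h1 h2 h3 using h
  refine Nat.card_le_card_of_injective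
    (fun q : U ⧸ (𝐍(zpowers y)).subgroupOf U => (⟨f q.out, h1 _ q.out.2⟩ : T)) fun q q' e => ?_
  have e' : f q.out = f q'.out := congrArg Subtype.val e
  have h4 : ∀ u ∈ U, zpowers (y * f u) = u •ᶜ zpowers y := fun u hu => by
    rw [← zpowers_conj]
    exact zpowers_eq_of_card_prime (by rwa [Nat.card_zpowers, orderOf_conj]) (h3 u hu) (h2 u hu)
  rw [← q.out_eq', ← q'.out_eq', QuotientGroup.eq, mem_subgroupOf]
  refine mem_normalizer_of_map_conj_eq ?_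
  rw [Subgroup.coe_mul, map_conj_mul, ← h4 _ q'.out.2, ← e', h4 _ q.out.2]
  exact map_conj_inv_map_conj _ _

theorem relIndex_cent_le {y : G} {T P : Subgroup G} (h : ∀ g ∈ P, ⁅g, y⁆ ∈ T) :
    (𝐂[y]).relIndex P ≤ Nat.card T := by
  refine Nat.card_le_card_of_injective
    (fun q : P ⧸ (𝐂[y]).subgroupOf P => (⟨⁅(q.out : G), y⁆, h _ q.out.2⟩ : T)) fun q q' e => ?_
  have e' : ⁅(q.out : G), y⁆ = ⁅(q'.out : G), y⁆ := congrArg Subtype.val e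
  rw [← q.out_eq', ← q'.out_eq', QuotientGroup.eq, mem_subgroupOf]
  refine mem_cent1_of_conj_eq ?_
  simp only [commutatorElement_def, mul_left_inj] at e'
  rw [Subgroup.coe_mul, Subgroup.coe_inv, show (q.out : G)⁻¹ * q'.out * y * ((q.out : G)⁻¹ * q'.out)⁻¹ =
    (q.out : G)⁻¹ * (q'.out * y * (q'.out : G)⁻¹) * q.out by group, ← e']
  group

namespace EData

variable {X L : Subgroup G} {t s k : G} (h : EData X L t s k)
include h

theorem mem_k (hE : E4 G) {i : G} (hi : i ∈ Ut t) (hn : i ∈ 𝐍(X)) (e : s * i * s⁻¹ = i⁻¹) :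
    i ∈ zpowers k :=
  (h.psl.mem_iff hE h.four.ot).2 ⟨mem_of_inverted (odd_of_mem_Ut hi) e h.smem (h.norm hn), hi⟩

theorem mem_c (hE : E4 G) {x c : G} (hx : x ∈ Ut t) (hc : c ∈ Ut t) (hxn : x ∈ 𝐍(X))
    (hcn : c ∈ 𝐍(X)) (ex : s * x * s⁻¹ = x⁻¹) (ec : s * c * s⁻¹ = c⁻¹) (ho : x ^ orderOf c = 1) :
    x ∈ zpowers c :=
  Frob.mem_zpowers_of_isCyclic (h.mem_k hE hc hcn ec) (h.mem_k hE hx hxn ex) ho

omit [Finite G] in
theorem not_le : ¬ L ≤ 𝐂[t] := fun hle => by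
  obtain ⟨g, hg, e⟩ := h.one t h.tmem s h.smem h.four.ot h.four.os
  exact h.four.ne ((conj_eq_of_mem_cent1 (hle hg)).symm.trans e)

theorem not_le_norm (hG : Simp4 G) (hmax : IsCoatom 𝐂[t]) (h0 : X ≠ ⊥) (hX : X ≤ 𝐂[t]) :
    ¬ Ut t ≤ 𝐍(X) := fun hle =>
  h.not_le (h.L_le.trans (hG.norm_eq hmax h0 hX ((IsComplIn.sup_eq (h.four.isComplIn hG.e4)).ge.trans
    (sup_le hle (h.V_le_L.trans h.L_le)))).le)

end EData

theorem EData.not_inv {L : Subgroup G} {t s k y : G} (h : EData (zpowers y) L t s k)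
    (ho : Odd (orderOf y)) (h1 : y ≠ 1) (g : G) : s * (g * y * g⁻¹) * s⁻¹ ≠ (g * y * g⁻¹)⁻¹ := by
  intro e
  have h2 : g⁻¹ * s * g⁻¹⁻¹ * y * (g⁻¹ * s * g⁻¹⁻¹)⁻¹ = y⁻¹ := by
    rw [show g⁻¹ * s * g⁻¹⁻¹ * y * (g⁻¹ * s * g⁻¹⁻¹)⁻¹ = g⁻¹ * (s * (g * y * g⁻¹) * s⁻¹) * g by
      group, e]
    group
  exact h1 (eq_one_of_inv_of_comm ho h2 (mem_cent.1 (h.cent (h.inv_mem _
    (inverts_zpowers h2).mem_norm (by rw [orderOf_conj, h.four.os]))) y (mem_zpowers y)))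

end general

variable {G : Type u} [Group G] [Finite G]

/-- `s` neither centralizes nor inverts `O_p(U)`. -/
structure T3 (t s : G) (p : ℕ) : Prop where
  hyp : Hyp G
  four : Four t s
  max : IsCoatom 𝐂[t]
  A : pCoreOf p (Ut t) ⊓ 𝐂[s] ≠ ⊥
  P : ¬ pCoreOf p (Ut t) ≤ 𝐂[s]

theorem cent_le_norm_pc (t : G) (q : ℕ) : 𝐂[t] ≤ 𝐍(pCoreOf q (Ut t)) :=
  (cent_le_norm_Ut t).trans (H1.normalizer_le_normalizer_pCoreOf _)

theorem ne_two_of_pc {t : G} {q : ℕ} [Fact q.Prime] (h : pCoreOf q (Ut t) ≠ ⊥) : q ≠ 2 := by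
  rintro rfl
  obtain ⟨k, hk⟩ := (H1.pCoreOf_isPGroup (p := 2) (Ut t)).exists_card_eq
  have := odd_card_of_le (odd_Ut t) (H1.pCoreOf_le (p := 2) (Ut t))
  rw [hk] at this
  rcases k with _ | k
  · exact h (card_eq_one.1 hk)
  · exact absurd this (by simp [Nat.even_pow])

namespace T3

variable {t s : G} {p : ℕ} [hp : Fact p.Prime] (h : T3 t s p)
include h

omit hp [Finite G] in
theorem e4 : E4 G := h.hyp.e4

omit hp in
theorem norm_eq {X : Subgroup G} (h0 : X ≠ ⊥) (h1 : X ≤ Ut t) (h2 : 𝐂[t] ≤ 𝐍(X)) :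
    𝐍(X) = 𝐂[t] := h.hyp.toSimp4.norm_eq h.max h0 (h1.trans (Ut_le t)) h2

omit hp in
theorem cent_le {X : Subgroup G} (h0 : X ≠ ⊥) (h1 : X ≤ Ut t) (h2 : 𝐂[t] ≤ 𝐍(X)) :
    𝐂(X) ≤ 𝐂[t] := (cent_le_norm X).trans (h.norm_eq h0 h1 h2).le

omit hp [Finite G] in
theorem P_ne : pCoreOf p (Ut t) ≠ ⊥ := fun e => h.P (e.le.trans bot_le)

theorem p2 : p ≠ 2 := ne_two_of_pc h.P_ne

theorem exists_i {X : Subgroup G} (hX : X ≤ pCoreOf p (Ut t) ⊓ 𝐂[s]) :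
    ∃ i ∈ pCoreOf p (Ut s) ⊓ 𝐂(X), i ≠ 1 ∧ t * i * t⁻¹ = i⁻¹ := by
  have h4 := h.four
  have hXB : X ≤ Ut s ⊓ 𝐂[t] := h4.B_symm h.e4 ▸ hX.trans (inf_le_inf_right _ (H1.pCoreOf_le _))
  have ht := cent_le_norm_pc s p h4.symm.s_cent
  have htX : t ∈ 𝐂(X) := mem_cent.2 fun x hx => mem_cent1.1 (hXB hx).2
  refine exists_inverted h4.tt (odd_card_of_le (odd_Ut s) (inf_le_left.trans (H1.pCoreOf_le _)))
    (mem_norm_inf ht (norm_le_norm_cent X (cent_le_norm X htX))) fun hle => h.P ?_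
  have h1 := Cop.commutator_eq_bot_of_pxq ((H1.pCoreOf_isPGroup _).to_le (hX.trans inf_le_left))
    (H1.pCoreOf_isPGroup (Ut s)) (Q := zpowers t)
    (coprime_zpowers_inv h4.ot (hp.1.odd_of_ne_two h.p2))
    ((hXB.trans inf_le_left).trans (H1.le_normalizer_pCoreOf _)) (zpowers_le.2 ht)
    (commutator_eq_bot_iff_le_centralizer.2 (by rw [cent_zpowers]; exact hXB.trans inf_le_right))
    (by rwa [cent_zpowers])
  rw [commutator_eq_bot_iff_le_centralizer, cent_zpowers] at h1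
  obtain ⟨d, ⟨-, hd⟩, e⟩ := h.hyp.one.exists_norm_conj h.e4 h4 le_top (t_mem_V t s) (s_mem_V t s)
    h4.t1 h4.s1
  rw [← conj_le_conj_iff (g := d), ← H1.pCoreOf_map_conj, ← Ut_conj, ← cent1_conj, e,
    h4.conj_s h.e4 hd e]
  exact fun x hx => mem_cent1_comm.1 (mul_mem (mem_cent1_comm.1 (h1 hx))
    (mem_cent1_comm.1 (Ut_le s (H1.pCoreOf_le _ hx))))

variable {X : Subgroup G} (h0 : X ≠ ⊥) (hX : X ≤ pCoreOf p (Ut t) ⊓ 𝐂[s])
include hX

omit h in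
theorem le_fit : X ≤ fittingOf (Ut t) := (hX.trans inf_le_left).trans (H1.pCoreOf_le_fittingOf p _)

omit h hp in
theorem V_le_cent : V t s ≤ 𝐂(X) := V_le
  (mem_cent.2 fun _ hx => mem_cent1.1 (Ut_le t (H1.pCoreOf_le _ (hX hx).1)))
  (mem_cent.2 fun _ hx => mem_cent1.1 (hX hx).2)

theorem pc_le_cent {q : ℕ} [Fact q.Prime] (hq : pCoreOf q (Ut t) ≠ ⊥) :
    pCoreOf q 𝐍(X) ≤ 𝐂[t] := by
  have hZ : LD.Zp q (Ut t) ≤ Ut t := inf_le_left.trans (H1.pCoreOf_le _)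
  have hn := H1.le_normalizer_pCoreOf (p := q) 𝐍(X)
  have h1 := Cop.commutator_eq_bot_of_pxq (P := LD.Zp q (Ut t))
    ((H1.pCoreOf_isPGroup _).to_le inf_le_left) (H1.pCoreOf_isPGroup 𝐍(X)) (Q := zpowers t)
    (coprime_zpowers_inv h.four.ot ((Fact.out : q.Prime).odd_of_ne_two (ne_two_of_pc hq)))
    ((((LD.Zp_le_cent q _).trans (centralizer_le (le_fit hX))).trans (cent_le_norm X)).trans hn)
    (zpowers_le.2 (hn (cent_le_norm X (V_le_cent hX (t_mem_V t s)))))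
    (commutator_eq_bot_iff_le_centralizer.2 (by rw [cent_zpowers]; exact hZ.trans (Ut_le t)))
    (by
      rw [cent_zpowers]
      exact inf_le_right.trans (h.cent_le (LD.Zp_ne_bot hq) hZ
        (Cop.le_normalizer_inf_centralizer (cent_le_norm_pc t q) (cent_le_norm_pc t q))))
  rwa [commutator_eq_bot_iff_le_centralizer, cent_zpowers] at h1

omit h in
theorem pc_inf {q : ℕ} [Fact q.Prime] (hq : pCoreOf q (Ut t) = ⊥) : pCoreOf q 𝐍(X) ⊓ Ut t = ⊥ :=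
  LD.L2 (FT.cent_sub_Fitting (solvable_Ut t)) (inf_le_right.trans ((centralizer_le
    (le_inf (le_fit hX) le_normalizer : X ≤ _)).trans (cent_le_norm X))) hq

include h0

theorem ne_top : 𝐍(X) ≠ ⊤ := h.hyp.toSimp4.norm_ne_top' h.four h0
  (isSolvable_of_le (solvable_Ut t) ((hX.trans inf_le_left).trans (H1.pCoreOf_le _)))

theorem typeE : ∃ L, TypeE 𝐍(X) L := by
  refine (dichotomy h.hyp (h.ne_top h0 hX)).resolve_left fun hC => ?_
  have hV := (V_le_cent hX).trans (cent_le_norm X)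
  have ht := hV (t_mem_V t s)
  have h1 : ⁅𝐍(X), zpowers t⁆ ≤ 𝐂(fittingOf 𝐍(X)) := LD.le_cent_fit fun q hq => by
    refine comm_le_cent_of h.four.tt (H1.le_normalizer_pCoreOf _) ?_
    by_cases h2 : q = 2
    · subst h2
      exact Or.inl ((h.four.le_V h.e4 (H1.pCoreOf_isPGroup _)
        (hV.trans (H1.le_normalizer_pCoreOf _))).trans h.four.V_le_cent1)
    by_cases h3 : pCoreOf q (Ut t) = ⊥
    · refine Or.inr (LD.inverts_pc h.four.ot ht (le_bot_iff.1 ?_)).1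
      rw [← pc_inf hX h3]
      exact le_inf inf_le_left (le_Ut h.e4 h.four.ot inf_le_right (odd_card_of_isPGroup hq.1 h2
        ((H1.pCoreOf_isPGroup _).to_le inf_le_left)))
    · exact Or.inl (h.pc_le_cent hX h3)
  obtain ⟨i, hi, hi1, e⟩ := h.exists_i hX
  have ho := odd_of_mem_Ut (H1.pCoreOf_le _ hi.1)
  have hiM := cent_le_norm X hi.2
  have h2 := hC ⟨hiM, h1 (mem_commutator_of_inverted ho e hiM)⟩
  have h3 := H1.le_pCoreOf_of_le_fittingOf (zpowers_le.2 h2)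
    ((H1.pCoreOf_isPGroup _).to_le (zpowers_le.2 hi.1)) (mem_zpowers i)
  exact hi1 (eq_one_of_inv_of_comm ho e (mem_cent1.1 (h.pc_le_cent hX h.P_ne h3)))

omit h0 hX in
/-- `s` centralizes no `O_q(U) ≠ 1`. -/
theorem no_one {q : ℕ} [Fact q.Prime] (hq : pCoreOf q (Ut t) ≤ 𝐂[s]) : pCoreOf q (Ut t) = ⊥ := by
  by_contra hne
  have hqp : q ≠ p := by
    rintro rfl
    exact h.P hq
  obtain ⟨L, hL⟩ := h.typeE h.A le_rfl
  have hV := (V_le_cent (le_refl (pCoreOf p (Ut t) ⊓ 𝐂[s]))).trans (cent_le_norm _)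
  have ht := hL.inv_mem t (hV (t_mem_V t s)) h.four.ot
  have hs := hL.inv_mem s (hV (s_mem_V t s)) h.four.os
  obtain ⟨i, hi, hi1, e⟩ := h.exists_i le_rfl
  have ho := odd_of_mem_Ut (H1.pCoreOf_le _ hi.1)
  have hiL := mem_of_inverted ho e ht (hL.norm (cent_le_norm _ hi.2))
  obtain ⟨d, hd, e'⟩ := hL.one.exists_norm_conj h.e4 h.four (V_le ht hs) (t_mem_V t s)
    (s_mem_V t s) h.four.t1 h.four.s1
  refine hi1 (eq_one_of_inv_of_comm ho e (mem_cent1.1 (h.cent_le hne (H1.pCoreOf_le _)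
    (cent_le_norm_pc t q) (mem_cent.2 fun b hb => ?_))))
  have hbU := H1.pCoreOf_le _ hb
  have h1 := hL.comm t ht s hs h.four b ⟨cent_le_norm _ (centralizer_le inf_le_left
    (LD.pc_le_cent hqp _ hb)), ((h.four.mem_B h.e4).1 ⟨hbU, hq hb⟩).1⟩ (odd_of_mem_Ut hbU) d hd
  have h2 : d * b * d⁻¹ ∈ pCoreOf q (Ut s) := by
    rw [← e', Ut_conj, H1.pCoreOf_map_conj]
    exact conj_mem_map_conj hb
  have h3 := mem_cent.1 (hL.cent hiL) _ h1
  have h4 := mem_cent.1 (LD.pc_le_cent hqp.symm _ hi.1) _ h2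
  rw [show b = ⁅b, d⁆ * (d * b * d⁻¹) by simp only [commutatorElement_def]; group, mul_assoc, h4,
    ← mul_assoc, h3, mul_assoc]

theorem exists_ed : ∃ L k, EData X L t s k ∧ TypeE 𝐍(X) L ∧ L ⊓ Od 𝐍(X) = ⊥ := by
  obtain ⟨L, hL⟩ := h.typeE h0 hX
  have hV := (V_le_cent hX).trans (cent_le_norm _)
  have ht := hL.inv_mem t (hV (t_mem_V t s)) h.four.ot
  have hs := hL.inv_mem s (hV (s_mem_V t s)) h.four.os
  have hZ : L ⊓ Od 𝐍(X) = ⊥ := by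
    by_contra hne
    obtain ⟨r, hr, hd⟩ := exists_prime_dvd_card hne
    have : Fact r.Prime := ⟨hr⟩
    have hZc : L ⊓ Od 𝐍(X) ≤ 𝐂(L) := inf_le_right.trans (le_centralizer_iff.1 hL.cent)
    have hZo := odd_card_of_le (odd_Od 𝐍(X)) (inf_le_right (a := L))
    have hr1 : pCoreOf r (Ut t) ≠ ⊥ := fun e => by
      obtain ⟨Y, hY, hYr⟩ := exists_card_prime hr hd
      refine ne_bot_of_card_prime (hYr ▸ hr) (le_bot_iff.1 (pc_inf hX e ▸ le_inf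
        (H1.le_pCoreOf_of_le_fittingOf (hY.trans (FT.U4.le_fit (inf_le_right.trans (Od_le _))
          (H1.le_normalizer_inf hL.norm (le_norm_Od _)) (isNilpotent_of_comm
            (isMulCommutative_of_le_cent (hZc.trans (centralizer_le inf_le_left))))))
          (isPGroup_of_card_eq hYr))
        (hY.trans (le_Ut h.e4 h.four.ot (hZc.trans (cent_le_cent1 ht)) hZo))))
    have hr2 := ne_two_of_pc hr1
    have key : ∀ (a : G) (i : G), i ∈ pCoreOf r (Ut a) → i ≠ 1 →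
        r ∣ orderOf i ∧ IsPGroup r (zpowers i) := fun a i hi hi1 => by
      have h1 := (H1.pCoreOf_isPGroup _).to_le (zpowers_le.2 hi)
      obtain ⟨n, hn⟩ := isPGroup_zpowers_iff.1 h1
      refine ⟨hn ▸ dvd_pow_self r ?_, h1⟩
      rintro rfl
      exact hi1 (orderOf_eq_one_iff.1 hn)
    by_cases hrp : r = p
    · subst hrp
      obtain ⟨i, hi, hi1, e⟩ := h.exists_i hX
      have hiU := H1.pCoreOf_le _ hi.1
      exact hL.zbot s hs t ht h.four.symm r hr i ⟨mem_of_inverted (odd_of_mem_Ut hiU) e ht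
        (hL.norm (cent_le_norm _ hi.2)), Ut_le s hiU⟩ (key s i hi.1 hi1).1 (key s i hi.1 hi1).2
        hr2 e hd
    · obtain ⟨i, hi, hi1, e⟩ := exists_inverted h.four.ss
        (odd_card_of_le (odd_Ut t) (H1.pCoreOf_le _)) (cent_le_norm_pc t r h.four.s_cent)
        fun hle => hr1 (h.no_one hle)
      have hiU := H1.pCoreOf_le _ hi
      exact hL.zbot t ht s hs h.four r hr i ⟨mem_of_inverted (odd_of_mem_Ut hiU) e hs
        (hL.norm (cent_le_norm _ (centralizer_le (hX.trans inf_le_left)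
          (LD.pc_le_cent hrp _ hi)))), Ut_le t hiU⟩ (key t i hi hi1).1 (key t i hi hi1).2 hr2 e hd
  obtain ⟨k, hk⟩ := hL.psl hZ t ht s hs h.four
  exact ⟨L, k, ⟨h.four, hL.cent.trans (centralizer_le (le_Od le_normalizer le_rfl
    (odd_card_of_le (odd_Ut t) ((hX.trans inf_le_left).trans (H1.pCoreOf_le _))))), hL.norm,
    hL.inv_mem, hL.one, ht, hs, hk⟩, hL, hZ⟩

omit h0 hX

theorem fusion {n : G} (hn : n ∈ 𝐍(V t s)) :
    ∃ c ∈ Ut t ⊓ 𝐂[s], ∀ b ∈ Ut t ⊓ 𝐂[s], n * b * n⁻¹ = c * b * c⁻¹ := by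
  obtain ⟨L, k, hE, hL, hZ⟩ := h.exists_ed h.A le_rfl
  obtain ⟨c, hc, d, hd, rfl⟩ := hL.one.exists_cent_mul h.e4 h.four hE.V_le_L hn
  obtain ⟨b', hb', v, hv, rfl⟩ := h.four.exists_mul_B h.e4 hc
  refine ⟨b', hb', fun b hb => ?_⟩
  have h1 := mul_mem (mul_mem hb' hb) (inv_mem hb')
  have h2 := (h.four.mem_B h.e4).1 h1
  have h3 : b' * b * b'⁻¹ ∈ 𝐍(pCoreOf p (Ut t) ⊓ 𝐂[s]) :=
    mem_norm_inf (H1.le_normalizer_pCoreOf _ h1.1) (mem_norm_cent1 h1.2)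
  have h4 := eq_one_of_mem_inf hZ (mul_mem (conj_mem_of_mem_normalizer (hL.norm h3) hd.1)
    (inv_mem hd.1)) (hL.comm t hE.tmem s hE.smem h.four _ ⟨h3, h2.1⟩ h2.2 d hd)
  have h5 := mem_cent.1 ((h.four.mem_B h.e4).1 hb).1 v hv
  calc d * (b' * v) * b * (d * (b' * v))⁻¹ = d * (b' * (v * b) * v⁻¹ * b'⁻¹) * d⁻¹ := by group
    _ = d * (b' * b * b'⁻¹) * d⁻¹ := by rw [h5]; group
    _ = (b' * b * b'⁻¹) * ((b' * b * b'⁻¹)⁻¹ * (b' * b * b'⁻¹ * d * (b' * b * b'⁻¹)⁻¹ * d⁻¹)⁻¹ *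
        (b' * b * b'⁻¹)) := by group
    _ = _ := by rw [h4]; group

theorem comm_eq : ⁅Ut t, zpowers s⁆ = Ut t :=
  commutator_eq_of_fusion h.hyp.toSimp4 h.four fun _ hn b hb => by
    obtain ⟨c, hc, e⟩ := h.fusion hn
    exact ⟨c, hc, e b hb⟩

theorem U_le_cent {Q : Subgroup G} (hn : Ut t ≤ 𝐍(Q)) (hi : Inverts s Q) : Ut t ≤ 𝐂(Q) :=
  h.comm_eq.ge.trans (hi.commutator_le_cent h.four.ss hn)

theorem not_le_norm {X : Subgroup G} (h0 : X ≠ ⊥) (hX : X ≤ pCoreOf p (Ut t) ⊓ 𝐂[s]) :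
    ¬ Ut t ≤ 𝐍(X) := by
  obtain ⟨L, k, hE, -⟩ := h.exists_ed h0 hX
  exact hE.not_le_norm h.hyp.toSimp4 h.max h0
    ((hX.trans inf_le_left).trans ((H1.pCoreOf_le _).trans (Ut_le t)))

/-- Elements of order `p` inverted by `s` and normalizing `X` generate the same subgroup. -/
theorem mem_c {X : Subgroup G} (h0 : X ≠ ⊥) (hX : X ≤ pCoreOf p (Ut t) ⊓ 𝐂[s]) {x c : G}
    (hx : x ∈ Ut t) (hc : c ∈ Ut t) (hxn : x ∈ 𝐂(X)) (hcn : c ∈ 𝐂(X)) (ex : s * x * s⁻¹ = x⁻¹)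
    (ec : s * c * s⁻¹ = c⁻¹) (ho : x ^ orderOf c = 1) : x ∈ zpowers c := by
  obtain ⟨L, k, hE, -⟩ := h.exists_ed h0 hX
  exact hE.mem_c h.e4 hx hc (cent_le_norm X hxn) (cent_le_norm X hcn) ex ec ho

theorem c1_false {y c : G} (hy : y ∈ pCoreOf p (Ut t) ⊓ 𝐂[s]) (oy : orderOf y = p)
    (oc : orderOf c = p) (hc : c ∈ Ut t) (hcy : c ∈ 𝐂[y]) (sc : s * c * s⁻¹ = c⁻¹)
    (ha : ∀ u ∈ Ut t, u * y * u⁻¹ ∈ zpowers y ⊔ zpowers c) (hb : 𝐂[y] ⊓ 𝐂[c] ≤ 𝐂[t])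
    (hB : Ut t ⊓ 𝐂[s] ≤ 𝐍(zpowers y)) : False := by
  have hy1 : y ≠ 1 := by
    rintro rfl
    exact hp.1.one_lt.ne (by simpa using oy)
  have h0 : zpowers y ≠ ⊥ := by simpa using hy1
  have hyU := H1.pCoreOf_le _ hy.1
  obtain ⟨L, k, hE, -⟩ := h.exists_ed h0 (zpowers_le.2 hy)
  have key : ∀ u ∈ Ut t, ∃ τ ∈ zpowers c, y * τ ≠ 1 ∧ y * τ ∈ zpowers (u * y * u⁻¹) := by
    intro u hu
    obtain ⟨τ, hτ, h1⟩ := exists_mul_mem_of_sup (oy ▸ hp.1)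
      (cent_le_norm _ (by rwa [cent_zpowers, mem_cent1_comm])) (ha u hu)
      fun h1 => hE.not_inv (odd_of_mem_Ut hyU) hy1 u (inverts_zpowers sc _ h1)
    refine ⟨τ, hτ, fun e => hE.not_inv (odd_of_mem_Ut hyU) hy1 1 ?_, h1⟩
    simpa using inverts_zpowers sc y (by rw [eq_inv_of_mul_eq_one_left e]; exact inv_mem hτ)
  refine count1 h.hyp.toSimp4 hE (fun n hn => ?_) ((relIndex_norm_le (oy ▸ hp.1) key).trans ?_)
    (h.not_le_norm h0 (zpowers_le.2 hy)) fun u hu hu' g hg => hb ⟨?_, ?_⟩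
  · obtain ⟨b, hb, e⟩ := h.fusion hn
    refine mem_normalizer_of_conj_mem fun x hx => ?_
    rw [e x (zpowers_le.2 (show y ∈ Ut t ⊓ 𝐂[s] from ⟨hyU, hy.2⟩) hx)]
    exact conj_mem_of_mem_normalizer (hB hb) hx
  · rw [Nat.card_zpowers]
    exact Nat.le_of_dvd (orderOf_pos k) (orderOf_dvd_of_mem_zpowers
      (hE.mem_k h.e4 hc (cent_le_norm _ (by rwa [cent_zpowers])) sc))
  · exact cent_zpowers y ▸ hg.1
  · obtain ⟨τ, hτ, h1, h2⟩ := key u hu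
    have h3 : τ ≠ 1 := by
      rintro rfl
      refine hu' (mem_normalizer_of_map_conj_eq ?_)
      rw [← zpowers_conj, ← zpowers_eq_of_card_prime
        (by rw [Nat.card_zpowers, orderOf_conj, oy]; exact hp.1) h2 h1, mul_one]
    rw [zpowers_conj] at h2
    have h4 := mem_cent.1 hg.2 _ h2
    rw [mul_assoc, ← mul_assoc g, ← mem_cent.1 hg.1 y (mem_zpowers y), mul_assoc,
      mul_right_inj] at h4
    rw [← cent1_eq_of_card_prime (by rw [Nat.card_zpowers, oc]; exact hp.1) hτ h3 |>.trans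
      (cent_zpowers c)]
    exact mem_cent1'.2 h4

end T3

end CfsgLib.GW
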