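import Cfsg.Agent.Lib.GW.LocalE1

/-!
# The case analysis for a prime of the third type
-/

set_option autoImplicit false

namespace CfsgLib.GW

open Subgroup Cfsg CfsgLib.FT.BGN CfsgLib.FT.U4
open scoped commutatorElement

universe u

section general

variable {G : Type*} [Group G]

theorem cent_of_mem_zpowers {c g z : G} (hg : g ∈ 𝐂[c]) (hz : z ∈ zpowers c) : g * z * g⁻¹ = z :=
  conj_eq_of_mem_cent1 (cent1_le_cent1 hz hg)

/-- The elements of order dividing `p` that are central modulo `⟨c⟩`. -/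
def Wg (P : Subgroup G) (c : G) {p : ℕ} (hp : Odd p) (hc : P ≤ 𝐂[c]) (oc : orderOf c = p) :
    Subgroup G where
  carrier := {x | x ∈ P ∧ x ^ p = 1 ∧ ∀ g ∈ P, ⁅x, g⁆ ∈ zpowers c}
  one_mem' := ⟨one_mem _, one_pow _, fun g _ => by simp⟩
  mul_mem' := fun {a b} ha hb => ⟨mul_mem ha.1 hb.1, by
      have h1 := hb.2.2 a ha.1
      rw [PGrp.mul_pow_prime_eq_of_odd hp (mem_cent1'.1 (cent1_le_cent1 h1 (hc ha.1)))
        (mem_cent1'.1 (cent1_le_cent1 h1 (hc hb.1))) (by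
          rw [← orderOf_dvd_iff_pow_eq_one, ← oc]; exact orderOf_dvd_of_mem_zpowers h1),
        ha.2.1, hb.2.1, one_mul], fun g hg => by
      rw [show ⁅a * b, g⁆ = a * ⁅b, g⁆ * a⁻¹ * ⁅a, g⁆ by simp only [commutatorElement_def]; group,
        cent_of_mem_zpowers (hc ha.1) (hb.2.2 g hg)]
      exact mul_mem (hb.2.2 g hg) (ha.2.2 g hg)⟩
  inv_mem' := fun {a} ha => ⟨inv_mem ha.1, by rw [inv_pow, ha.2.1, inv_one], fun g hg => by
    rw [show ⁅a⁻¹, g⁆ = a⁻¹ * ⁅a, g⁆⁻¹ * a⁻¹⁻¹ by simp only [commutatorElement_def]; group,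
      cent_of_mem_zpowers (hc (inv_mem ha.1)) (inv_mem (ha.2.2 g hg))]
    exact inv_mem (ha.2.2 g hg)⟩

theorem ne_one_of_orderOf {p : ℕ} [hp : Fact p.Prime] {y : G} (h : orderOf y = p) : y ≠ 1 := by
  rintro rfl
  exact hp.1.one_lt.ne (by simpa using h)

theorem eq_zpowers_of_card_le [Finite G] {A : Subgroup G} {y : G} (hy : y ∈ A)
    (h : Nat.card A ≤ orderOf y) : A = zpowers y :=
  (eq_of_le_of_card_ge (zpowers_le.2 hy) (by rwa [Nat.card_zpowers])).symm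

theorem eq_one_of_cent {p : ℕ} [hp : Fact p.Prime] {y a w : G} (oy : orderOf y = p)
    (ha : a ∈ zpowers y) (hw : w ∉ 𝐂[y]) (h : w ∈ 𝐂[a]) : a = 1 := by
  by_contra h1
  rw [cent1_eq_of_card_prime (by rw [Nat.card_zpowers, oy]; exact hp.1) ha h1, cent_zpowers] at h
  exact hw h

end general

variable {G : Type u} [Group G] [Finite G]

namespace T3

variable {t s : G} {p : ℕ} [hp : Fact p.Prime] (h : T3 t s p)
include h

omit h hp [Finite G] in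
theorem Zp_le : LD.Zp p (Ut t) ≤ 𝐂(LD.Zp p (Ut t)) :=
  inf_le_right.trans (centralizer_le inf_le_left)

omit h hp in
theorem norm_Z : 𝐂[t] ≤ 𝐍(omegaC p (LD.Zp p (Ut t)) Zp_le) :=
  (Cop.le_normalizer_inf_centralizer (cent_le_norm_pc t p) (cent_le_norm_pc t p)).trans
    (norm_le_norm_omegaC _ _ _)

theorem exists_c : ∃ c ∈ LD.Zp p (Ut t), orderOf c = p ∧ s * c * s⁻¹ = c⁻¹ := by
  have hZ : omegaC p (LD.Zp p (Ut t)) Zp_le ≤ pCoreOf p (Ut t) := fun z hz => hz.1.1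
  obtain ⟨c, hc, h1, e⟩ := exists_inverted h.four.ss
    (odd_card_of_le (odd_Ut t) (hZ.trans (H1.pCoreOf_le _))) (norm_Z h.four.s_cent) fun hle => by
      refine h.not_le_norm ?_ (le_inf hZ hle) ((Ut_le t).trans norm_Z)
      obtain ⟨k, hk⟩ := ((H1.pCoreOf_isPGroup (p := p) (Ut t)).to_le
        (inf_le_left (b := 𝐂(pCoreOf p (Ut t))))).exists_card_eq
      obtain ⟨x, hx⟩ := exists_prime_orderOf_dvd_card' (G := LD.Zp p (Ut t)) p (by
        rw [hk]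
        refine dvd_pow_self p ?_
        rintro rfl
        exact LD.Zp_ne_bot h.P_ne (card_eq_one.1 hk))
      rw [← orderOf_coe] at hx
      exact ne_bot_of_mem (x := x) ⟨x.2, orderOf_dvd_iff_pow_eq_one.1 hx.dvd⟩ (ne_one_of_orderOf hx)
  exact ⟨c, hc.1, orderOf_eq_prime hc.2 h1, e⟩

theorem U_le_cent_c {c : G} (hc : c ∈ LD.Zp p (Ut t)) (oc : orderOf c = p)
    (sc : s * c * s⁻¹ = c⁻¹) : Ut t ≤ 𝐂[c] := by
  by_contra hU
  set Z := omegaC p (LD.Zp p (Ut t)) Zp_le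
  have hZP : Z ≤ pCoreOf p (Ut t) := fun z hz => hz.1.1
  have hZU := hZP.trans (H1.pCoreOf_le _)
  have hcU := H1.pCoreOf_le _ hc.1
  have hcZ : c ∈ Z := ⟨hc, by rw [← oc, pow_orderOf_eq_one]⟩
  have hZo := odd_card_of_le (odd_Ut t) hZU
  have hZc : ∀ X ≤ pCoreOf p (Ut t), Z ≤ 𝐂(X) := fun X hX z hz => centralizer_le hX hz.1.2
  have hinv : ∀ z ∈ Z, s * z * s⁻¹ = z⁻¹ → z ∈ zpowers c := fun z hz e =>
    h.mem_c h.A le_rfl (hZU hz) hcU (hZc _ inf_le_left hz) (hZc _ inf_le_left hcZ) e sc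
      (oc ▸ hz.2)
  obtain ⟨i, hi, si, hic⟩ : ∃ i ∈ Ut t, s * i * s⁻¹ = i⁻¹ ∧ i ∉ 𝐂[c] := by
    by_contra hne
    push Not at hne
    refine hU (h.comm_eq.ge.trans (commutator_zpowers_le h.four.ss fun x hx => hne _ ?_ ?_))
    · have := mul_mem hx (conj_mem_of_mem_normalizer (cent_le_norm_Ut t h.four.s_cent) (inv_mem hx))
      simpa only [mul_assoc] using this
    · rw [h.four.si]
      calc _ = s * x * s * x⁻¹ * (s * s) := by group
        _ = _ := by rw [h.four.ss]; simp [h.four.si, mul_assoc]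
  have h1 : ∀ z ∈ Z ⊓ 𝐂[s], z ∈ 𝐂[i * i] → z = 1 := fun z hz hz' => by
    by_contra hz1
    obtain ⟨L, k, hE, -⟩ := h.exists_ed (X := zpowers z) (by simpa using hz1)
      (zpowers_le.2 ⟨hZP hz.1, hz.2⟩)
    have h2 := hE.mem_k h.e4 (mul_mem hi hi) (cent_le_norm _ (by
      rwa [cent_zpowers, mem_cent1_comm])) (by rw [← _root_.conj_mul, si, mul_inv_rev])
    have h3 := hE.mem_k h.e4 hcU (cent_le_norm _ (hZc _ (zpowers_le.2 (hZP hz.1)) hcZ)) sc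
    exact hic (zpowers_le.2 (cent1_le_cent1 h3 (zpowers_le_cent1 k h2))
      (mem_zpowers_sq (odd_of_mem_Ut hi)))
  have hiZ := norm_Z (p := p) (Ut_le t hi)
  have h2 : Nat.card ↥(Z ⊓ 𝐂[s]) ≤ p := by
    rw [← oc, ← Nat.card_zpowers]
    have h3 : ∀ z ∈ Z ⊓ 𝐂[s], i⁻¹ * z * i * (i * z * i⁻¹)⁻¹ ∈ zpowers c := fun z hz => by
      refine hinv _ (mul_mem (conj_mem_of_mem_normalizer' hiZ hz.1)
        (inv_mem (conj_mem_of_mem_normalizer hiZ hz.1))) ?_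
      rw [show s * (i⁻¹ * z * i * (i * z * i⁻¹)⁻¹) * s⁻¹ = (s * i * s⁻¹)⁻¹ * (s * z * s⁻¹) *
        (s * i * s⁻¹) * (s * i * s⁻¹ * (s * z * s⁻¹) * (s * i * s⁻¹)⁻¹)⁻¹ by group, si,
        conj_eq_of_mem_cent1 (mem_cent1_comm.1 hz.2)]
      group
    refine Nat.card_le_card_of_injective (fun z : ↥(Z ⊓ 𝐂[s]) => (⟨_, h3 z z.2⟩ : zpowers c))
      fun z z' e => Subtype.ext (inv_mul_eq_one.1 (h1 _ (mul_mem (inv_mem z.2) z'.2) ?_))
    have e' : i⁻¹ * z * i * (i * z * i⁻¹)⁻¹ = i⁻¹ * z' * i * (i * z' * i⁻¹)⁻¹ :=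
      congrArg Subtype.val e
    refine mem_cent1.2 ?_
    calc (z : G)⁻¹ * z' * (i * i)
        = i * ((i⁻¹ * z * i)⁻¹ * (i⁻¹ * z' * i * (i * z' * i⁻¹)⁻¹) * (i * z' * i⁻¹)) * i := by group
      _ = _ := by rw [← e']; group
  by_cases h3 : Z ⊓ 𝐂[s] = ⊥
  · exact hU ((h.U_le_cent ((Ut_le t).trans norm_Z) (inverts_of_inf_cent h.four.ss hZo
      (norm_Z h.four.s_cent) h3)).trans (cent_le_cent1 hcZ))
  obtain ⟨y, hy, hy1⟩ := exists_ne_one h3
  have oy := orderOf_eq_prime hy.1.2 hy1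
  have h4 := eq_zpowers_of_card_le hy (oy ▸ h2)
  have h5 : Z ≤ zpowers y ⊔ zpowers c := fun z hz => by
    obtain ⟨a, ha, b, hb, e, rfl⟩ := exists_cent_mul_inv h.four.ss hZo (norm_Z h.four.s_cent) hz
    exact mul_mem (mem_sup_left (h4 ▸ ha)) (mem_sup_right (hinv b hb e))
  refine h.c1_false ⟨hZP hy.1, hy.2⟩ oy oc hcU (cent_le_cent1 (hZP hy.1) hc.2) sc
    (fun u hu => h5 (conj_mem_of_mem_normalizer (norm_Z (Ut_le t hu)) hy.1)) ?_ fun b hb => ?_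
  · rw [← cent_zpowers y, ← cent_zpowers c, ← cent_sup]
    exact (centralizer_le h5).trans (h.cent_le (ne_bot_of_mem hy.1 hy1) hZU norm_Z)
  · rw [← h4]
    exact mem_norm_inf (norm_Z (Ut_le t hb.1)) (mem_norm_cent1 hb.2)

end T3

/-- `U` centralizes the element `c` of order `p` inverted by `s`. -/
structure T4 (t s c : G) (p : ℕ) : Prop extends T3 t s p where
  cP : c ∈ pCoreOf p (Ut t)
  oc : orderOf c = p
  sc : s * c * s⁻¹ = c⁻¹
  Uc : Ut t ≤ 𝐂[c]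

namespace T4

variable {t s c : G} {p : ℕ} [hp : Fact p.Prime] (h : T4 t s c p)
include h

/-- The subgroup `W`. -/
def W : Subgroup G :=
  Wg (pCoreOf p (Ut t)) c (hp.1.odd_of_ne_two h.p2) ((H1.pCoreOf_le _).trans h.Uc) h.oc

theorem mem_W {x : G} : x ∈ h.W ↔
    x ∈ pCoreOf p (Ut t) ∧ x ^ p = 1 ∧ ∀ g ∈ pCoreOf p (Ut t), ⁅x, g⁆ ∈ zpowers c := Iff.rfl

theorem W_le : h.W ≤ pCoreOf p (Ut t) := fun _ hx => hx.1

theorem W_le_U : h.W ≤ Ut t := h.W_le.trans (H1.pCoreOf_le _)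

omit hp [Finite G] in
theorem cU : c ∈ Ut t := H1.pCoreOf_le _ h.cP

omit hp in
theorem norm_c : 𝐂[t] ≤ 𝐍(zpowers c) := (IsComplIn.sup_eq (h.four.isComplIn h.e4)).ge.trans
  (sup_le (h.Uc.trans (cent_zpowers c ▸ cent_le_norm _)) (V_le
    (cent_le_norm _ (by rw [cent_zpowers, mem_cent1_comm]; exact Ut_le t h.cU))
    (inverts_zpowers h.sc).mem_norm))

theorem cent_c : 𝐂[c] ≤ 𝐂[t] := cent_zpowers c ▸
  h.cent_le (by simpa using ne_one_of_orderOf h.oc) (zpowers_le.2 h.cU) h.norm_c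

theorem norm_W : 𝐂[t] ≤ 𝐍(h.W) := fun g hg => mem_normalizer_of_conj_mem fun x hx =>
  ⟨conj_mem_of_mem_normalizer (cent_le_norm_pc t p hg) hx.1, by rw [conj_pow, hx.2.1]; group,
    fun a ha => by
      rw [show ⁅g * x * g⁻¹, a⁆ = g * ⁅x, g⁻¹ * a * g⁆ * g⁻¹ by
        simp only [commutatorElement_def]; group]
      exact conj_mem_of_mem_normalizer (h.norm_c hg)
        (hx.2.2 _ (conj_mem_of_mem_normalizer' (cent_le_norm_pc t p hg) ha))⟩

omit hp in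
theorem eq_one_of_c {a : G} (ha : a ∈ zpowers c) (hs : a ∈ 𝐂[s]) : a = 1 :=
  eq_one_of_inv_of_comm (odd_of_mem_Ut (zpowers_le.2 h.cU ha)) (inverts_zpowers h.sc a ha)
    (mem_cent1.1 hs)

theorem mem_c' {X : Subgroup G} (h0 : X ≠ ⊥) (hX : X ≤ pCoreOf p (Ut t) ⊓ 𝐂[s]) {x : G}
    (hx : x ∈ Ut t) (hxn : x ∈ 𝐂(X)) (ex : s * x * s⁻¹ = x⁻¹) (ho : x ^ p = 1) : x ∈ zpowers c :=
  h.mem_c h0 hX hx h.cU hxn (mem_cent.2 fun _ ha => mem_cent1.1 (h.Uc (H1.pCoreOf_le _ (hX ha).1)))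
    ex h.sc (h.oc ▸ ho)

theorem not_W_le : ¬ h.W ≤ zpowers c := fun hle => by
  have hP := H1.pCoreOf_isPGroup (p := p) (Ut t)
  obtain ⟨E, h1, h2, h3, h4⟩ := FT.ex_odd_normal_p2Elem h.p2 hP fun hc => by
    obtain ⟨Y, hY, hYp⟩ := exists_prime_sub h.A
    obtain ⟨k, hk⟩ := (hP.to_le (hY.trans inf_le_left)).exists_card_eq
    have h5 : Nat.card Y = p := by
      rw [hk] at hYp ⊢
      rw [hYp.eq_one_of_pow, pow_one]
    have h6 := eq_of_le_cyclic hc (hY.trans inf_le_left) (zpowers_le.2 h.cP)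
      (by rw [h5, Nat.card_zpowers, h.oc])
    exact ne_one_of_orderOf h.oc
      (h.eq_one_of_c (mem_zpowers c) (hY (h6.ge (mem_zpowers c))).2)
  obtain ⟨x, hx, h5, h6⟩ := Cop.exists_commutator_mem_of_lt (Z := zpowers c) hP.isNilpotent h1
    (((H1.pCoreOf_le _).trans (Ut_le t)).trans h.norm_c) h2 fun hE => by
      have := card_le_of_le hE
      rw [h4, Nat.card_zpowers, h.oc] at this
      nlinarith [hp.1.one_lt]
  exact h5 (hle ⟨h1 hx, h3.2 x hx, h6⟩)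

theorem exists_y : ∃ y ∈ h.W ⊓ 𝐂[s], y ≠ 1 := exists_ne_one fun e => h.not_W_le fun w hw => by
  have h1 := inverts_of_inf_cent h.four.ss (odd_card_of_le (odd_Ut t) h.W_le_U)
    (h.norm_W h.four.s_cent) e
  exact h.mem_c' h.A le_rfl (h.W_le_U hw) (centralizer_le (inf_le_left.trans (H1.pCoreOf_le _))
    (le_centralizer_iff.1 (h.U_le_cent ((Ut_le t).trans h.norm_W) h1) hw)) (h1 w hw) hw.2.1

theorem exists_x : ∃ x ∈ h.W, s * x * s⁻¹ = x⁻¹ ∧ x ∉ zpowers c := by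
  by_contra hne
  push Not at hne
  obtain ⟨y, hy, hy1⟩ := h.exists_y
  have h1 : ⁅h.W, zpowers s⁆ ≤ zpowers c := commutator_zpowers_le h.four.ss fun x hx => hne _ (by
    have := mul_mem hx (conj_mem_of_mem_normalizer (h.norm_W h.four.s_cent) (inv_mem hx))
    simpa only [mul_assoc] using this) (by
    rw [h.four.si]
    calc _ = s * x * s * x⁻¹ * (s * s) := by group
      _ = _ := by rw [h.four.ss]; simp [h.four.si, mul_assoc])
  have hU := (Ut_le t).trans h.norm_c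
  have h2 := CommCalc.three_subgroups (N := zpowers c) hU (zpowers_le.2 (h.norm_c h.four.s_cent))
    (h.W_le_U.trans hU) (by
      rw [commutator_comm (zpowers s)]
      exact (commutator_mono h1 le_rfl).trans (comm_le_left hU))
    ((commutator_mono (comm_le_left ((Ut_le t).trans h.norm_W)) le_rfl).trans h1)
  rw [h.comm_eq] at h2
  have h3 : ∀ u ∈ Ut t, ⁅u, y⁆ ∈ zpowers c := fun u hu => h2 (commutator_mem_commutator hu hy.1)
  refine h.c1_false ⟨hy.1.1, hy.2⟩ (orderOf_eq_prime hy.1.2.1 hy1) h.oc h.cU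
    (mem_cent1_comm.1 (h.Uc (h.W_le_U hy.1))) h.sc (fun u hu => ?_) (inf_le_right.trans h.cent_c)
    fun b hb => cent_le_norm _ ?_
  · simpa [commutatorElement_def] using
      mul_mem (mem_sup_right (h3 u hu)) (mem_sup_left (mem_zpowers y))
  · rw [cent_zpowers, mem_cent1, ← commutatorElement_eq_one_iff_mul_comm]
    exact h.eq_one_of_c (h3 b hb.1)
      (mul_mem (mul_mem (mul_mem hb.2 hy.2) (inv_mem hb.2)) (inv_mem hy.2))

end T4

end CfsgLib.GW
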