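import Cfsg.Agent.Lib.GW.Four

/-!
# The Gorenstein–Walter theorem (final statements)

The four-group case is `gw_four` in `Lib/GW/Four.lean`; the general dihedral case is a skeleton.
-/

set_option autoImplicit false

namespace CfsgLib.GW

universe u

/-- A non-abelian finite simple group with a dihedral Sylow `2`-subgroup is `PSL₂(q)` with `q`
odd, `q ≥ 5`, or the alternating group of degree `7`. -/
theorem gorenstein_walter (G : Type u) [Group G] [Finite G] [IsSimpleGroup G]
    (hna : ¬ IsMulCommutative G) (S : Sylow 2 G) {n : ℕ}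
    (hS : Nonempty ((S : Subgroup G) ≃* DihedralGroup n)) :
    (∃ (F : Type) (_ : Field F) (_ : Fintype F), 5 ≤ Fintype.card F ∧ Odd (Fintype.card F) ∧
      Nonempty (G ≃* Matrix.ProjectiveSpecialLinearGroup (Fin 2) F)) ∨
    Nonempty (G ≃* alternatingGroup (Fin 7)) := by
  sorry

end CfsgLib.GW
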