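import Cfsg.Agent.Lib.GW.Theta
import Cfsg.Agent.Lib.Blk.BrauerInd

/-!
# The order formula
-/

set_option autoImplicit false

namespace CfsgLib.GW

open Subgroup Cfsg CfsgLib.FT CfsgLib.FT.BGN CfsgLib.Blk
open scoped commutatorElement ComplexConjugate

/-! ### Numerical lemmas -/

theorem inv_le_of_le {y c : ℚ} (hc : 0 < c) (h : c ≤ y) : 0 < 1 / y ∧ 1 / y ≤ 1 / c :=
  ⟨one_div_pos.2 (hc.trans_le h), one_div_le_one_div_of_le hc h⟩

theorem inv_ge_of_le {y c : ℚ} (hc : 0 < c) (h : y ≤ -c) : 1 / y < 0 ∧ -(1 / c) ≤ 1 / y := by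
  have := inv_le_of_le hc (show c ≤ -y by linarith)
  rw [one_div_neg_eq_neg_one_div] at this
  constructor <;> linarith [this.1, this.2]

theorem num_aux {b c : ℚ} (hb : 3 ≤ b) (hc : 3 ≤ c) :
    8 / 15 ≤ 1 + 1 / (b + c - 1) + 1 / (-b) + 1 / (-c) := by
  obtain ⟨x, rfl⟩ : ∃ x, b = 3 + x := ⟨b - 3, by ring⟩
  obtain ⟨y, rfl⟩ : ∃ y, c = 3 + y := ⟨c - 3, by ring⟩
  have hx : 0 ≤ x := by linarith
  have hy : 0 ≤ y := by linarith
  have e : 1 + 1 / (3 + x + (3 + y) - 1) + 1 / (-(3 + x)) + 1 / (-(3 + y)) - 8 / 15 =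
      (48 * x + 48 * y + 6 * x ^ 2 + 6 * y ^ 2 + 62 * x * y + 7 * x ^ 2 * y + 7 * x * y ^ 2) /
        (15 * (3 + x) * (3 + y) * (5 + x + y)) := by
    have h1 : 3 + x + (3 + y) - 1 = 5 + x + y := by ring
    rw [h1]
    field_simp
    ring
  have : 0 ≤ 1 + 1 / (3 + x + (3 + y) - 1) + 1 / (-(3 + x)) + 1 / (-(3 + y)) - 8 / 15 := by
    rw [e]; positivity
  linarith

theorem num_aux2 {a b c : ℚ} (ha : 0 < a) (hb : 0 < b) (h : a + b + c = -1) :
    0 < 1 / a + 1 / b + 1 / c := by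
  have h1 := (inv_ge_of_le ha (show c ≤ -a by linarith)).2
  have h2 := one_div_pos.2 hb
  linarith

theorem num_lower {a b c : ℤ} (ha : a % 4 = 1) (hb : b % 4 = 1) (hc : c % 4 = 1)
    (h : a + b + c = -1) (ha1 : a ≠ 1) (hb1 : b ≠ 1) (hc1 : c ≠ 1) :
    (8 / 15 : ℚ) ≤ 1 + 1 / a + 1 / b + 1 / c := by
  have hq : (a : ℚ) + b + c = -1 := by exact_mod_cast h
  have pos : ∀ x : ℤ, 5 ≤ x → (0 : ℚ) < x := fun x hx => by exact_mod_cast (by omega : 0 < x)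
  have neg : ∀ x : ℤ, x ≤ -3 → (3 : ℚ) ≤ -x := fun x hx => by exact_mod_cast (by omega : 3 ≤ -x)
  rcases (by omega : 5 ≤ a ∨ a ≤ -3) with h1 | h1 <;>
  rcases (by omega : 5 ≤ b ∨ b ≤ -3) with h2 | h2 <;>
  rcases (by omega : 5 ≤ c ∨ c ≤ -3) with h3 | h3
  · omega
  · linarith [num_aux2 (pos a h1) (pos b h2) hq]
  · linarith [num_aux2 (pos a h1) (pos c h3) (show (a : ℚ) + c + b = -1 by linarith)]
  · have := num_aux (neg b h2) (neg c h3)
    rwa [neg_neg, neg_neg, show -(b : ℚ) + -c - 1 = a by linarith] at this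
  · linarith [num_aux2 (pos b h2) (pos c h3) (show (b : ℚ) + c + a = -1 by linarith)]
  · have := num_aux (neg a h1) (neg c h3)
    rw [neg_neg, neg_neg, show -(a : ℚ) + -c - 1 = b by linarith] at this
    linarith
  · have := num_aux (neg a h1) (neg b h2)
    rw [neg_neg, neg_neg, show -(a : ℚ) + -b - 1 = c by linarith] at this
    linarith
  · omega

theorem inv_le_one_of_mod {a : ℤ} (ha : a % 4 = 1) :
    a = 1 ∨ ((1 : ℚ) / a ≤ 1 / 5 ∧ (a < 0 → (1 : ℚ) / a < 0)) := by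
  rcases (by omega : a = 1 ∨ 5 ≤ a ∨ a ≤ -3) with h | h | h
  · exact Or.inl h
  · exact Or.inr ⟨(inv_le_of_le (by norm_num) (by exact_mod_cast h)).2, fun h' => by omega⟩
  · have := (inv_ge_of_le (c := 3) (y := a) (by norm_num) (by exact_mod_cast h)).1
    exact Or.inr ⟨by linarith, fun _ => this⟩

theorem num_upper {a b c : ℤ} (ha : a % 4 = 1) (hb : b % 4 = 1) (hc : c % 4 = 1)
    (h : a + b + c = -1) : 1 + 1 / a + 1 / b + 1 / c ≤ (8 / 3 : ℚ) := by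
  rcases inv_le_one_of_mod ha with rfl | h1 <;> rcases inv_le_one_of_mod hb with rfl | h2 <;>
    rcases inv_le_one_of_mod hc with rfl | h3
  · omega
  · obtain rfl : c = -3 := by omega
    norm_num
  · obtain rfl : b = -3 := by omega
    norm_num
  · push_cast; linarith [h2.1, h3.1]
  · obtain rfl : a = -3 := by omega
    norm_num
  · push_cast; linarith [h1.1, h3.1]
  · push_cast; linarith [h1.1, h2.1]
  · linarith [h1.1, h2.1, h3.1]

theorem num_aux3 {a b : ℤ} (ha : a % 4 = 1) (hb : b % 4 = 1) (h1 : 5 ≤ a) (h2 : a ≤ b) :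
    (1 : ℚ) / a + 1 / b + 1 / (-1 - a - b) ≠ 1 / 7 := by
  have h3 : (0 : ℚ) < a := by exact_mod_cast (by omega : 0 < a)
  have h4 : (0 : ℚ) < b := by exact_mod_cast (by omega : 0 < b)
  have h5 : (-1 - a - b : ℚ) ≠ 0 := by linarith
  intro h
  field_simp at h
  have h6 : (b + a) * (-1 - a - b) * 7 + a * b * 7 = a * b * (-1 - a - b) := by
    have : (((b + a) * (-1 - a - b) * 7 + a * b * 7 : ℤ) : ℚ) = (a * b * (-1 - a - b) : ℤ) := by
      push_cast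
      linarith
    exact_mod_cast this
  rcases (by omega : a = 5 ∨ a = 9 ∨ 13 ≤ a) with rfl | rfl | h7
  · nlinarith
  · rcases (by omega : b = 9 ∨ b = 13 ∨ 17 ≤ b) with rfl | rfl | h8
    · omega
    · omega
    · nlinarith
  · obtain ⟨x, rfl⟩ : ∃ x, a = 13 + x := ⟨a - 13, by ring⟩
    obtain ⟨y, rfl⟩ : ∃ y, b = 13 + x + y := ⟨b - 13 - x, by ring⟩
    have hx : 0 ≤ x := by omega
    have hy : 0 ≤ y := by omega
    nlinarith [mul_nonneg hx hy, mul_nonneg hx hx, mul_nonneg hy hy,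
      mul_nonneg (mul_nonneg hx hx) hx, mul_nonneg (mul_nonneg hx hx) hy,
      mul_nonneg (mul_nonneg hx hy) hy]

theorem num_aux4 {a b c : ℤ} (ha : a % 4 = 1) (hb : b % 4 = 1) (h1 : 5 ≤ a) (h2 : 5 ≤ b)
    (h : a + b + c = -1) : (1 : ℚ) / a + 1 / b + 1 / c ≠ 1 / 7 := by
  obtain rfl : c = -1 - a - b := by omega
  rcases le_total a b with h3 | h3
  · simpa using num_aux3 ha hb h1 h3
  · have := num_aux3 hb ha h2 h3
    push_cast
    rwa [add_comm ((1 : ℚ) / b), show (-1 - b - a : ℚ) = -1 - a - b by ring] at this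

theorem num_mid {a b c : ℤ} (ha : a % 4 = 1) (hb : b % 4 = 1) (hc : c % 4 = 1)
    (h : a + b + c = -1) (ha1 : a ≠ 1 ∧ a ≠ -3) (hb1 : b ≠ 1 ∧ b ≠ -3) (hc1 : c ≠ 1 ∧ c ≠ -3)
    {σ : ℚ} (hσ : σ = 1 + 1 / a + 1 / b + 1 / c) : 5 / 7 < σ ∧ σ < 8 / 5 ∧ σ ≠ 8 / 7 ∧ σ ≠ 8 / 11 := by
  have hq : (a : ℚ) + b + c = -1 := by exact_mod_cast h
  have pos : ∀ x : ℤ, 5 ≤ x → (0 : ℚ) < 1 / x ∧ (1 : ℚ) / x ≤ 1 / 5 := fun x hx =>
    inv_le_of_le (by norm_num) (by exact_mod_cast hx)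
  have pos' : ∀ x : ℤ, 5 ≤ x → (0 : ℚ) < x := fun x hx => by exact_mod_cast (by omega : 0 < x)
  have neg : ∀ x : ℤ, x ≤ -7 → (1 : ℚ) / x < 0 ∧ -(1 / 7) ≤ (1 : ℚ) / x := fun x hx =>
    inv_ge_of_le (by norm_num) (by exact_mod_cast hx)
  have one : ∀ a b c : ℤ, 5 ≤ a → b ≤ -7 → c ≤ -7 → b % 4 = 1 → c % 4 = 1 → a + b + c = -1 →
      ∀ σ : ℚ, σ = 1 + 1 / a + 1 / b + 1 / c → 5 / 7 < σ ∧ σ < 8 / 5 ∧ σ ≠ 8 / 7 ∧ σ ≠ 8 / 11 := by
    intro a b c h1 h2 h3 hb hc h σ hσ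
    have h4 := pos a h1
    have h5 := neg b h2
    have h6 := neg c h3
    have h7 := (inv_le_of_le (y := (a : ℚ)) (c := 13) (by norm_num)
      (by exact_mod_cast (by omega : 13 ≤ a))).2
    refine ⟨by linarith, by linarith, by linarith, ?_⟩
    rcases (by omega : (b = -7 ∧ c = -7) ∨ b ≤ -11 ∨ c ≤ -11) with ⟨rfl, rfl⟩ | h8 | h8
    · obtain rfl : a = 13 := by omega
      rw [hσ]; norm_num
    · have := (inv_ge_of_le (y := (b : ℚ)) (c := 11) (by norm_num) (by exact_mod_cast h8)).2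
      linarith
    · have := (inv_ge_of_le (y := (c : ℚ)) (c := 11) (by norm_num) (by exact_mod_cast h8)).2
      linarith
  have two : ∀ a b c : ℤ, 5 ≤ a → 5 ≤ b → c ≤ -7 → a % 4 = 1 → b % 4 = 1 → a + b + c = -1 →
      ∀ σ : ℚ, σ = 1 + 1 / a + 1 / b + 1 / c → 5 / 7 < σ ∧ σ < 8 / 5 ∧ σ ≠ 8 / 7 ∧ σ ≠ 8 / 11 := by
    intro a b c h1 h2 h3 ha hb h σ hσ
    have h4 := pos a h1
    have h5 := pos b h2
    have h6 := neg c h3
    have h7 := num_aux2 (pos' a h1) (pos' b h2) (show (a : ℚ) + b + c = -1 by exact_mod_cast h)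
    exact ⟨by linarith, by linarith, fun e => num_aux4 ha hb h1 h2 h (by linarith), by linarith⟩
  rcases (by omega : 5 ≤ a ∨ a ≤ -7) with h1 | h1 <;>
  rcases (by omega : 5 ≤ b ∨ b ≤ -7) with h2 | h2 <;>
  rcases (by omega : 5 ≤ c ∨ c ≤ -7) with h3 | h3
  · omega
  · exact two a b c h1 h2 h3 ha hb h σ hσ
  · exact two a c b h1 h3 h2 ha hc (by omega) σ (by rw [hσ]; ring)
  · exact one a b c h1 h2 h3 hb hc h σ hσ
  · exact two b c a h2 h3 h1 hb hc (by omega) σ (by rw [hσ]; ring)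
  · exact one b a c h2 h1 h3 ha hc (by omega) σ (by rw [hσ]; ring)
  · exact one c a b h3 h1 h2 ha hb (by omega) σ (by rw [hσ]; ring)
  · omega

theorem num_four {a b c d : ℤ} (ha : a % 4 = 1) (hb : b % 4 = 1) (hc : c % 4 = 1) (hd : d % 4 = 1)
    (h : a + b + c + d = 0) (ha1 : a ≠ 1) (hb1 : b ≠ 1) (hc1 : c ≠ 1) (hd1 : d ≠ 1) :
    1 / a + 1 / b + 1 / c + 1 / d ≤ (3 / 5 : ℚ) := by
  have h1 := (inv_le_one_of_mod ha).resolve_left ha1
  have h2 := (inv_le_one_of_mod hb).resolve_left hb1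
  have h3 := (inv_le_one_of_mod hc).resolve_left hc1
  have h4 := (inv_le_one_of_mod hd).resolve_left hd1
  rcases (by omega : a < 0 ∨ b < 0 ∨ c < 0 ∨ d < 0) with e | e | e | e
  · linarith [h1.2 e, h2.1, h3.1, h4.1]
  · linarith [h2.2 e, h1.1, h3.1, h4.1]
  · linarith [h3.2 e, h2.1, h1.1, h4.1]
  · linarith [h4.2 e, h2.1, h3.1, h1.1]

/-! ### The principal block -/

variable {G : Type*} [Group G] [Fintype G] {t s : G} {L : Subgroup G}

theorem exists_deg (h : Four t s) (hL : V t s ≤ L) (h1 : OneCl L) {α : G → ℂ} (hα : IsDirr L α)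
    (ht : α t = 1) : ∃ y : ℤ, α 1 = y ∧ y % 4 = 1 := by
  obtain ⟨y, hy⟩ := ZIrr_one_int hα.mem_ZIrr
  obtain ⟨n, hn⟩ := exists_mod_four h hL h1 hα.mem_ZIrr
  rw [hy, ht] at hn
  have : y + 3 * 1 = 4 * n := by exact_mod_cast hn
  exact ⟨y, hy, by omega⟩

/-- A non-principal signed character of the principal block. -/
structure Blk0 (L : Subgroup G) (t : G) (α : G → ℂ) (y : ℤ) : Prop where
  dirr : IsDirr L α
  orth : cfdot L α (cf1 L) = 0
  val : ∀ u ∈ Ut t, α (t * u) = 1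
  deg : α 1 = y
  mod : y % 4 = 1

/-- The order formula. -/
theorem exists_order (hG : E4 G) (h : Four t s) (hL : 𝐂[t] ≤ L) (h1 : OneCl L) :
    ∃ (α β γ : G → ℂ) (a b c : ℤ), Blk0 L t α a ∧ Blk0 L t β b ∧ Blk0 L t γ c ∧
      cfdot L α β = 0 ∧ cfdot L α γ = 0 ∧ cfdot L β γ = 0 ∧ a + b + c = -1 ∧
      (∀ g ∈ L, Odd (orderOf g) → 1 + α g + β g + γ g = 0) ∧
      ((𝐂[t]).relIndex L : ℚ) * (1 + 1 / a + 1 / b + 1 / c) =
        8 * ((𝐂[s]).relIndex (Ut t) : ℚ) ^ 2 := by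
  classical
  have htL := hL (U4.self_mem_cent1 t)
  have hl := h.goodLin_one
  obtain ⟨E, h2, h3, h4, h5, h6⟩ := hl.exists_decomp hG h hL h1
  have hdot : ∀ α ∈ E, cfdot L α (Theta L t (cf1 (Ut t))) = 1 := fun α hα => by
    rw [h5, cfdot_sum_right, Finset.sum_eq_single α (fun β hβ hne => h4.ne hα hβ hne.symm)
      (fun h => absurd hα h), h4.self hα]
  have hval : ∀ α ∈ E, ∀ u ∈ Ut t, α (t * u) = 1 := fun α hα u hu => by
    have h7 := hdot α hα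
    rw [hl.cfdot_Theta hG h hL (h3 α hα).mem_CF] at h7
    rcases exists_lift_U hG h hL {1} (y := cfInd1 (regSet 2 L)) regInd_mem_CF
      (fun g => by by_cases hg : g ∈ regSet 2 L <;>
        simp [cfInd1, Set.indicator, hg, isIntegral_one, isIntegral_zero])
      (fun β hβ => by rw [Finset.mem_singleton.1 hβ]; exact cf1_apply (one_mem _))
      (fun g hg => by
        rw [Finset.sum_singleton]
        change _ = cf1 (Ut t) g
        by_cases ho : Odd (orderOf g)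
        · rw [cfInd1_apply (show g ∈ regSet 2 L from ⟨hL hg, Nat.coprime_two_right.2 ho⟩),
            cf1_apply ((mem_Ut hG h.ot).2 ⟨U4.mem_cent1.1 hg, ho⟩)]
        · rw [cfInd1_apply_of_notMem fun h' => ho (Nat.coprime_two_right.1 h'.2),
            cf1_apply_of_notMem fun h' => ho (odd_of_mem_Ut h')]) (h3 α hα) with h8 | h8
    · rw [h8 u hu, Finset.sum_singleton]
      change cfdot _ _ (cf1 _) * cf1 _ u = 1
      rw [h7, cf1_apply hu, one_mul]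
    · exact absurd ((h8 1 (Finset.mem_singleton_self _)).symm.trans h7) zero_ne_one
  have hone : cf1 L ∈ E := by
    by_contra hn
    have h7 : cfdot L (cf1 L) (Theta L t (cf1 (Ut t))) = 1 := by
      rw [hl.cfdot_Theta hG h hL cf1_mem_CF, cfdot_congr (φ' := cf1 (Ut t)) (ψ' := cf1 (Ut t))
        (fun x hx => by rw [tr, cf1_apply hx, cf1_apply (mul_mem htL (hL (Ut_le t hx)))])
        (fun _ _ => rfl), cfdot_cf1]
    rw [h5, cfdot_sum_right, Finset.sum_eq_zero fun α hα => ?_] at h7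
    · exact zero_ne_one h7
    rcases (isIrr_cf1 L).isDirr.cfdot_cases (h3 α hα) with e | e | e
    · exact absurd (e.1 ▸ hα) hn
    · have := congrFun e.1 (t * 1)
      rw [Pi.neg_apply, hval α hα 1 (one_mem _), mul_one, cf1_apply htL] at this
      norm_num at this
    · exact e.2.2
  obtain ⟨α, β, γ, hab, hac, hbc, e⟩ := Finset.card_eq_three.1
    (show (E.erase (cf1 L)).card = 3 by rw [Finset.card_erase_of_mem hone, h2])
  have hsum : ∀ f : (G → ℂ) → ℂ, ∑ x ∈ E, f x = f (cf1 L) + f α + f β + f γ := fun f => by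
    rw [← Finset.add_sum_erase E f hone, e, Finset.sum_insert (by simp [hab, hac]),
      Finset.sum_pair hbc]
    ring
  have hb : ∀ δ ∈ E.erase (cf1 L), ∃ y, Blk0 L t δ y := fun δ hδ => by
    have hδE := Finset.mem_of_mem_erase hδ
    obtain ⟨y, hy, hy'⟩ := exists_deg h (h.V_le_cent1.trans hL) h1 (h3 δ hδE)
      (by simpa using hval δ hδE 1 (one_mem _))
    exact ⟨y, h3 δ hδE, h4.ne hδE hone (Finset.ne_of_mem_erase hδ), hval δ hδE, hy, hy'⟩
  have hα : α ∈ E.erase (cf1 L) := by simp [e]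
  have hβ : β ∈ E.erase (cf1 L) := by simp [e]
  have hγ : γ ∈ E.erase (cf1 L) := by simp [e]
  obtain ⟨a, ha⟩ := hb α hα
  obtain ⟨b, hb'⟩ := hb β hβ
  obtain ⟨c, hc⟩ := hb γ hγ
  have hodd : ∀ g ∈ L, Odd (orderOf g) → 1 + α g + β g + γ g = 0 := fun g hg ho => by
    have := hl.Theta_odd (L := L) hG h ho
    rwa [h5, Finset.sum_apply, hsum, cf1_apply hg] at this
  refine ⟨α, β, γ, a, b, c, ha, hb', hc,
    h4.ne (Finset.mem_of_mem_erase hα) (Finset.mem_of_mem_erase hβ) hab,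
    h4.ne (Finset.mem_of_mem_erase hα) (Finset.mem_of_mem_erase hγ) hac,
    h4.ne (Finset.mem_of_mem_erase hβ) (Finset.mem_of_mem_erase hγ) hbc, ?_, hodd, ?_⟩
  · have := hodd 1 (one_mem _) (by simp)
    rw [ha.deg, hb'.deg, hc.deg] at this
    have h7 : 1 + a + b + c = 0 := by exact_mod_cast this
    omega
  · have v1 := ha.val 1 (one_mem _)
    have v2 := hb'.val 1 (one_mem _)
    have v3 := hc.val 1 (one_mem _)
    rw [mul_one] at v1 v2 v3
    rw [hsum, v1, v2, v3, ha.deg, hb'.deg, hc.deg, cf1_apply htL, cf1_apply (one_mem _), one_pow,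
      div_one] at h6
    exact_mod_cast h6

theorem Simp4.eq_one_of_mem_cfker (hG : Simp4 G) {χ : G → ℂ} (hχ : IsIrr ⊤ χ) (h1 : χ ≠ cf1 ⊤)
    {b : G} (hb : χ b = χ 1) : b = 1 := by
  have := hG.simple
  rcases (normal_of_le_normalizer_top (cfker_normal hχ.mem_CF)).eq_bot_or_eq_top with e | e
  · exact mem_bot.1 (e ▸ hχ.isChar.mem_cfker.2 ⟨trivial, hb⟩)
  · exact absurd (hχ.eq_cf1_iff.2 e.ge) h1

theorem ne_cf1_of_orth {χ : G → ℂ} (h : cfdot L χ (cf1 L) = 0) : χ ≠ cf1 L := by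
  rintro rfl
  rw [cfdot_cf1] at h
  exact one_ne_zero h

theorem Simp4.deg_ne_one (hG : Simp4 G) (h : Four t s) {α : G → ℂ} (hα : IsDirr ⊤ α)
    (h0 : cfdot ⊤ α (cf1 ⊤) = 0) : α 1 ≠ 1 := by
  intro h1
  have hχ : IsIrr ⊤ α := hα.resolve_right fun h' => by
    have := h'.one_re_pos
    rw [Pi.neg_apply, h1] at this
    norm_num at this
  obtain ⟨g, e⟩ := hG.exists_conj h.ot h.os
  have h2 := (hχ.isLin h1).commutator_le_cfker (commutator_mem_commutator (mem_top g) (mem_top t))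
  rw [commutatorElement_def, e, h.ti] at h2
  exact h.symm.ts1 (hG.eq_one_of_mem_cfker hχ (ne_cf1_of_orth h0) (cfker_apply h2))

theorem sum_V_eq_zero (h : Four t s) {χ : G → ℂ} (hχ : IsChar ⊤ χ)
    (h0 : χ 1 + χ t + χ s + χ (t * s) = 0) {b : G} (hb : b ∈ 𝐂(V t s)) :
    χ b + χ (t * b) + χ (s * b) + χ (t * s * b) = 0 := by
  have hV := h.V_le_cent
  have hφ := hχ.cfRes (le_top (a := 𝐂(V t s)))
  have hf : cfInd1 (V t s : Set G) ∈ CF 𝐂(V t s) := CFon_CF (cfInd1_mem_CFon hV fun x hx a ha => by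
    rwa [← U4.mem_cent.1 hx a ha, mul_inv_cancel_right])
  have h1 : act (cfInd1 (V t s : Set G)) (cfRes 𝐂(V t s) χ) = 0 := by
    rw [cfun_sum_constt hφ.mem_CF, act_sum_right]
    refine Finset.sum_eq_zero fun ψ hψ => ?_
    rw [act_smul_right, act_irr ψ.irr hf, om_cfInd1]
    have h2 : cfdot (V t s) ψ (cf1 (V t s)) = 0 := by
      by_contra hne
      refine IsChar.cfdot_ne_zero_of_constt hV hφ ψ.irr (mem_irrConstt.1 hψ) isChar_cf1 hne ?_
      rw [cfdot_cf1_right, h.sum_V, cfRes_apply (one_mem _), cfRes_apply (hV (t_mem_V t s)),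
        cfRes_apply (hV (s_mem_V t s)), cfRes_apply (hV (mul_mem (t_mem_V t s) (s_mem_V t s))), h0,
        mul_zero]
    rw [cfdot_cf1_right, mul_eq_zero, inv_eq_zero] at h2
    rw [h2.resolve_left (card_ne_zero _)]
    simp
  have h2 := congrFun h1 b
  rw [act_congr hb hf.1 (ψ := χ) fun x hx => cfRes_apply hx, act, sum_cfInd1_mul, h.sum_V,
    mul_one, ← U4.mem_cent.1 hb _ (t_mem_V t s), ← U4.mem_cent.1 hb _ (s_mem_V t s),
    ← U4.mem_cent.1 hb _ (mul_mem (t_mem_V t s) (s_mem_V t s))] at h2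
  exact h2

theorem Blk0.val' (hG : Simp4 G) (ht : orderOf t = 2) {α : G → ℂ} {y : ℤ} (hα : Blk0 ⊤ t α y)
    {a u : G} (ha : orderOf a = 2) (hu : u ∈ Ut a) : α (a * u) = 1 := by
  obtain ⟨g, e⟩ := hG.exists_conj ha ht
  rw [← hα.dirr.mem_CF.2 g trivial, ← conj_mul, e]
  exact hα.val _ (by rw [← e, Ut_conj]; exact conj_mem_map_conj hu)

theorem Blk0.B_eq_bot (hG : Simp4 G) (h : Four t s) {α : G → ℂ} (hα : Blk0 ⊤ t α (-3)) :
    Ut t ⊓ 𝐂[s] = ⊥ := by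
  have h1 : α 1 = -3 := by exact_mod_cast hα.deg
  have hχ : IsIrr ⊤ (-α) := hα.dirr.resolve_left fun h' => by
    have := h'.one_re_pos
    rw [h1] at this
    norm_num at this
  refine U4.eq_bot_of_forall fun b hb => hG.eq_one_of_mem_cfker hχ
    (ne_cf1_of_orth (by rw [cfdot_neg_left, hα.orth, neg_zero])) ?_
  have hb' := (h.mem_B hG.e4).1 hb
  have hv : ∀ b ∈ 𝐂(V t s), Odd (orderOf b) → ∀ a ∈ V t s, a ≠ 1 → α (a * b) = 1 :=
    fun b hb ho a ha ha1 => by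
      have h2 := inv_of_mul_self (h.mul_self_of_mem ha) ha1
      exact hα.val' hG h.ot h2 ((mem_Ut hG.e4 h2).2 ⟨(U4.mem_cent.1 hb a ha).symm, ho⟩)
  have hts := mul_mem (t_mem_V t s) (s_mem_V t s)
  have h2 := sum_V_eq_zero h hχ.isChar (by
    have e1 := hv 1 (one_mem _) (by simp) t (t_mem_V t s) h.t1
    have e2 := hv 1 (one_mem _) (by simp) s (s_mem_V t s) h.s1
    have e3 := hv 1 (one_mem _) (by simp) _ hts h.ts1
    rw [mul_one] at e1 e2 e3
    simp only [Pi.neg_apply, h1, e1, e2, e3]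
    ring) hb'.1
  simp only [Pi.neg_apply, hv b hb'.1 hb'.2 t (t_mem_V t s) h.t1,
    hv b hb'.1 hb'.2 s (s_mem_V t s) h.s1, hv b hb'.1 hb'.2 _ hts h.ts1] at h2
  rw [Pi.neg_apply, Pi.neg_apply, h1]
  linear_combination h2

theorem Blk0.ne_one (hG : Simp4 G) (h : Four t s) {α : G → ℂ} {y : ℤ} (hα : Blk0 ⊤ t α y) :
    y ≠ 1 := by
  rintro rfl
  exact hG.deg_ne_one h hα.dirr hα.orth (by exact_mod_cast hα.deg)

/-- The number `σ` when `O(C(S)) ≠ 1`. -/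
theorem exists_sigma (hG : Simp4 G) (h : Four t s) (hB : Ut t ⊓ 𝐂[s] ≠ ⊥) :
    ∃ σ : ℚ, ((𝐂[t]).relIndex ⊤ : ℚ) * σ = 8 * ((𝐂[s]).relIndex (Ut t) : ℚ) ^ 2 ∧
      5 / 7 < σ ∧ σ < 8 / 5 ∧ σ ≠ 8 / 7 ∧ σ ≠ 8 / 11 := by
  obtain ⟨α, β, γ, a, b, c, ha, hb, hc, -, -, -, h1, -, h2⟩ := exists_order hG.e4 h le_top hG.one
  have key : ∀ δ y, Blk0 ⊤ t δ y → y ≠ 1 ∧ y ≠ -3 := fun δ y hy =>
    ⟨hy.ne_one hG h, by rintro rfl; exact hB (hy.B_eq_bot hG h)⟩
  exact ⟨_, h2, num_mid ha.mod hb.mod hc.mod h1 (key _ _ ha) (key _ _ hb) (key _ _ hc) rfl⟩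

end CfsgLib.GW
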