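import Cfsg.Agent.Lib.GW.Order

/-!
# Lifting virtual characters of a subgroup to the principal `2`-block
-/

set_option autoImplicit false

namespace CfsgLib.GW

open Subgroup Cfsg CfsgLib.FT CfsgLib.FT.BGN CfsgLib.Blk
open scoped commutatorElement ComplexConjugate

variable {G : Type*} [Group G]

theorem Nilp2.sup_sylow [Finite G] {M S : Subgroup G} (h : Nilp2 M) (hS : IsSylowIn 2 S M) :
    Od M ⊔ S = M := by
  have hn : ((Od M).subgroupOf M).Normal := normal_subgroupOf_of_le_normalizer (le_norm_Od M)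
  have hp : IsPGroup 2 (M ⧸ (Od M).subgroupOf M) := fun a => by
    obtain ⟨x, rfl⟩ := QuotientGroup.mk_surjective a
    obtain ⟨v, -, u, hu, e, hc, ⟨k, hk⟩, ho⟩ := exists_p_part Nat.prime_two (x : G)
    refine ⟨k, ?_⟩
    rw [← QuotientGroup.mk_pow, QuotientGroup.eq_one_iff, mem_subgroupOf, coe_pow, e, hc.mul_pow,
      ← hk, pow_orderOf_eq_one, one_mul]
    exact pow_mem (h u (zpowers_le.2 x.2 hu) (Nat.coprime_two_right.1 ho)) _
  obtain ⟨k, hk⟩ := IsPGroup.iff_card.1 hp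
  exact hS.sup_eq_of_relIndex_eq_pow (Od_le M) (k := k) hk

theorem Od_inf_eq_bot [Finite G] {M S : Subgroup G} (hS : IsPGroup 2 S) : Od M ⊓ S = ⊥ :=
  U4.eq_bot_of_forall fun x hx => by
    obtain ⟨k, hk⟩ := IsPGroup.iff_orderOf.1 hS ⟨x, hx.2⟩
    rw [← orderOf_coe] at hk
    have h1 := odd_of_mem_Od hx.1
    rw [show orderOf x = 2 ^ k from hk] at h1
    rcases k with _ | k
    · exact orderOf_eq_one_iff.1 hk
    · exact absurd h1 (by simp [Nat.odd_pow_iff])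

theorem Nilp2.isComplIn [Finite G] {M S : Subgroup G} (h : Nilp2 M) (hS : IsSylowIn 2 S M) :
    IsComplIn (Od M) S M :=
  ⟨Od_le M, hS.le, Od_inf_eq_bot hS.isPGroup, fun x hx => by
    obtain ⟨u, hu, v, hv, e⟩ := (mem_sup_iff_of_le_normalizer' (hS.le.trans (le_norm_Od M))).1
      ((h.sup_sylow hS).symm ▸ hx)
    exact ⟨u, hu, v, hv, e.symm⟩⟩

theorem Nilp2.relIndex_Od [Finite G] {M S : Subgroup G} (h : Nilp2 M) (hS : IsSylowIn 2 S M) :
    (Od M).relIndex M = Nat.card S := U4.IsComplIn.relIndex_left (h.isComplIn hS)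

theorem Nilp2.regSet_eq [Finite G] {M : Subgroup G} (h : Nilp2 M) : regSet 2 M = Od M := by
  ext x
  exact ⟨fun hx => h x hx.1 (Nat.coprime_two_right.1 hx.2),
    fun hx => ⟨Od_le M hx, Nat.coprime_two_right.2 (odd_of_mem_Od hx)⟩⟩

variable [Fintype G] {L S : Subgroup G} {B : Finset (Irr L)} {φ ψ θ θ' : G → ℂ}

theorem projB_ZIrr (hφ : φ ∈ ZIrr L) : projB B φ ∈ ZIrr L :=
  Submodule.sum_mem _ fun χ _ => by
    obtain ⟨n, hn⟩ := ZIrr_cfdot_int hφ χ.mem_ZIrr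
    rw [hn]
    exact intCast_smul_mem χ.mem_ZIrr n

theorem projB_projB : projB B (projB B φ) = projB B φ :=
  Finset.sum_congr rfl fun χ hχ => by rw [cfdot_projB, if_pos hχ]

theorem projB_neg : projB B (-φ) = -projB B φ := by
  rw [← neg_one_smul ℂ φ, projB_smul, neg_one_smul]

theorem projB_dirr {α : G → ℂ} (hα : IsDirr L α) (h : cfdot L (projB B φ) α ≠ 0) :
    projB B α = α := by
  classical
  have key : ∀ β, IsIrr L β → cfdot L (projB B φ) β ≠ 0 → projB B β = β := fun β hβ h => by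
    have h1 := cfdot_projB (B := B) (φ := φ) ⟨β, hβ⟩
    have h2 := projB_irr (B := B) ⟨β, hβ⟩
    split_ifs at h1 h2
    · exact h2
    · exact absurd h1 h
  rcases hα with hα | hα
  · exact key α hα h
  · have := key _ hα (by rwa [cfdot_neg_right, neg_ne_zero])
    rwa [projB_neg, neg_inj] at this

theorem proj0_cf1 : projB (B0 2 L) (cf1 L) = cf1 L := by
  classical
  rw [← Irr.coe_one, projB_irr, if_pos (one_mem_B0 Nat.prime_two)]

theorem proj0_mul {k : ℕ} {u y : G} (hu : u ^ 2 ^ k = 1) (huL : u ∈ L) (hy : y ∈ Od (L ⊓ 𝐂[u])) :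
    projB (B0 2 L) φ (u * y) = projB (B0 2 L) φ u := by
  rw [projB_apply, projB_apply]
  exact Finset.sum_congr rfl fun χ hχ => by
    rw [apply_mul_of_mem_B0 Nat.prime_two hu huL (Od_le _) (le_norm_Od _)
      (Nat.coprime_two_right.2 (odd_Od _)) hy hχ]

theorem kerB_self_of_nilp2 {k : ℕ} {u : G} (hu : u ^ 2 ^ k = 1) (huL : u ∈ L)
    (h : Nilp2 (L ⊓ 𝐂[u])) (hS : IsSylowIn 2 S (L ⊓ 𝐂[u])) :
    kerB (B0 2 L) u u = Nat.card S := by
  classical
  have := K0_cent (L := L) (y := 1) (y' := 1) Nat.prime_two hu huL L.one_mem (by simp)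
    (by simp) L.one_mem (by simp) (by simp)
  rw [mul_one] at this
  have h2 := sum_irr_ker_sq (Od_le (L ⊓ 𝐂[u])) (le_norm_Od _)
  rw [h.relIndex_Od hS] at h2
  rw [this, kerB, ← h2]
  refine Finset.sum_congr ?_ fun χ _ => by rw [χ.isChar.conj_one, sq]
  ext χ
  simp [mem_B0_iff_of_regSet_eq (le_norm_Od _) h.regSet_eq]

theorem kerB_of_not_conj {k k' : ℕ} {u u' : G} (hu : u ^ 2 ^ k = 1) (huL : u ∈ L)
    (hu' : u' ^ 2 ^ k' = 1) (hn : ∀ z ∈ L, z * u' * z⁻¹ ≠ u) : kerB (B0 2 L) u u' = 0 := by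
  have := K0_eq_zero_of_not_conj (L := L) (y := 1) (y' := 1) Nat.prime_two hu huL L.one_mem
    (by simp) (by simp) hu' (by simp) (by simp) hn
  rwa [mul_one, mul_one] at this

/-- The principal block component of an induced function. -/
noncomputable def T0 (S L : Subgroup G) (θ : G → ℂ) : G → ℂ := projB (B0 2 L) (cfInd S L θ)

theorem T0_mem_CF : T0 S L θ ∈ CF L := projB_mem_CF

theorem T0_ZIrr (hS : S ≤ L) (hθ : θ ∈ ZIrr S) : T0 S L θ ∈ ZIrr L :=
  projB_ZIrr (ZIrr_cfInd hS hθ)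

theorem proj0_T0 : projB (B0 2 L) (T0 S L θ) = T0 S L θ := projB_projB

theorem T0_sub : T0 S L (θ - θ') = T0 S L θ - T0 S L θ' := by
  rw [T0, map_sub, projB_sub, T0, T0]

theorem T0_add : T0 S L (θ + θ') = T0 S L θ + T0 S L θ' := by
  rw [T0, map_add, projB_add, T0, T0]

theorem cfdot_T0 (hS : S ≤ L) : cfdot L (T0 S L θ) φ = cfdot S θ (projB (B0 2 L) φ) := by
  rw [T0, cfdot_projB_comm, cfdot_cfInd_left hS projB_mem_CF]

theorem cfdot_T0' (hS : S ≤ L) (h : projB (B0 2 L) φ = φ) :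
    cfdot L (T0 S L θ) φ = cfdot S θ φ := by rw [cfdot_T0 hS, h]

theorem T0_apply (hS : S ≤ L) (x : G) : T0 S L θ x =
    (Nat.card S : ℂ)⁻¹ * ∑ s ∈ elems (S : Set G), θ s * kerB (B0 2 L) x s := by
  rw [T0, projB_apply]
  simp only [kerB, Finset.mul_sum]
  rw [Finset.sum_comm]
  refine Finset.sum_congr rfl fun χ _ => ?_
  rw [cfdot_cfInd_left hS χ.mem_CF, cfdot, Finset.mul_sum, Finset.sum_mul]
  exact Finset.sum_congr rfl fun s _ => by ring

theorem two_dvd_orderOf_of_mem (hS : IsPGroup 2 S) {s : G} (hs : s ∈ S) (h1 : s ≠ 1) :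
    2 ∣ orderOf s := by
  obtain ⟨k, hk⟩ := IsPGroup.iff_orderOf.1 hS ⟨s, hs⟩
  rw [← orderOf_coe] at hk
  rcases k with _ | k
  · exact absurd (orderOf_eq_one_iff.1 hk) h1
  · rw [show orderOf s = 2 ^ (k + 1) from hk]
    exact dvd_pow_self 2 (by omega)

theorem T0_odd (hS : S ≤ L) (h2 : IsPGroup 2 S) (h1 : θ 1 = 0) {g : G} (hg : Odd (orderOf g)) :
    T0 S L θ g = 0 := by
  rw [T0_apply hS, Finset.sum_eq_zero, mul_zero]
  intro s hs
  by_cases e : s = 1
  · rw [e, h1, zero_mul]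
  · rw [K0_eq_zero_of_reg Nat.prime_two (Nat.coprime_two_right.2 hg)
      (two_dvd_orderOf_of_mem h2 (mem_elems.1 hs) e), mul_zero]

/-- A class function orthogonal to all differences `1 - μ` vanishes off the identity. -/
theorem eq_zero_of_cfdot_const (hc : ∀ x ∈ S, ∀ y ∈ S, x * y = y * x) (hφ : φ ∈ CF S) {c : ℂ}
    (h : ∀ μ : Irr S, cfdot S φ μ = c) {x : G} (hx : x ≠ 1) : φ x = 0 := by
  rw [cfun_sum_cfdot hφ, Finset.sum_apply,
    Finset.sum_congr rfl (g := fun μ : Irr S => c * (μ 1 * μ x)) fun μ _ => by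
      rw [h, (μ.irr.isLin_of_comm hc).one, one_mul, Pi.smul_apply, smul_eq_mul],
    ← Finset.mul_sum, sum_irr_one_mul hx, mul_zero]

end CfsgLib.GW
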