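import Cfsg.Agent.Lib.GW.Psl
import Cfsg.Agent.Lib.GW.CountA
import Cfsg.Agent.Lib.BSW.SelfNorm

/-!
# Proper subgroups of a minimal counterexample
-/

set_option autoImplicit false

namespace CfsgLib.GW

open Subgroup Cfsg CfsgLib.FT.BGN CfsgLib.FT.U4
open scoped commutatorElement

universe u

section general

variable {G : Type*} [Group G]

/-- The subgroup generated by the involutions of `M`. -/
def Jv (M : Subgroup G) : Subgroup G := closure {u | u ∈ M ∧ orderOf u = 2}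

theorem mem_Jv {M : Subgroup G} {u : G} (h : u ∈ M) (hu : orderOf u = 2) : u ∈ Jv M :=
  subset_closure ⟨h, hu⟩

theorem Jv_le_of {M K : Subgroup G} (h : ∀ u ∈ M, orderOf u = 2 → u ∈ K) : Jv M ≤ K :=
  (closure_le _).2 fun u hu => h u hu.1 hu.2

theorem Jv_le (M : Subgroup G) : Jv M ≤ M := Jv_le_of fun _ h _ => h

theorem Jv_Jv (M : Subgroup G) : Jv (Jv M) = Jv M :=
  le_antisymm (Jv_le _) (Jv_le_of fun _ h hu => mem_Jv (mem_Jv h hu) hu)

theorem le_norm_Jv [Finite G] (M : Subgroup G) : M ≤ 𝐍(Jv M) := fun g hg =>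
  mem_normalizer_of_conj_mem fun x hx => Jv_le_of (K := (Jv M).comap (MulAut.conj g).toMonoidHom)
    (fun u hu h2 => mem_Jv (mul_mem (mul_mem hg hu) (inv_mem hg)) (by
      rw [← h2]; exact orderOf_conj g u)) hx

instance Od_top_normal [Finite G] : (Od (⊤ : Subgroup G)).Normal :=
  normal_of_le_normalizer_top (le_norm_Od ⊤)

theorem mem_Od_top [Finite G] {L : Subgroup G} {x : L} :
    x ∈ Od (⊤ : Subgroup L) ↔ (x : G) ∈ Od L := by
  rw [Od, H1.piCoreOf_top, Od, ← FT.piCoreOf_subgroupOf, mem_subgroupOf]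

theorem OneCl.top {L : Subgroup G} (h : OneCl L) : OneCl (⊤ : Subgroup L) := fun u _ v _ hu hv => by
  obtain ⟨g, hg, e⟩ := h u u.2 v v.2 (by rwa [orderOf_coe]) (by rwa [orderOf_coe])
  exact ⟨⟨g, hg⟩, trivial, Subtype.ext e⟩

theorem Jv_top {L : Subgroup G} (h : Jv L = L) : Jv (⊤ : Subgroup L) = ⊤ := by
  refine top_le_iff.1 fun x _ => ?_
  obtain ⟨y, hy, e⟩ := Jv_le_of (K := (Jv (⊤ : Subgroup L)).map L.subtype)
    (fun u hu h2 => ⟨⟨u, hu⟩, mem_Jv trivial (by rwa [← orderOf_coe]), rfl⟩) (h.ge x.2)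
  rwa [← Subtype.ext e]

theorem Four.coe {L : Subgroup G} {t s : G} (h : Four t s) (ht : t ∈ L) (hs : s ∈ L) :
    Four (⟨t, ht⟩ : L) ⟨s, hs⟩ :=
  ⟨by rw [← orderOf_coe]; exact h.ot, by rw [← orderOf_coe]; exact h.os, Subtype.ext h.comm,
    fun e => h.ne (congrArg Subtype.val e)⟩

variable [Finite G]

theorem isSimpleGroup_of_Jv (hG : E4 G) (h1 : OneCl (⊤ : Subgroup G)) (h4 : 4 ∣ Nat.card G)
    (hO : Od (⊤ : Subgroup G) = ⊥) (hJ : Jv (⊤ : Subgroup G) = ⊤) :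
    IsSimpleGroup G ∧ ¬ IsMulCommutative G := by
  obtain ⟨t, -, s, -, h⟩ := exists_four' hG (M := ⊤) (by rwa [card_top])
  have : Nontrivial G := ⟨t, s, h.ne⟩
  refine ⟨⟨fun N hN => ?_⟩, fun hc => ?_⟩
  · by_cases ho : Odd (Nat.card N)
    · exact Or.inl (le_bot_iff.1 (hO ▸ le_Od le_top le_normalizer_of_normal ho))
    · exact Or.inr (top_le_iff.1 (hJ ▸ Jv_le_of fun u hu h2 =>
        h1.mem_of_not_odd le_top le_normalizer_of_normal ho h2 hu))
  · obtain ⟨g, -, e⟩ := h1 t trivial s trivial h.ot h.os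
    rw [hc.is_comm.comm g t, mul_inv_cancel_right] at e
    exact h.ne e

theorem PslIn.eq_of_cent {L : Subgroup G} (hL : PslIn L) {a b z u : G} (h : Four a b) (ha : a ∈ L)
    (hb : b ∈ L) (hz : z ∈ L) (h1 : z ≠ 1) (ho : Odd (orderOf z)) (hc : z * a = a * z) (hu : u ∈ L)
    (hu2 : orderOf u = 2) (huz : u ∈ 𝐂[z]) : u = a := by
  obtain ⟨k, hk⟩ := hL a ha b hb h
  have h2 := hk.cent z ((hk.mem z).2 ⟨hz, hc, ho⟩) h1 ⟨hu, huz⟩
  by_contra hne
  obtain ⟨k', hk'⟩ := hL a ha u hu ⟨h.ot, hu2, mem_cent1'.1 h2, Ne.symm hne⟩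
  exact h1 (eq_one_of_inv_of_comm ho (hk'.inverts z ((hk'.mem z).2 ⟨hz, hc, ho⟩))
    (mem_cent1'.1 huz))

/-- In `PSL₂(q)` an odd `p`-subgroup normalized by `C(t)` is centralized by `t`. -/
theorem PslIn.le_cent {L W : Subgroup G} (hL : PslIn L) (h1 : OneCl L) {t s : G} (h : Four t s)
    (ht : t ∈ L) (hs : s ∈ L) {p : ℕ} (hp : p.Prime) (hp2 : p ≠ 2) (hW : IsPGroup p W)
    (hWL : W ≤ L) (hn : L ⊓ 𝐂[t] ≤ 𝐍(W)) : W ≤ 𝐂[t] := by
  have : Fact p.Prime := ⟨hp⟩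
  have ho := odd_card_of_isPGroup hp hp2 hW
  have key : ∀ a b, Four a b → a ∈ L → b ∈ L → W ⊓ 𝐂(W) ⊓ 𝐂[a] ≠ ⊥ →
      W ≤ 𝐂[a] ∧ ∃ z ∈ W, z ≠ 1 := fun a b hab ha hb hne => by
    obtain ⟨z, hz, hz1⟩ := exists_ne_one hne
    obtain ⟨k, hk⟩ := hL a ha b hb hab
    exact ⟨fun w hw => hk.cent z ((hk.mem z).2 ⟨hWL hz.1.1, mem_cent1.1 hz.2,
      odd_orderOf_of_mem ho hz.1.1⟩) hz1 ⟨hWL hw, mem_cent1.2 (mem_cent.1 hz.1.2 w hw)⟩,
      z, hz.1.1, hz1⟩
  have key2 : ∀ a, Four t a → a ∈ L → W ⊓ 𝐂(W) ⊓ 𝐂[a] = ⊥ := fun a hta ha => by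
    by_contra hne
    obtain ⟨h2, z, hz, hz1⟩ := key a t hta.symm ha ht hne
    obtain ⟨k, hk⟩ := hL t ht a ha hta
    have h3 := (hk.mem k).1 (mem_zpowers k)
    have h4 := conj_mem_of_mem_normalizer (hn ⟨h3.1, mem_cent1.2 h3.2.1⟩) hz
    have h5 := hL.eq_of_cent hta.symm ha ht (hWL h4) (conj_ne_one_iff.2 hz1)
      (odd_orderOf_of_mem ho h4) (mem_cent1.1 (h2 h4)) (u := k * a * k⁻¹)
      (mul_mem (mul_mem h3.1 ha) (inv_mem h3.1)) (by rw [orderOf_conj, hta.os])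
      (by rw [cent1_conj]; exact conj_mem_map_conj (mem_cent1_comm.1 (h2 hz)))
    have h6 : k = 1 := eq_one_of_inv_of_comm h3.2.2 hk.inv (mul_inv_eq_iff_eq_mul.1 h5)
    obtain ⟨d, hd, e⟩ := h1 a ha t ht hta.os h.ot
    have h7 := (hk.mem (d * z * d⁻¹)).2 ⟨mul_mem (mul_mem hd (hWL hz)) (inv_mem hd), by
      rw [← e, _root_.conj_mul, _root_.conj_mul, mem_cent1.1 (h2 hz)], by
      rw [orderOf_conj]; exact odd_orderOf_of_mem ho hz⟩
    rw [h6, zpowers_one_eq_bot, mem_bot] at h7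
    exact conj_ne_one_iff.2 hz1 h7
  by_cases hW1 : W = ⊥
  · exact hW1.le.trans bot_le
  by_contra hc
  have hV : V t s ≤ 𝐍(W) := (le_inf (V_le ht hs) h.V_le_cent1).trans hn
  refine inf_centralizer_ne_bot_of_isNilpotent hW.isNilpotent le_rfl le_normalizer hW1
    (le_bot_iff.1 (h.le_of_cent_le (odd_card_of_le ho inf_le_left)
      (Cop.le_normalizer_inf_centralizer hV hV) ?_ (key2 s h hs).le
      (key2 _ h.mul (mul_mem ht hs)).le))
  by_contra hne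
  exact hc (key t s h ht hs fun e => hne e.le).1

/-- `H / O(H) ≅ PSL₂(q)`. -/
structure Quo {X : Type*} [Group X] (f : G →* X) : Prop where
  surj : Function.Surjective f
  ker : ∀ x, f x = 1 ↔ x ∈ Od (⊤ : Subgroup G)
  one : OneCl (⊤ : Subgroup X)
  psl : PslIn (⊤ : Subgroup X)

namespace Quo

variable {X : Type*} [Group X] [Finite X] {f : G →* X} (hf : Quo f) {t s : G}
include hf

omit [Finite X] in
theorem four (h : Four t s) : Four (f t) (f s) :=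
  h.map f (fun e => notMem_Od h.ot ((hf.ker _).1 e)) (fun e => notMem_Od h.os ((hf.ker _).1 e))
    fun e => notMem_Od h.ots ((hf.ker _).1 e)

omit [Finite X] in
theorem exists_cent (ht : orderOf t = 2) {y : X} (hy : y ∈ 𝐂[f t]) : ∃ c ∈ 𝐂[t], f c = y := by
  obtain ⟨x, rfl⟩ := hf.surj y
  have h1 : t * (x * t * x⁻¹) ∈ Od (⊤ : Subgroup G) := (hf.ker _).1 (by
    rw [map_mul, map_mul, map_mul, map_inv, conj_eq_of_mem_cent1 hy, ← map_mul,
      mul_self_of_inv ht, map_one])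
  obtain ⟨z, hz, e⟩ := H5.exists_conj_of_odd (s := t) (t := x * t * x⁻¹)
    (by rw [sq, mul_self_of_inv ht]) (by rw [conj_pow, sq, mul_self_of_inv ht]; simp)
    (Nat.coprime_two_right.2 (odd_of_mem_Od h1))
  exact ⟨z * x, mem_cent1_of_conj_eq (Eq.trans (by group) e), by
    rw [map_mul, (hf.ker z).2 (zpowers_le.2 h1 hz), one_mul]⟩

theorem mem_of_inverted (h : Four t s) {p : ℕ} (hp : p.Prime) (hp2 : p ≠ 2) {W : Subgroup G}
    (hW : IsPGroup p W) (hn : 𝐂[t] ≤ 𝐍(W)) {i : G} (hi : i ∈ W) (e : t * i * t⁻¹ = i⁻¹) :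
    i ∈ Od (⊤ : Subgroup G) := by
  have h1 := hf.psl.le_cent hf.one (hf.four h) trivial trivial hp hp2 (hW.map f) le_top
    (fun y hy => by
      obtain ⟨c, hc, rfl⟩ := hf.exists_cent h.ot hy.2
      exact le_normalizer_map f (mem_map_of_mem f (hn hc))) (mem_map_of_mem f hi)
  refine (hf.ker i).1 (eq_one_of_inv_of_comm (s := f t) ?_ (by
    rw [← map_inv, ← map_mul, ← map_mul, e, map_inv]) (mem_cent1.1 h1))
  exact (odd_orderOf_of_mem (odd_card_of_isPGroup hp hp2 hW) hi).of_dvd_nat (orderOf_map_dvd f i)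

omit [Finite X] in
theorem mem_zpowers {k : X} (hk : PslAt ⊤ (f t) (f s) k) {y : G} (hy : y ∈ 𝐂[t])
    (ho : Odd (orderOf y)) : f y ∈ zpowers k :=
  (hk.mem _).2 ⟨trivial, by rw [← map_mul, mem_cent1.1 hy, map_mul],
    ho.of_dvd_nat (orderOf_map_dvd f y)⟩

theorem mem_of_cent (h : Four t s) {y : G} (hy : y ∈ 𝐂(V t s)) (ho : Odd (orderOf y)) :
    y ∈ Od (⊤ : Subgroup G) := by
  obtain ⟨k, hk⟩ := hf.psl _ trivial _ trivial (hf.four h)
  rw [cent_V] at hy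
  exact (hf.ker y).1 (eq_one_of_inv_of_comm (ho.of_dvd_nat (orderOf_map_dvd f y))
    (hk.inverts _ (hf.mem_zpowers hk hy.1 ho)) (by rw [← map_mul, mem_cent1.1 hy.2, map_mul]))

theorem not_dvd (hZ : Od (⊤ : Subgroup G) ≤ center G) (hP : commutator G = ⊤) (h : Four t s)
    {r : ℕ} (hr : r.Prime) (hr2 : r ≠ 2) {x : G} (hx : x ∈ 𝐂[t]) (h1 : r ∣ orderOf x)
    (hxr : IsPGroup r (zpowers x)) (hi : s * x * s⁻¹ = x⁻¹) :
    ¬ r ∣ Nat.card (Od (⊤ : Subgroup G)) := by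
  have : Fact r.Prime := ⟨hr⟩
  intro hd
  obtain ⟨k, hk⟩ := hf.psl _ trivial _ trivial (hf.four h)
  have ho : Odd (orderOf x) :=
    odd_orderOf_of_mem (odd_card_of_isPGroup hr hr2 hxr) (Subgroup.mem_zpowers x)
  have h2 : r ∣ orderOf k := by
    have h3 := hxr.map f
    rw [MonoidHom.map_zpowers] at h3
    obtain ⟨n, hn⟩ := isPGroup_zpowers_iff.1 h3
    refine (hn ▸ dvd_pow_self r ?_ : r ∣ orderOf (f x)).trans
      (orderOf_dvd_of_mem_zpowers (hf.mem_zpowers hk hx ho))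
    rintro rfl
    rw [pow_zero, orderOf_eq_one_iff, hf.ker] at hn
    rw [eq_one_of_inv_of_comm ho hi (mem_center_iff.1 (hZ hn) s).symm, orderOf_one] at h1
    exact hr.one_lt.ne' (Nat.dvd_one.1 h1)
  obtain ⟨S, hS⟩ := IsSylowIn.exists_in (p := r) 𝐂[f t]
  have hS' : IsSylowIn r S ⊤ := ⟨le_top, hS.isPGroup, fun hdd => by
    rw [← relIndex_mul_relIndex S _ ⊤ hS.le le_top] at hdd
    rcases (Nat.Prime.dvd_mul hr).1 hdd with h3 | h3
    · exact hS.not_dvd h3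
    · exact hr.one_lt.ne' (Nat.eq_one_of_dvd_coprimes hk.coprime_index h3 h2)⟩
  have hSc : IsCyclic S := isCyclic_of_le' (C := zpowers k) inferInstance fun y hy =>
    (hk.mem y).2 ⟨trivial, mem_cent1.1 (hS.le hy),
      odd_orderOf_of_mem (odd_card_of_isPGroup hr hr2 hS.isPGroup) hy⟩
  obtain ⟨Y, hY, hYr⟩ := exists_card_prime hr hd
  obtain ⟨P, hYP⟩ := (isPGroup_of_card_eq hYr).exists_le_sylow
  obtain ⟨g, -, hg⟩ := hS'.exists_conj_le (P.isPGroup'.map f) le_top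
  have h3 : IsCyclic ((P : Subgroup G).map f) := isCyclic_conj.1 (isCyclic_of_le' hSc hg)
  have h4 : IsMulCommutative P := (f.subgroupMap P).isMulCommutative_of_isCyclic_of_ker_le_center
    fun y hy => mem_center_iff.2 fun z => Subtype.ext
      (mem_center_iff.1 (hZ ((hf.ker y).1 (congrArg Subtype.val hy))) z)
  obtain ⟨y, hy, hy1⟩ := exists_ne_one (ne_bot_of_card_prime (hYr ▸ hr))
  exact hy1 (BSW.eq_one_of_mem_commutator_of_abelian_sylow P h4 (hYP hy)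
    (fun n _ => mem_center_iff.1 (hZ (hY hy)) n) (hP ▸ trivial))

end Quo

theorem le_fit_of_solvable {M N : Subgroup G} (h1 : N ≤ M) (h2 : M ≤ 𝐍(N))
    (hs : Group.IsSolvable N) (hc : N ≤ 𝐂(fittingOf M)) : N ≤ fittingOf M := by
  have h3 : fittingOf N ≤ fittingOf M :=
    le_fit ((fit_le N).trans h1) (h2.trans (norm_le_norm_fit N)) (fit_nil N)
  exact ((le_inf le_rfl (hc.trans (centralizer_le h3))).trans (FT.cent_sub_Fitting hs)).trans h3

theorem OneCl.commutator_eq (hG : E4 G) {L : Subgroup G} (h1 : OneCl L) (h4 : 4 ∣ Nat.card L)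
    (hJ : Jv L = L) : ⁅L, L⁆ = L := by
  obtain ⟨t, ht, s, hs, h⟩ := exists_four' hG h4
  obtain ⟨g, hg, e⟩ := h1 t ht s hs h.ot h.os
  have h2 := commutator_mem_commutator hg ht
  rw [commutatorElement_def, e, h.ti] at h2
  have h3 : ⁅L, L⁆ ≤ L := comm_le_left le_normalizer
  refine le_antisymm h3 (hJ.ge.trans (Jv_le_of fun u hu hu2 => h1.mem_of_not_odd h3
    (der_normal L) (fun ho => ?_) hu2 hu))
  have := odd_orderOf_of_mem ho h2
  rw [h.symm.ots] at this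
  exact absurd this (by decide)

end general

variable {G : Type u} [Group G] [Finite G]

theorem exists_quo (hG : Hyp G) {L : Subgroup G} (hL : L ≠ ⊤) (h1 : OneCl L) (h4 : 4 ∣ Nat.card L)
    (hJ : Jv L = L) : Quo (QuotientGroup.mk' (Od (⊤ : Subgroup L))) := by
  set f := QuotientGroup.mk' (Od (⊤ : Subgroup L))
  have hE := hG.e4.subgroup L
  have hs : Function.Surjective f := QuotientGroup.mk'_surjective _
  have hk : ∀ x, f x = 1 ↔ x ∈ Od (⊤ : Subgroup L) := fun x => QuotientGroup.eq_one_iff x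
  have hX := hE.of_surjective f hs
  have h2 : ∀ u, orderOf u = 2 → orderOf (f u) = 2 := fun u hu =>
    inv_of_mul_self (by rw [← map_mul, mul_self_of_inv hu, map_one])
      fun e => notMem_Od hu ((hk u).1 e)
  have h3 : ∀ y, orderOf y = 2 → ∃ u, orderOf u = 2 ∧ f u = y := fun y hy => by
    obtain ⟨x, rfl⟩ := hs y
    obtain ⟨v, -, w, -, rfl, hc, hv, hw⟩ := hE.exists_two_part x
    have h5 : f w = 1 := eq_one_of_odd_of_mul_self (hw.of_dvd_nat (orderOf_map_dvd f w)) (by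
      have := mul_self_of_inv hy
      rwa [← map_mul, mul_assoc, ← mul_assoc w, ← hc, ← mul_assoc, ← mul_assoc, hv, one_mul,
        map_mul] at this)
    rw [map_mul, h5, mul_one] at hy ⊢
    exact ⟨v, inv_of_mul_self hv fun e => ne_one_of_inv hy (by rw [e, map_one]), rfl⟩
  have h5 : OneCl (⊤ : Subgroup (L ⧸ Od (⊤ : Subgroup L))) := fun a _ b _ ha hb => by
    obtain ⟨u, hu, rfl⟩ := h3 a ha
    obtain ⟨v, hv, rfl⟩ := h3 b hb
    obtain ⟨g, -, rfl⟩ := h1.top u trivial v trivial hu hv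
    exact ⟨f g, trivial, by simp⟩
  obtain ⟨t, -, s, -, h⟩ := exists_four' hE (M := ⊤) (by rwa [card_top])
  have h6 := (h.map f (ne_one_of_inv (h2 t h.ot)) (ne_one_of_inv (h2 s h.os))
    (ne_one_of_inv (h2 _ h.ots))).four_dvd (H := ⊤) trivial trivial
  obtain ⟨h7, h8⟩ := isSimpleGroup_of_Jv hX h5 (by rwa [card_top] at h6)
    (eq_bot_of_forall fun y hy => by
      obtain ⟨x, rfl⟩ := hs y
      exact (hk x).2 (le_Od (A := (Od ⊤).comap f) le_top le_normalizer_of_normal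
        (odd_card_of_forall fun u hu hu2 => notMem_Od (h2 u hu2) hu) hy))
    (top_le_iff.1 fun y _ => by
      obtain ⟨x, rfl⟩ := hs y
      exact Jv_le_of (K := (Jv ⊤).comap f) (fun u _ hu => mem_Jv trivial (h2 u hu))
        ((Jv_top hJ).ge (mem_top x)))
  exact ⟨hs, hk, h5, hG.ih _ ((Nat.le_of_dvd Nat.card_pos (card_dvd_of_surjective f hs)).trans_lt
    (card_lt_of_ne_top hL)) h7 h8 hX⟩

theorem commutator_le_Od (hG : Hyp G) {M Q : Subgroup G} (hM : M ≠ ⊤) {t : G} (ht : orderOf t = 2)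
    (htM : t ∈ M) {p : ℕ} (hp : p.Prime) (hp2 : p ≠ 2) (hQ : IsPGroup p Q) (hQM : Q ≤ M)
    (hn : M ⊓ 𝐂[t] ≤ 𝐍(Q)) : ⁅Q, zpowers t⁆ ≤ Od M := by
  have ho := odd_card_of_isPGroup hp hp2 hQ
  have htJ := mem_Jv htM ht
  have key : ∀ i ∈ Q, t * i * t⁻¹ = i⁻¹ → i ∈ Od M := fun i hi e => by
    have hio := odd_orderOf_of_mem ho hi
    have hiJ : i ∈ Jv M := mem_of_inverted hio e htJ (le_norm_Jv M (hQM hi))
    refine Od_le_Od (Jv_le M) (le_norm_Jv M) ?_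
    rcases nilp2_or_oneCl hG.e4 (Jv M) with h1 | ⟨h4, h1⟩
    · exact h1 i hiJ hio
    obtain ⟨s, hs, h⟩ := exists_four hG.e4 ht htJ h4
    exact mem_Od_top.1 ((exists_quo hG (ne_top_of_le_ne_top hM (Jv_le M)) h1 h4
      (Jv_Jv M)).mem_of_inverted (h.coe htJ hs) hp hp2 (FT.isPGroup_subgroupOf hQ (Jv M))
      (fun c hc => mem_normalizer_of_conj_mem fun x hx => conj_mem_of_mem_normalizer (H := Q)
        (hn ⟨Jv_le M c.2, mem_cent1.2 (congrArg Subtype.val (mem_cent1.1 hc))⟩) hx)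
      (i := ⟨i, hiJ⟩) hi (Subtype.ext e))
  refine commutator_zpowers_le (mul_self_of_inv ht) fun x hx => ?_
  obtain ⟨c, hc, i, hi, e, rfl⟩ :=
    exists_cent_mul_inv (mul_self_of_inv ht) ho (hn ⟨htM, self_mem_cent1 t⟩) hx
  have h1 := conj_mem_of_mem_normalizer (le_norm_Od M (hQM hc.1))
    (mul_mem (key i hi e) (key i hi e))
  have h2 : t * i⁻¹ * t⁻¹ = i := by rw [← conj_inv, e, inv_inv]
  have h3 : t * c⁻¹ * t⁻¹ = c⁻¹ := conj_eq_of_mem_cent1 (mem_cent1_comm.1 (inv_mem hc.2))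
  rwa [show c * i * t * (c * i)⁻¹ * t⁻¹ = c * (i * (t * i⁻¹ * t⁻¹)) * (t * c⁻¹ * t⁻¹) by group,
    h2, h3]

theorem dichotomy (hG : Hyp G) {M : Subgroup G} (hM : M ≠ ⊤) :
    M ⊓ 𝐂(fittingOf M) ≤ fittingOf M ∨ ∃ L, TypeE M L := by
  by_cases hc : M ⊓ 𝐂(fittingOf M) ≤ fittingOf M
  · exact Or.inl hc
  have hnC : M ≤ 𝐍(M ⊓ 𝐂(fittingOf M)) :=
    Cop.le_normalizer_inf_centralizer le_normalizer (fit_normal M)
  obtain ⟨h4C, h1C⟩ := (nilp2_or_oneCl hG.e4 (M ⊓ 𝐂(fittingOf M))).resolve_left fun h =>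
    hc (le_fit_of_solvable inf_le_left hnC (h.solvable hG.e4) inf_le_right)
  have hJC : Jv M ≤ M ⊓ 𝐂(fittingOf M) :=
    Jv_le_of fun u hu h2 => mem_of_four_dvd hG.e4 inf_le_left hnC h4C h2 hu
  have hJc := hJC.trans inf_le_right
  obtain ⟨h4, h1⟩ := (nilp2_or_oneCl hG.e4 (Jv M)).resolve_left fun h => by
    have h2 := le_fit_of_solvable (Jv_le M) (le_norm_Jv M) (h.solvable hG.e4) hJc
    obtain ⟨t, ht, s, hs, h3⟩ := exists_four' hG.e4 h4C
    obtain ⟨g, hg, e⟩ := h1C t ht s hs h3.ot h3.os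
    rw [← mem_cent.1 hg.2 t (h2 (mem_Jv ht.1 h3.ot)), mul_inv_cancel_right] at e
    exact h3.ne e
  have hq := exists_quo hG (ne_top_of_le_ne_top hM (Jv_le M)) h1 h4 (Jv_Jv M)
  have hO : Jv M ⊓ Od M = Od (Jv M) := le_antisymm (by rw [inf_comm]; exact Od_inf_le (Jv_le M))
    (le_inf (Od_le _) (Od_le_Od (Jv_le M) (le_norm_Jv M)))
  have hZ : Od (Jv M) ≤ 𝐂(Jv M) := le_centralizer_iff.1 (hJc.trans (centralizer_le
    (le_fit_of_solvable ((Od_le _).trans (Jv_le M)) ((le_norm_Jv M).trans (norm_le_norm_Od _))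
      (solvable_Od _) ((Od_le _).trans hJc))))
  have hP := h1.commutator_eq hG.e4 h4 (Jv_Jv M)
  have hcent : Jv M ≤ 𝐂(Od M) := by
    have h2 : ⁅⁅Jv M, Od M⁆, Jv M⁆ = ⊥ := commutator_eq_bot_iff_le_centralizer.2
      (((comm_le_inf ((Jv_le M).trans (le_norm_Od M)) ((Od_le M).trans (le_norm_Jv M))).trans
        hO.le).trans hZ)
    have h3 := commutator_commutator_eq_bot_of_rotate h2 (by rwa [commutator_comm (Od M)])
    rwa [hP, commutator_eq_bot_iff_le_centralizer] at h3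
  refine Or.inr ⟨Jv M, Jv_le M, le_norm_Jv M, hcent, fun u => mem_Jv, h1, h4,
    fun t ht s hs h b hb ho d hd => ?_, fun t ht s hs h r hr x hx h2 h3 h5 h6 => ?_, fun h => ?_⟩
  · have hb' := (h.mem_B hG.e4).2 ⟨hb.2, ho⟩
    have h2 : ⁅b, d⁆ ∈ Ut t ⊓ 𝐂[s] := by
      have := mul_mem hb' (conj_mem_of_mem_normalizer (h.norm_le_norm_B hG.e4 hd.2) (inv_mem hb'))
      simpa only [commutatorElement_def, mul_assoc] using this
    have h3 : ⁅b, d⁆ ∈ Jv M :=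
      mul_mem (conj_mem_of_mem_normalizer (le_norm_Jv M hb.1) hd.1) (inv_mem hd.1)
    refine Od_le_Od (Jv_le M) (le_norm_Jv M) (mem_Od_top.1 (hq.mem_of_cent (h.coe ht hs)
      (y := ⟨_, h3⟩) ?_ (by rw [← orderOf_coe]; exact odd_of_mem_Ut h2.1)))
    rw [cent_V]
    exact ⟨mem_cent1.2 (Subtype.ext (mem_cent1.1 (Ut_le t h2.1))),
      mem_cent1.2 (Subtype.ext (mem_cent1.1 h2.2))⟩
  · have : Fact r.Prime := ⟨hr⟩
    have := hq.not_dvd (fun y hy => mem_center_iff.2 fun z => Subtype.ext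
      (mem_cent.1 (hZ (mem_Od_top.1 hy)) z z.2)) (by
        refine map_injective (Jv M).subtype_injective ?_
        rw [_root_.commutator_def, map_commutator, ← MonoidHom.range_eq_map, range_subtype, hP])
      (h.coe ht hs) hr h5 (x := ⟨x, hx.1⟩) (mem_cent1.2 (Subtype.ext (mem_cent1.1 hx.2)))
      (by rwa [← orderOf_coe]) (isPGroup_zpowers_iff.2 (by
        rw [← orderOf_coe]; exact isPGroup_zpowers_iff.1 h3)) (Subtype.ext h6)
    rwa [hO, ← card_subgroupOf_of_le (Od_le (Jv M)), show (Od (Jv M)).subgroupOf (Jv M) = Od ⊤ from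
      Subgroup.ext fun _ => mem_Od_top.symm]
  · obtain ⟨h2, h3⟩ := isSimpleGroup_of_Jv (hG.e4.subgroup _) h1.top h4
      (eq_bot_of_forall fun y hy => Subtype.ext (mem_bot.1 (h ▸ hO ▸ mem_Od_top.1 hy)))
      (Jv_top (Jv_Jv M))
    have := (hG.ih _ (card_lt_of_ne_top (ne_top_of_le_ne_top hM (Jv_le M))) h2 h3
      (hG.e4.subgroup _)).map _ (Jv M).subtype_injective
    rwa [← MonoidHom.range_eq_map, range_subtype] at this

end CfsgLib.GW
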