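import Cfsg.Agent.Lib.GW.Basic
import Cfsg.Agent.Lib.GW.Lift
import Cfsg.Agent.Lib.ClassSize2

/-!
# The virtual characters `Θ_λ`
-/

set_option autoImplicit false

namespace CfsgLib.GW

open Subgroup Cfsg CfsgLib.FT CfsgLib.FT.BGN CfsgLib.Blk
open scoped commutatorElement ComplexConjugate

variable {G : Type*} [Group G]

section Count

variable [Finite G] {t s : G}

theorem Four.exists_conj_cases (hG : E4 G) (h : Four t s) {a : G} (ha : Four t a) :
    ∃ n ∈ 𝐂[t], n * a * n⁻¹ = s ∨ n * a * n⁻¹ = t * s := by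
  obtain ⟨n, hn, h1⟩ := h.exists_conj_mem hG h.V_le_cent1 ha.os ha.s_cent
  refine ⟨n, hn, ?_⟩
  rcases h.mem_V.1 h1 with e | e | e | e
  · exact absurd e (U4.conj_ne_one_iff.2 ha.s1)
  · rw [← U4.conj_eq_of_mem_cent1 hn] at e
    exact absurd (by simpa using e) ha.ne.symm
  exacts [Or.inl e, Or.inr e]

theorem relIndex_cent_mul (t s : G) : (𝐂[t * s]).relIndex (Ut t) = (𝐂[s]).relIndex (Ut t) := by
  rw [← inf_relIndex_right, ← inf_relIndex_right (𝐂[s])]
  congr 1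
  ext x
  simp only [mem_inf, U4.mem_cent1]
  refine and_congr_left fun hx => ?_
  rw [← mul_assoc, U4.mem_cent1.1 (Ut_le t hx), mul_assoc, mul_assoc, mul_right_inj]

theorem Four.relIndex_eq (hG : E4 G) (h : Four t s) {a : G} (ha : Four t a) :
    (𝐂[a]).relIndex (Ut t) = (𝐂[s]).relIndex (Ut t) := by
  obtain ⟨n, hn, e⟩ := h.exists_conj_cases hG ha
  rw [← U4.relIndex_conj n, ← U4.cent1_conj, map_conj_eq_of_mem_normalizer (cent_le_norm_Ut t hn)]
  rcases e with e | e <;> rw [e]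
  exact relIndex_cent_mul t s

theorem Four.ncard_J (h : Four t s) :
    {b | orderOf b = 2 ∧ s * b ∈ Ut t}.ncard = (𝐂[s]).relIndex (Ut t) := by
  rw [← Frob.ncard_conj_subgroup]
  congr 1
  ext b
  constructor
  · rintro ⟨h1, h2⟩
    obtain ⟨y, hy, e⟩ := H5.exists_conj_of_odd (s := s) (t := b) (by rw [sq, h.ss])
      (by rw [sq, mul_self_of_inv h1]) (Nat.coprime_two_right.2 (odd_of_mem_Ut h2))
    exact ⟨y⁻¹, inv_mem (zpowers_le.2 h2 hy), by rw [← e]; group⟩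
  · rintro ⟨x, hx, rfl⟩
    refine ⟨by rw [U4.orderOf_conj, h.os], ?_⟩
    have := mul_mem (conj_mem_of_mem_normalizer (cent_le_norm_Ut t h.s_cent) hx) (inv_mem hx)
    rw [h.si] at this
    simpa [mul_assoc] using this

theorem Four.ncard_four (hG : E4 G) (h : Four t s) :
    {a | Four t a}.ncard = 2 * (𝐂[s]).relIndex (Ut t) := by
  have key : ∀ b, Four t b → ∀ a, orderOf a = 2 ∧ b * a ∈ Ut t → Four t a := fun b hb a ha => by
    have h1 : a ∈ 𝐂[t] := by
      have := mul_mem (inv_mem hb.s_cent) (Ut_le t ha.2)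
      rwa [inv_mul_cancel_left] at this
    refine ⟨h.ot, ha.1, U4.mem_cent1'.1 h1, ?_⟩
    rintro rfl
    exact notMem_Od hb.symm.ots ha.2
  have e : {a | Four t a} =
      {b | orderOf b = 2 ∧ s * b ∈ Ut t} ∪ {b | orderOf b = 2 ∧ t * s * b ∈ Ut t} := by
    ext a
    refine ⟨fun ha => ?_, fun ha => ha.elim (key s h a) (key _ h.mul a)⟩
    obtain ⟨u, hu, v, hv, e⟩ := h.exists_mul hG ha.s_cent
    have h2 : v * a ∈ Ut t := by
      have := conj_mem_of_mem_normalizer (cent_le_norm_Ut t (h.V_le_cent1 hv)) hu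
      rwa [inv_eq_of_mul_eq_one_right (h.mul_self_of_mem hv), mul_assoc, e] at this
    rcases h.mem_V.1 hv with rfl | rfl | rfl | rfl
    · exact absurd (one_mul a ▸ h2) (notMem_Od ha.os)
    · exact absurd h2 (notMem_Od ha.ots)
    exacts [Or.inl ⟨ha.os, h2⟩, Or.inr ⟨ha.os, h2⟩]
  rw [e, Set.ncard_union_eq, h.ncard_J, h.mul.ncard_J, relIndex_cent_mul, two_mul]
  rw [Set.disjoint_left]
  rintro a ⟨-, h1⟩ ⟨-, h2⟩
  have := mul_mem h2 (inv_mem h1)
  rw [mul_assoc t, mul_inv_cancel_right] at this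
  exact notMem_Od h.ot this

theorem four_of_mul_mem (ht : orderOf t = 2) {a b : G} (ha : orderOf a = 2) (hb : orderOf b = 2)
    (h : t * (a * b) ∈ Ut t) : Four t a := by
  have h1 : t ∈ zpowers (a * b) := by
    have := mem_zpowers_mul_of_coprime (u := t) (v := t * (a * b))
      (U4.mem_cent1'.1 (Ut_le t h)) (ht ▸ Nat.coprime_two_left.2 (odd_of_mem_Ut h))
    rwa [← mul_assoc, mul_self_of_inv ht, one_mul] at this
  have h2 := H5.inverts_of_mem_zpowers (H5.inverts_mul_left (s := a) (t := b)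
    (by rw [sq, mul_self_of_inv ha]) (by rw [sq, mul_self_of_inv hb])) h1
  refine ⟨ht, ha, ?_, ?_⟩
  · rw [inv_of_inv ht] at h2
    rw [← mul_inv_eq_iff_eq_mul.1 h2]
  · rintro rfl
    rw [← mul_assoc, mul_self_of_inv ht, one_mul] at h
    exact notMem_Od hb h

end Count

/-- A linear character of `U` with `[U, s]` in its kernel. -/
structure GoodLin (t s : G) (l : G → ℂ) : Prop where
  lin : IsLin (Ut t) l
  ker : ⁅Ut t, zpowers s⁆ ≤ cfker (Ut t) l

variable [Fintype G]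

/-- `Θ_λ`. -/
noncomputable def Theta (L : Subgroup G) (t : G) (l : G → ℂ) : G → ℂ :=
  cfInd 𝐂[t] L (tr t ((4 : ℂ) • l))

variable {t s : G} {L : Subgroup G} {l l' φ : G → ℂ}

theorem Four.goodLin_one (h : Four t s) : GoodLin t s (cf1 (Ut t)) :=
  ⟨isLin_cf1, by
    rw [cfker_cf1]
    exact U4.comm_le_left (zpowers_le.2 (cent_le_norm_Ut t h.s_cent))⟩

theorem tr_mem_ZIrr (ht : orderOf t = 2) (hφ : φ ∈ ZIrr 𝐂[t]) : tr t φ ∈ ZIrr 𝐂[t] := by
  induction hφ using Submodule.span_induction with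
  | mem χ hχ =>
    obtain ⟨ε, -, hε⟩ := irr_central_inv hχ ht (U4.self_mem_cent1 t) fun y hy => U4.mem_cent1.1 hy
    have : tr t χ = (ε : ℂ) • χ := funext hε
    rw [this]
    exact intCast_smul_mem (IsIrr.mem_ZIrr hχ) ε
  | zero => exact zero_mem _
  | add _ _ _ _ h1 h2 => exact add_mem h1 h2
  | smul n _ _ h1 => exact Submodule.smul_mem _ n h1

theorem Four.relIndex_Ut (hG : E4 G) (h : Four t s) : (Ut t).relIndex 𝐂[t] = 4 := by
  rw [U4.IsComplIn.relIndex_left (h.isComplIn hG), h.card_V]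

namespace GoodLin

variable (hG : E4 G) (h : Four t s) (hl : GoodLin t s l)
include hG h hl

theorem mem_CF : l ∈ CF 𝐂[t] := by
  refine ⟨fun x hx => hl.lin.mem_CF.1 x fun h' => hx (Ut_le t h'), fun y hy x => ?_⟩
  by_cases hx : x ∈ Ut t
  swap
  · rw [hl.lin.mem_CF.1 x hx, hl.lin.mem_CF.1 _ fun h' => hx ((norm_conj_mem
      (cent_le_norm_Ut t hy)).1 h')]
  have hs : ∀ x ∈ Ut t, l (s * x * s⁻¹) = l x := fun x hx => by
    have := cfker_mul_right hl.lin.mem_CF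
      (hl.ker (commutator_mem_commutator (inv_mem hx) (mem_zpowers s))) x
    rw [← this, commutatorElement_def]
    congr 1
    group
  obtain ⟨u, hu, v, hv, rfl⟩ := h.exists_mul hG hy
  rw [show u * v * x * (u * v)⁻¹ = u * (v * x * v⁻¹) * u⁻¹ by group, hl.lin.mem_CF.2 u hu]
  have ht : ∀ x ∈ Ut t, t * x * t⁻¹ = x := fun x hx =>
    U4.conj_eq_of_mem_cent1 (U4.mem_cent1_comm.1 (Ut_le t hx))
  rcases h.mem_V.1 hv with rfl | rfl | rfl | rfl
  · simp
  · rw [ht x hx]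
  · exact hs x hx
  · rw [h.comm, show s * t * x * (s * t)⁻¹ = s * (t * x * t⁻¹) * s⁻¹ by group, ht x hx, hs x hx]

theorem psi_ZIrr : tr t ((4 : ℂ) • l) ∈ ZIrr 𝐂[t] := by
  refine tr_mem_ZIrr h.ot ?_
  have := ZIrr_cfInd (Ut_le t) hl.lin.isChar.mem_ZIrr
  rwa [cfInd_of_invariant (Ut_le t) (cent_le_norm_Ut t) hl.lin.mem_CF
    (le_inertia (hl.mem_CF hG h)), h.relIndex_Ut hG, Nat.cast_ofNat] at this

theorem psi_CFon : tr t ((4 : ℂ) • l) ∈ CFon 𝐂[t] (secT t) := by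
  refine ⟨ZIrr_mem_CF (hl.psi_ZIrr hG h), fun x hx => ?_⟩
  rw [tr, Pi.smul_apply, hl.lin.mem_CF.1 _ fun h' => hx ⟨?_, Nat.coprime_two_right.2
    (odd_of_mem_Ut h')⟩, smul_zero]
  have := mul_mem (inv_mem (U4.self_mem_cent1 t)) (Ut_le t h')
  rw [inv_mul_cancel_left] at this
  exact U4.mem_cent1.1 this

theorem Theta_ZIrr (hL : 𝐂[t] ≤ L) : Theta L t l ∈ ZIrr L := ZIrr_cfInd hL (hl.psi_ZIrr hG h)

theorem Theta_odd {g : G} (hg : Odd (orderOf g)) : Theta L t l g = 0 :=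
  cfInd_eq_zero fun x _ _ => (hl.psi_CFon hG h).2 _ fun h' =>
    not_odd_of_mem_secT h.ot h' (by rw [U4.orderOf_conj]; exact Nat.coprime_two_right.2 hg)

theorem cfdot_Theta (hL : 𝐂[t] ≤ L) (hφ : φ ∈ CF L) :
    cfdot L φ (Theta L t l) = cfdot (Ut t) (tr t φ) l := by
  have e : φ = tr t (tr t φ) := by
    ext g
    rw [tr, tr, ← mul_assoc, h.tt, one_mul]
  rw [Theta, cfdot_cfInd_right hL hφ, e, cfdot_tr (U4.self_mem_cent1 t), ← e, cfdot_smul_right,
    ← cfdot_conj (L := Ut t), cfdot_of_supp_subgroup (Ut_le t) hl.lin.mem_CF.1, h.relIndex_Ut hG,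
    map_mul, cfdot_conj]
  simp [map_ofNat]

theorem cfdot_Theta_Theta (hL : 𝐂[t] ≤ L) (hl' : GoodLin t s l') :
    cfdot L (Theta L t l) (Theta L t l') = 4 * cfdot (Ut t) l l' := by
  rw [Theta, Theta, normedTI_isometry ((normedTI_secT h.ot).restrict hL le_top) (hl.psi_CFon hG h)
    (hl'.psi_CFon hG h), cfdot_tr (U4.self_mem_cent1 t), cfdot_smul_left, cfdot_smul_right,
    cfdot_of_supp_subgroup (Ut_le t) hl.lin.mem_CF.1, h.relIndex_Ut hG]
  simp [map_ofNat]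

theorem apply_eq_one {a u : G} (ha : Four t a) (hu : u ∈ Ut t) (hi : a * u * a⁻¹ = u⁻¹) :
    l u = 1 := by
  obtain ⟨n, hn, e⟩ := h.exists_conj_cases hG ha
  have h1 := conj_mem_of_mem_normalizer (cent_le_norm_Ut t hn) hu
  have h2 : n * a * n⁻¹ * (n * u * n⁻¹) * (n * a * n⁻¹)⁻¹ = (n * u * n⁻¹)⁻¹ := by
    rw [conj_inv, conj_mul, conj_mul, hi, conj_inv]
  have h3 : s * (n * u * n⁻¹) * s⁻¹ = (n * u * n⁻¹)⁻¹ := by
    rcases e with e | e <;> rw [e] at h2
    · exact h2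
    · rw [← h2, h.comm, show s * t * (n * u * n⁻¹) * (s * t)⁻¹ =
        s * (t * (n * u * n⁻¹) * t⁻¹) * s⁻¹ by group,
        U4.conj_eq_of_mem_cent1 (U4.mem_cent1_comm.1 (Ut_le t h1))]
  rw [← (hl.mem_CF hG h).2 n hn, cfker_apply
    (hl.ker (mem_commutator_of_inverted (odd_of_mem_Ut h1) h3 h1)), hl.lin.one]

end GoodLin

theorem sum_conj_inv (ht : orderOf t = 2) (hL : 𝐂[t] ≤ L) (h1 : OneCl L) (F : G → ℂ) :
    ∑ x ∈ elems (L : Set G), F (x * t * x⁻¹) =
      Nat.card 𝐂[t] * ∑ a ∈ elems {a | a ∈ L ∧ orderOf a = 2}, F a := by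
  classical
  have htL := hL (U4.self_mem_cent1 t)
  rw [← Finset.sum_fiberwise_of_maps_to (g := fun x => x * t * x⁻¹)
    (t := elems {a | a ∈ L ∧ orderOf a = 2}) (fun x hx => mem_elems.2 ⟨mul_mem (mul_mem
      (mem_elems.1 hx) htL) (inv_mem (mem_elems.1 hx)), by rw [U4.orderOf_conj, ht]⟩),
    Finset.mul_sum]
  refine Finset.sum_congr rfl fun a ha => ?_
  obtain ⟨z, hz, rfl⟩ := h1 t htL a (mem_elems.1 ha).1 ht (mem_elems.1 ha).2
  rw [Finset.sum_congr rfl (g := fun _ => F (z * t * z⁻¹))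
    fun x hx => by rw [(Finset.mem_filter.1 hx).2], Finset.sum_const]
  have := card_filter_conj_eq (x := t) hz
  rw [inf_eq_right.2 hL] at this
  rw [← this, nsmul_eq_mul]

theorem GoodLin.sum_Theta (hG : E4 G) (h : Four t s) (hl : GoodLin t s l) (hL : 𝐂[t] ≤ L)
    (h1 : OneCl L) : ∑ z ∈ elems (L : Set G), Theta L t l (t * (z * t * z⁻¹)) =
      Nat.card 𝐂[t] * (8 * ((𝐂[s]).relIndex (Ut t) : ℂ) ^ 2) := by
  classical
  have htL := hL (U4.self_mem_cent1 t)
  set ψ := tr t ((4 : ℂ) • l) with hψ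
  set I := elems {a | a ∈ L ∧ orderOf a = 2} with hI
  set m := (𝐂[s]).relIndex (Ut t) with hm
  have e1 : ∀ z ∈ elems (L : Set G), Theta L t l (t * (z * t * z⁻¹)) = (Nat.card 𝐂[t] : ℂ)⁻¹ *
      ∑ x ∈ elems (L : Set G), ψ (x * (t * (z * t * z⁻¹)) * x⁻¹) := fun z hz =>
    cfInd_apply' (CFon_CF (hl.psi_CFon hG h)).1
      (mul_mem htL (mul_mem (mul_mem (mem_elems.1 hz) htL) (inv_mem (mem_elems.1 hz))))
  have e2 : ∀ x ∈ elems (L : Set G),
      ∑ z ∈ elems (L : Set G), ψ (x * (t * (z * t * z⁻¹)) * x⁻¹) =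
        Nat.card 𝐂[t] * ∑ b ∈ I, ψ (x * t * x⁻¹ * b) := fun x hx => by
    rw [← sum_conj_inv h.ot hL h1 fun b => ψ (x * t * x⁻¹ * b),
      ← sum_elems_mul_left (mem_elems.1 hx) fun w => ψ (x * t * x⁻¹ * (w * t * w⁻¹))]
    refine Finset.sum_congr rfl fun z _ => ?_
    congr 1
    group
  have e3 : ∀ a ∈ I, ∑ b ∈ I, ψ (a * b) = if Four t a then 4 * (m : ℂ) else 0 := fun a ha => by
    have ha2 := (mem_elems.1 ha).2
    split_ifs with h4
    · rw [← Finset.sum_subset (s₁ := elems {b | orderOf b = 2 ∧ t * a * b ∈ Ut t}),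
        Finset.sum_congr rfl (g := fun _ => (4 : ℂ)), Finset.sum_const, card_elems_set,
        h4.mul.ncard_J, h.relIndex_eq hG h4.mul, nsmul_eq_mul, mul_comm]
      · intro b hb
        obtain ⟨hb2, hb⟩ := mem_elems.1 hb
        rw [hψ, tr, Pi.smul_apply, ← mul_assoc, hl.apply_eq_one hG h h4 hb, smul_eq_mul, mul_one]
        have hbt : b * t = t * b := by
          have := mul_mem (inv_mem h4.mul.s_cent) (Ut_le t hb)
          rw [inv_mul_cancel_left] at this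
          exact U4.mem_cent1.1 this
        rw [mul_inv_rev, mul_inv_rev, h4.si, h4.ti, inv_of_inv hb2, ← h4.comm, ← mul_assoc b, hbt,
          ← mul_assoc, ← mul_assoc, ← h4.comm, mul_assoc t, h4.ss, mul_one]
      · intro b hb
        obtain ⟨hb2, hb⟩ := mem_elems.1 hb
        have := mul_mem (inv_mem h4.mul.s_cent) (Ut_le t hb)
        rw [inv_mul_cancel_left] at this
        exact mem_elems.2 ⟨hL this, hb2⟩
      · intro b hb hb'
        rw [hψ, tr, Pi.smul_apply, hl.lin.mem_CF.1 _ fun h' => hb' (mem_elems.2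
          ⟨(mem_elems.1 hb).2, by rwa [mul_assoc]⟩), smul_zero]
    · refine Finset.sum_eq_zero fun b hb => ?_
      rw [hψ, tr, Pi.smul_apply, hl.lin.mem_CF.1 _ fun h' =>
        h4 (four_of_mul_mem h.ot ha2 (mem_elems.1 hb).2 h'), smul_zero]
  have e4 : I.filter (Four t) = elems {a | Four t a} := by
    ext a
    simp only [hI, Finset.mem_filter, mem_elems, Set.mem_setOf_eq]
    exact ⟨fun h => h.2, fun h => ⟨⟨hL h.s_cent, h.os⟩, h⟩⟩
  rw [Finset.sum_congr rfl e1, ← Finset.mul_sum, Finset.sum_comm, Finset.sum_congr rfl e2,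
    ← Finset.mul_sum, inv_mul_cancel_left₀ (card_ne_zero _),
    sum_conj_inv h.ot hL h1 fun a => ∑ b ∈ I, ψ (a * b), Finset.sum_congr rfl e3,
    ← Finset.sum_filter, e4, Finset.sum_const, card_elems_set, h.ncard_four hG]
  simp only [nsmul_eq_mul, Nat.cast_mul, Nat.cast_ofNat]
  ring

theorem GoodLin.exists_decomp (hG : E4 G) (h : Four t s) (hl : GoodLin t s l) (hL : 𝐂[t] ≤ L)
    (h1 : OneCl L) : ∃ E : Finset (G → ℂ), E.card = 4 ∧ (∀ α ∈ E, IsDirr L α) ∧
      Orthonormal' L E ∧ Theta L t l = ∑ α ∈ E, α ∧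
      ((𝐂[t]).relIndex L : ℂ) * ∑ α ∈ E, α t ^ 2 / α 1 = 8 * ((𝐂[s]).relIndex (Ut t) : ℂ) ^ 2 := by
  have htL := hL (U4.self_mem_cent1 t)
  have hZ := hl.Theta_ZIrr hG h hL
  have hn : cfnorm L (Theta L t l) = 4 := cfnorm_eq_of_cfdot_eq (by
    rw [hl.cfdot_Theta_Theta hG h hL hl, hl.lin.isIrr.cfdot_self]; simp)
  obtain ⟨E, h2, h3, h4, h5⟩ := zchar_eq_sum_dirr hZ fun χ hχ => by
    obtain ⟨n, hn'⟩ := ZIrr_cfdot_int hZ hχ.mem_ZIrr
    by_contra hlt
    rw [hn', Complex.norm_intCast, not_le] at hlt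
    have h6 : (2 : ℝ) ≤ |(n : ℝ)| := by
      have : 1 < |n| := by exact_mod_cast hlt
      exact_mod_cast this
    have h7 : cfdot L (Theta L t l - (n : ℂ) • χ) ((n : ℂ) • χ) = 0 := by
      rw [cfdot_intCast_smul_right, cfdot_sub_left, cfdot_smul_left, hn', hχ.cfdot_self]
      ring
    have h8 := cfnorm_add_of_ortho h7
    rw [sub_add_cancel, hn, cfnorm_intCast_smul, hχ.cfnorm] at h8
    have h9 : cfnorm L (Theta L t l - (n : ℂ) • χ) = 0 :=
      le_antisymm (by nlinarith [sq_abs (n : ℝ)]) cfnorm_nonneg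
    have h10 := apply_eq_zero_of_cfnorm h9 (one_mem L)
    rw [Pi.sub_apply, hl.Theta_odd hG h (by simp), zero_sub, neg_eq_zero, Pi.smul_apply,
      smul_eq_mul, mul_eq_zero] at h10
    rcases h10 with h10 | h10
    · rw [Int.cast_eq_zero.1 h10] at h6
      norm_num at h6
    · exact hχ.one_ne_zero h10
  refine ⟨E, by rw [hn] at h2; exact_mod_cast h2, h3, h4, h5, ?_⟩
  have h6 := hl.sum_Theta hG h hL h1
  have h7 : ∀ α ∈ E, ∑ z ∈ elems (L : Set G), α (t * (z * t * z⁻¹)) =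
      Nat.card L * (α t ^ 2 / α 1) := fun α hα => by
    rcases h3 α hα with hα | hα
    · rw [sum_conj_mul hα t htL]; ring
    · have := sum_conj_mul hα t htL
      simp only [Pi.neg_apply, Finset.sum_neg_distrib] at this
      rw [neg_eq_iff_eq_neg.1 this]
      ring
  rw [h5] at h6
  simp only [Finset.sum_apply] at h6
  rw [Finset.sum_comm, Finset.sum_congr rfl h7, ← Finset.mul_sum, ← card_mul_relIndex hL,
    Nat.cast_mul, mul_assoc] at h6
  exact mul_left_cancel₀ (card_ne_zero _) h6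

theorem Four.sum_V (h : Four t s) (f : G → ℂ) :
    ∑ x ∈ elems (V t s : Set G), f x = f 1 + f t + f s + f (t * s) := by
  classical
  have e : elems (V t s : Set G) = {1, t, s, t * s} := by
    ext x
    simp [h.mem_V]
  have h1 := h.t1.symm
  have h2 := h.s1.symm
  have h3 := h.ts1.symm
  have h4 := h.ne
  have h5 := h.mul.ne
  have h6 : s ≠ t * s := fun e => h.t1 (by simpa using e.symm)
  rw [e, Finset.sum_insert (by simp [h1, h2, h3]), Finset.sum_insert (by simp [h4, h5]),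
    Finset.sum_pair h6]
  ring

theorem OneCl.apply_eq (h1 : OneCl L) (hφ : φ ∈ CF L) {a b : G} (ha : a ∈ L) (hb : b ∈ L)
    (ha2 : orderOf a = 2) (hb2 : orderOf b = 2) : φ a = φ b := by
  obtain ⟨g, hg, rfl⟩ := h1 a ha b hb ha2 hb2
  rw [hφ.2 g hg]

theorem exists_mod_four (h : Four t s) (hL : V t s ≤ L) (h1 : OneCl L) (hφ : φ ∈ ZIrr L) :
    ∃ n : ℤ, φ 1 + 3 * φ t = 4 * n := by
  obtain ⟨n, hn⟩ := ZIrr_cfdot_int (ZIrr_cfRes hL hφ) (cf1_mem_ZIrr (L := V t s))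
  have ht := hL (t_mem_V t s)
  have hs := hL (s_mem_V t s)
  rw [cfdot_cfRes_left, cfdot_cf1_right, h.sum_V, h.card_V,
    h1.apply_eq (ZIrr_mem_CF hφ) hs ht h.os h.ot,
    h1.apply_eq (ZIrr_mem_CF hφ) (mul_mem ht hs) ht h.ots h.ot] at hn
  refine ⟨n, ?_⟩
  rw [← hn]
  push_cast
  ring

/-- The lifting lemma for a set `B` of characters of `U`. -/
theorem exists_lift_U (hG : E4 G) (h : Four t s) (hL : 𝐂[t] ≤ L) (B : Finset (Irr (Ut t)))
    {y : G → ℂ} (hy : y ∈ CF L) (hyi : ∀ g, IsIntegral ℤ (y g))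
    (hB : ∀ β ∈ B, β 1 = 1) (hf : ∀ g ∈ 𝐂[t], y g = ∑ β ∈ B, β g) {α : G → ℂ} (hα : IsDirr L α) :
    (∀ u ∈ Ut t, α (t * u) = ∑ β ∈ B, cfdot (Ut t) (tr t α) β * β u) ∨
      ∀ β ∈ B, cfdot (Ut t) (tr t α) β = 0 := by
  classical
  obtain ⟨R, hR⟩ := exists_val Nat.prime_two
  have htL := hL (U4.self_mem_cent1 t)
  wlog hχ : IsIrr L α generalizing α
  · have h2 := this hα.neg (hα.resolve_left hχ)
    have e : tr t (-α) = -tr t α := rfl
    simp only [e, cfdot_neg_left, Pi.neg_apply, neg_mul, Finset.sum_neg_distrib, neg_inj,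
      neg_eq_zero] at h2
    exact h2
  set f := idem (Ut t) fun β => if β ∈ B then 1 else 0 with hfd
  have h2 : cfRes 𝐂[t] ((Nat.card (Ut t) : ℂ)⁻¹ • cfConjC y) = f := by
    ext g
    by_cases hg : g ∈ 𝐂[t]
    · rw [cfRes_apply hg, hfd, idem_apply, Pi.smul_apply, smul_eq_mul]
      change _ * conj (y g) = _
      rw [hf g hg, map_sum, Finset.mul_sum, ← Finset.sum_subset (Finset.subset_univ B)
        fun β _ hβ => by simp [hβ]]
      exact Finset.sum_congr rfl fun β hβ => by simp [hβ, hB β hβ]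
    · rw [cfRes_apply_of_notMem hg, hfd, (idem_mem_CF _).1 g fun h' => hg (Ut_le t h')]
  have h3 := exists_lift (k := 1) Nat.prime_two hR (u := t) (by rw [pow_one, sq, h.tt]) htL
    (inf_eq_right.2 hL).symm (Submodule.smul_mem _ _ (cfAut_mem_CF _ hy)) (fun g => val_mul_le
      (val_inv_le (val_natCast_eq_one hR (Nat.coprime_two_right.2 (odd_Ut t))))
      (val_le_one_of_isIntegral _ ((hyi g).map (starRingEnd ℂ).toIntAlgHom))) h2
    conv_idem_indicator ⟨α, hχ⟩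
  have h4 : cfRes (Ut t) (tr t α) ∈ CF (Ut t) := by
    refine ⟨fun x hx => cfRes_apply_of_notMem hx, fun y hy x => ?_⟩
    by_cases hx : x ∈ Ut t
    · rw [cfRes_apply hx, cfRes_apply ((conj_mem_iff hy).2 hx), tr, tr,
        ← hχ.mem_CF.2 y (hL (Ut_le t hy)) (t * x), ← mul_assoc y, U4.mem_cent1.1 (Ut_le t hy)]
      simp only [mul_assoc]
    · rw [cfRes_apply_of_notMem hx, cfRes_apply_of_notMem fun h' => hx ((conj_mem_iff hy).1 h')]
  have h5 : ∀ u ∈ Ut t, act f α (t * u) = projB B (tr t α) u := fun u hu => by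
    rw [← projB_cfRes, ← act_idem_indicator h4, act_congr hu (idem_mem_CF _).1
      (ψ := tr t α) fun x hx => cfRes_apply hx]
    simp only [act, tr, mul_assoc]
    rfl
  rcases h3 with h3 | h3
  · refine Or.inl fun u hu => ?_
    rw [← projB_apply, ← h5 u hu]
    exact (h3 u (Ut_le t hu) (Nat.coprime_two_right.2 (odd_of_mem_Ut hu))).symm
  · refine Or.inr fun β hβ => ?_
    have := cfdot_projB (B := B) (φ := tr t α) β
    rw [if_pos hβ] at this
    rw [← this]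
    exact cfdot_eq_zero_of_supp fun u hu => Or.inl ((h5 u hu).symm.trans
      (h3 u (Ut_le t hu) (Nat.coprime_two_right.2 (odd_of_mem_Ut hu))))

end CfsgLib.GW
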